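import Groth.Prelude.Def_EtLim
import Groth.Agent.SiteCoh.ExtAcyclic

/-!
# Pullback maps on étale cohomology: connecting morphisms and degree zero
-/

set_option autoImplicit false
set_option linter.all false
set_option backward.isDefEq.respectTransparency.types false
set_option backward.isDefEq.respectTransparency false
set_option backward.defeqAttrib.useBackward true
set_option synthInstance.maxHeartbeats 400000
set_option maxHeartbeats 1000000

universe u

open CategoryTheory Limits AlgebraicGeometry Opposite CategoryTheory.Abelian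

namespace Groth.Agent.EtLimit

section Generic

universe v₁ u₁ v₂ u₂ w₁ w₂

variable {A : Type u₁} [Category.{v₁} A] [Abelian A] [HasExt.{w₁} A]
  {B : Type u₂} [Category.{v₂} B] [Abelian B] [HasExt.{w₂} B]
  (L : A ⥤ B) [L.Additive] [PreservesFiniteLimits L] [PreservesFiniteColimits L]
  {Z : A} {Z' : B} (e : Z' ⟶ L.obj Z)

/-- Apply an exact functor to a class and compose on both sides. -/
noncomputable def extPull {F : A} {M : B} (α : L.obj F ⟶ M) (n : ℕ) :
    Ext.{w₁} Z F n →+ Ext.{w₂} Z' M n :=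
  AddMonoidHom.mk' (fun x => ((Ext.mk₀ e).comp (x.mapExactFunctor L) (zero_add n)).comp (Ext.mk₀ α) (add_zero n))
    (fun x y => by rw [Ext.mapExactFunctor_add, Ext.comp_add, Ext.add_comp])

theorem extPull_apply {F : A} {M : B} (α : L.obj F ⟶ M) (n : ℕ) (x : Ext.{w₁} Z F n) :
    extPull L e α n x = ((Ext.mk₀ e).comp (x.mapExactFunctor L) (zero_add n)).comp (Ext.mk₀ α) (add_zero n) :=
  rfl

theorem extPull_mk₀ {F : A} {M : B} (α : L.obj F ⟶ M) (g : Z ⟶ F) :
    extPull.{_, _, _, _, w₁, w₂} L e α 0 (Ext.mk₀ g) = Ext.mk₀ (e ≫ L.map g ≫ α) := by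
  rw [extPull_apply, Ext.mapExactFunctor_mk₀, Ext.mk₀_comp_mk₀, Ext.mk₀_comp_mk₀, Category.assoc]

theorem extPull_comp {F F' : A} {M M' : B} (α : L.obj F ⟶ M) (α' : L.obj F' ⟶ M') (g : F ⟶ F') (g' : M ⟶ M')
    (h : L.map g ≫ α' = α ≫ g') (n : ℕ) (x : Ext.{w₁} Z F n) :
    extPull.{_, _, _, _, w₁, w₂} L e α' n (x.comp (Ext.mk₀ g) (add_zero n)) =
      (extPull L e α n x).comp (Ext.mk₀ g') (add_zero n) := by
  rw [extPull_apply, extPull_apply, Ext.mapExactFunctor_comp, Ext.mapExactFunctor_mk₀]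
  simp only [Ext.comp_assoc_of_third_deg_zero, Ext.mk₀_comp_mk₀]
  rw [h]

theorem extPull_extClass {S : ShortComplex A} (hS : S.ShortExact) {S' : ShortComplex B} (hS' : S'.ShortExact)
    (τ : S.map L ⟶ S') (n : ℕ) (y : Ext.{w₁} Z S.X₃ n) :
    extPull.{_, _, _, _, w₁, w₂} L e τ.τ₁ (n + 1) (y.comp hS.extClass rfl) =
      (extPull L e τ.τ₃ n y).comp hS'.extClass rfl := by
  have hp : (S.map L).ShortExact := hS.map_of_exact _
  have e2 : (Ext.mk₀ τ.τ₃).comp hS'.extClass (zero_add 1) = hp.extClass.comp (Ext.mk₀ τ.τ₁) (add_zero 1) :=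
    (ShortComplex.ShortExact.extClass_naturality hp hS' τ).symm
  rw [extPull_apply, extPull_apply, Ext.mapExactFunctor_comp, Ext.mapExactFunctor_extClass]
  rw [Ext.comp_assoc_of_second_deg_zero (β := Ext.mk₀ τ.τ₃), e2]
  simp only [Ext.comp_assoc_of_third_deg_zero]
  exact (Ext.comp_assoc _ _ _ (zero_add n) rfl (by omega)).symm

end Generic

variable {X Y : Scheme.{u}} (f : X ⟶ Y) [PreservesFiniteLimits (EtCoh.pull f)]

/-- The working form of pullback followed by a map of coefficients. -/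
noncomputable abbrev hPull {F : EtCoh.Ab Y} {M : EtCoh.Ab X} (α : (EtCoh.pull f).obj F ⟶ M) (n : ℕ) :
    Ext.{u + 1} (EtCoh.const Y ℤ) F n →+ Ext.{u + 1} (EtCoh.const X ℤ) M n :=
  extPull (EtCoh.pull f) (EtCore.pullConst f ℤ).inv α n

theorem hpullThen_eq (F : EtCoh.Ab Y) {M : EtCoh.Ab X} (α : (EtCoh.pull f).obj F ⟶ M) (n : ℕ)
    (x : Ext.{u + 1} (EtCoh.const Y ℤ) F n) : (EtLim.HpullThen f F α n x : Ext.{u + 1} (EtCoh.const X ℤ) M n) = hPull f α n x := rfl

/-- The section attached to a map out of the constant sheaf. -/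
noncomputable def secOf {F : EtCoh.Ab X} (g : EtCoh.const X ℤ ⟶ F) : F.obj.obj (op (EtCoh.top X)) :=
  ((EtCore.constAdj X).homEquiv _ _ g) (ULift.up 1)

theorem exists_secOf {F : EtCoh.Ab X} (s : F.obj.obj (op (EtCoh.top X))) :
    ∃ g : EtCoh.const X ℤ ⟶ F, secOf g = s := by
  refine ⟨((EtCore.constAdj X).homEquiv _ _).symm (AddCommGrpCat.ofHom (uliftZMultiplesHom _ s)), ?_⟩
  rw [secOf, Equiv.apply_symm_apply]
  exact one_zsmul s

theorem secOf_injective {F : EtCoh.Ab X} {g g' : EtCoh.const X ℤ ⟶ F} (h : secOf g = secOf g') : g = g' := by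
  refine ((EtCore.constAdj X).homEquiv _ _).injective (AddCommGrpCat.hom_ext ((uliftZMultiplesHom _).symm.injective ?_))
  exact h

theorem secOf_zero {F : EtCoh.Ab X} : secOf (0 : EtCoh.const X ℤ ⟶ F) = 0 := by
  rw [secOf, Adjunction.homEquiv_unit, Functor.map_zero, comp_zero]
  rfl

theorem secOf_pull (F : EtCoh.Ab Y) {M : EtCoh.Ab X} (α : (EtCoh.pull f).obj F ⟶ M)
    (g : EtCoh.const Y ℤ ⟶ F) :
    secOf ((EtCore.pullConst f ℤ).inv ≫ (EtCoh.pull f).map g ≫ α) =
      M.obj.map (EtCore.bcTopIso f).inv.op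
        (((EtCoh.pullPushAdj f).homEquiv _ _ α).hom.app (op (EtCoh.top Y)) (secOf g)) := by
  let adj₁ := ((EtCore.constAdj Y).comp (EtCoh.pullPushAdj f)).ofNatIsoRight (EtCore.pushGsecIso f)
  let Zu : AddCommGrpCat.{u + 1} := AddCommGrpCat.of (ULift.{u + 1} ℤ)
  let k := (EtCore.pullConst f ℤ).inv ≫ (EtCoh.pull f).map g ≫ α
  have h1 : adj₁.homEquiv Zu M ((EtCore.pullConstIso f).hom.app Zu ≫ k) = (EtCore.constAdj X).homEquiv Zu M k := by
    rw [adj₁.homEquiv_naturality_right, (EtCore.constAdj X).homEquiv_unit]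
    exact congrArg (· ≫ _) (Adjunction.homEquiv_leftAdjointUniq_hom_app adj₁ (EtCore.constAdj X) Zu)
  have h2 : (EtCore.pullConstIso f).hom.app Zu ≫ k = (EtCoh.pull f).map g ≫ α :=
    (Category.assoc _ _ _).symm.trans ((congrArg (· ≫ _) ((EtCore.pullConst f ℤ).hom_inv_id)).trans (Category.id_comp _))
  have h3 : adj₁.homEquiv Zu M ((EtCoh.pull f).map g ≫ α) =
      (EtCore.constAdj Y).homEquiv Zu _ (g ≫ (EtCoh.pullPushAdj f).homEquiv _ _ α) ≫
        (EtCore.pushGsecIso f).hom.app M := by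
    refine (Adjunction.homEquiv_ofNatIsoRight_apply _ _ _).trans (congrArg (· ≫ _) ?_)
    refine (congrFun (congrArg DFunLike.coe (congrFun (congrFun (Adjunction.comp_homEquiv (EtCore.constAdj Y) (EtCoh.pullPushAdj f)) Zu) M)) _).trans ?_
    exact congrArg ((EtCore.constAdj Y).homEquiv Zu _) ((EtCoh.pullPushAdj f).homEquiv_naturality_left g α)
  show secOf k = _
  rw [secOf, ← h1, h2, h3, Adjunction.homEquiv_naturality_right]
  rfl

theorem exists_eq_mk₀ {F : EtCoh.Ab X} (x : Ext.{u + 1} (EtCoh.const X ℤ) F 0) : ∃ g, x = Ext.mk₀ g := by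
  obtain ⟨g, rfl⟩ := (Ext.mk₀_bijective _ _).2 x
  exact ⟨g, rfl⟩

end Groth.Agent.EtLimit
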