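import Groth.Agent.EtLimit.Sections

/-!
# The limit theorem for `G_m` and `G_a`
-/

set_option autoImplicit false
set_option linter.all false
set_option backward.isDefEq.respectTransparency.types false
set_option backward.isDefEq.respectTransparency false
set_option backward.defeqAttrib.useBackward true
set_option synthInstance.maxHeartbeats 400000
set_option maxHeartbeats 1000000

universe u

open CategoryTheory Limits AlgebraicGeometry Opposite

namespace Groth.Agent.EtLimit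

theorem isSheaf_units_small (X : Scheme.{u}) : Presheaf.IsSheaf X.smallEtaleTopology
    ((Scheme.Etale.forget X ⋙ CategoryTheory.Over.forget X).op ⋙ EtCoh.ΓUnits.{u}) :=
  (EtCoh.Gm X).property

theorem isSheaf_add_small (X : Scheme.{u}) : Presheaf.IsSheaf X.smallEtaleTopology
    ((Scheme.Etale.forget X ⋙ CategoryTheory.Over.forget X).op ⋙ EtCoh.ΓAdd.{u}) :=
  (EtCoh.Ga X).property

/-- The unit underlying a section of the units presheaf. -/
noncomputable abbrev unitOf {X : Scheme.{u}} (x : EtCoh.ΓUnits.obj (op X)) : Γ(X, ⊤)ˣ := Additive.toMul (ULift.down x)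

/-- A unit as a section of the units presheaf. -/
noncomputable abbrev ofUnit {X : Scheme.{u}} (v : Γ(X, ⊤)ˣ) : EtCoh.ΓUnits.obj (op X) := ULift.up (Additive.ofMul v)

theorem unitOf_map {X Y : Scheme.{u}} (m : X ⟶ Y) (x : EtCoh.ΓUnits.obj (op Y)) :
    (unitOf (EtCoh.ΓUnits.map m.op x) : Γ(X, ⊤)) = m.appTop.hom (unitOf x : Γ(Y, ⊤)) :=
  rfl

theorem units_ext {X : Scheme.{u}} {x y : EtCoh.ΓUnits.obj (op X)}
    (h : (unitOf x : Γ(X, ⊤)) = (unitOf y : Γ(X, ⊤))) : x = y :=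
  ULift.ext _ _ (Additive.toMul.injective (Units.ext h))

variable {ι : Type u} [Preorder ι] {Xs : ιᵒᵖ ⥤ Scheme.{u}} [IsDirected ι (· ≤ ·)] [Nonempty ι] {c : Cone Xs}
  (hc : IsLimit c) [haff : ∀ ⦃a b : ιᵒᵖ⦄ (h : a ⟶ b), IsAffineHom (Xs.map h)]

include haff in
omit [IsDirected ι (· ≤ ·)] [Nonempty ι] in
theorem isAffine_push {k l : ι} (h : k ≤ l) (T : (St Xs k).Etale) [IsAffine T.left] :
    IsAffine (push' h T).V.left := by
  haveI : IsAffine ((𝟭 Scheme.{u}).obj T.left) := ‹IsAffine T.left›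
  haveI : IsAffineHom (pullback.fst T.hom (tr Xs h)) := MorphismProperty.pullback_fst _ _ (haff _)
  exact isAffine_of_isAffineHom (pullback.fst T.hom (tr Xs h))

include hc haff in
theorem units_surj (k : ι) (T : (St Xs k).Etale) [IsAffine T.left]
    (x : EtCoh.ΓUnits.obj (op (pullback T.hom (proj c k)))) :
    ∃ (B : Obj Xs) (g : B ⟶ ⟨k, T⟩) (y : EtCoh.ΓUnits.obj (op B.V.left)),
      IsIso ((phi c).map g) ∧
        EtCoh.ΓUnits.map (pullback.fst B.V.hom (proj c B.idx)).op y = EtCoh.ΓUnits.map (phiHom c g).op x := by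
  obtain ⟨l₁, h₁, a, ha⟩ := exists_function_stage hc T (unitOf x : Γ(pullback T.hom (proj c k), ⊤))
  obtain ⟨l₂, h₂, b, hb⟩ := exists_function_stage hc T
    ((unitOf x)⁻¹ : Γ(pullback T.hom (proj c k), ⊤)ˣ).val
  obtain ⟨l, hl₁, hl₂⟩ := exists_ge_ge l₁ l₂
  have hkl : k ≤ l := h₁.trans hl₁
  let s₁ : push' hkl T ⟶ push' h₁ T := stMap h₁ hkl hl₁ T
  let s₂ : push' hkl T ⟶ push' h₂ T := stMap h₂ hkl hl₂ T
  have e₁ : s₁ ≫ down h₁ T = down hkl T := toPush_down _ _ _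
  have e₂ : s₂ ≫ down h₂ T = down hkl T := toPush_down _ _ _
  have key : ∀ {B C D : Obj Xs} (s : B ⟶ C) (t : C ⟶ D) (r : B ⟶ D), s ≫ t = r →
      ∀ (w : Γ(pullback D.V.hom (proj c D.idx), ⊤)) (z : Γ(C.V.left, ⊤)),
        toPhi c C z = (phiHom c t).appTop.hom w → toPhi c B (gMap s z) = (phiHom c r).appTop.hom w := by
    rintro B C D s t _ rfl w z hz
    rw [toPhi_gMap, hz]
    have e : phiHom c (s ≫ t) = phiHom c s ≫ phiHom c t := congrArg (fun m => m.left) ((phi c).map_comp s t)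
    rw [e, Scheme.Hom.comp_appTop, CommRingCat.hom_comp, RingHom.comp_apply]
  have ha' := key s₁ _ _ e₁ _ a ha
  have hb' := key s₂ _ _ e₂ _ b hb
  have hab : toPhi c (push' hkl T) (gMap s₁ a * gMap s₂ b) = toPhi c (push' hkl T) 1 := by
    rw [map_mul, ha', hb', ← map_mul, Units.mul_inv, map_one, map_one]
  haveI := isAffine_push hkl T
  obtain ⟨m, hlm, hm⟩ := exists_function_eq hc (push' hkl T).V (gMap s₁ a * gMap s₂ b) 1 hab
  let d : push' hlm (push' hkl T).V ⟶ push' hkl T := down hlm (push' hkl T).V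
  rw [map_mul, map_one] at hm
  refine ⟨push' hlm (push' hkl T).V, d ≫ down hkl T,
    ofUnit ⟨gMap d (gMap s₁ a), gMap d (gMap s₂ b), hm, (mul_comm _ _).trans hm⟩, ?_, units_ext ?_⟩
  · rw [(phi c).map_comp]
    infer_instance
  · exact (unitOf_map _ _).trans ((key d _ _ rfl _ _ ha').trans (unitOf_map _ _).symm)

include hc haff in
theorem units_inj (k : ι) (T : (St Xs k).Etale) [IsAffine T.left] (y : EtCoh.ΓUnits.obj (op T.left))
    (hy : EtCoh.ΓUnits.map (pullback.fst T.hom (proj c k)).op y = 0) :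
    ∃ (B : Obj Xs) (g : B ⟶ ⟨k, T⟩), IsIso ((phi c).map g) ∧
      EtCoh.ΓUnits.map (show Hom B ⟨k, T⟩ from g).hom.op y = 0 := by
  have h0 : toPhi c ⟨k, T⟩ (unitOf y : Γ(T.left, ⊤)) = toPhi c ⟨k, T⟩ 1 := by
    rw [map_one]
    exact (unitOf_map _ y).symm.trans (congrArg (fun z => (unitOf z).val) hy)
  obtain ⟨l, h, hl⟩ := exists_function_eq hc T (unitOf y : Γ(T.left, ⊤)) 1 h0
  exact ⟨_, down h T, inferInstance, units_ext ((unitOf_map _ y).trans (hl.trans (map_one _)))⟩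

include hc haff in
theorem add_surj (k : ι) (T : (St Xs k).Etale) [IsAffine T.left]
    (x : EtCoh.ΓAdd.obj (op (pullback T.hom (proj c k)))) :
    ∃ (B : Obj Xs) (g : B ⟶ ⟨k, T⟩) (y : EtCoh.ΓAdd.obj (op B.V.left)),
      IsIso ((phi c).map g) ∧
        EtCoh.ΓAdd.map (pullback.fst B.V.hom (proj c B.idx)).op y = EtCoh.ΓAdd.map (phiHom c g).op x := by
  obtain ⟨l, h, a, ha⟩ := exists_function_stage hc T (ULift.down x : Γ(pullback T.hom (proj c k), ⊤))
  exact ⟨_, down h T, ULift.up a, inferInstance, ULift.ext _ _ ha⟩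

include hc haff in
theorem add_inj (k : ι) (T : (St Xs k).Etale) [IsAffine T.left] (y : EtCoh.ΓAdd.obj (op T.left))
    (hy : EtCoh.ΓAdd.map (pullback.fst T.hom (proj c k)).op y = 0) :
    ∃ (B : Obj Xs) (g : B ⟶ ⟨k, T⟩), IsIso ((phi c).map g) ∧
      EtCoh.ΓAdd.map (show Hom B ⟨k, T⟩ from g).hom.op y = 0 := by
  obtain ⟨l, h, hl⟩ := exists_function_eq hc T (ULift.down y : Γ(T.left, ⊤)) 0
    ((congrArg ULift.down hy).trans (map_zero _).symm)
  exact ⟨_, down h T, inferInstance, ULift.ext _ _ (hl.trans (map_zero _))⟩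

variable [∀ a, PreservesFiniteLimits (EtCoh.pull (c.π.app a))]
  [hpl : ∀ ⦃a b : ιᵒᵖ⦄ (h : a ⟶ b), PreservesFiniteLimits (EtCoh.pull (Xs.map h))]
  [∀ a, CompactSpace ↥(Xs.obj a)] [∀ a, QuasiSeparatedSpace ↥(Xs.obj a)]

theorem hGmPull_eq {X Y : Scheme.{u}} (f : X ⟶ Y) [PreservesFiniteLimits (EtCoh.pull f)] (n : ℕ)
    (x : CategoryTheory.Abelian.Ext.{u + 1} (EtCoh.const Y ℤ) (EtCoh.Gm Y) n) :
    (EtLim.HGmPull f n x : CategoryTheory.Abelian.Ext.{u + 1} (EtCoh.const X ℤ) (EtCoh.Gm X) n) =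
      hPull f (funPull isSheaf_units_small f) n x := by
  refine Eq.trans ?_ ((extPull_comp (EtCoh.pull f) (EtCore.pullConst f ℤ).inv _
    ((EtCoh.pullPushAdj f).counit.app (EtCoh.Gm X)) (EtLim.GmPush f) (𝟙 _) (Category.comp_id _).symm n x).trans
    (CategoryTheory.Abelian.Ext.comp_mk₀_id _))
  rfl

theorem hGaPull_eq {X Y : Scheme.{u}} (f : X ⟶ Y) [PreservesFiniteLimits (EtCoh.pull f)] (n : ℕ)
    (x : CategoryTheory.Abelian.Ext.{u + 1} (EtCoh.const Y ℤ) (EtCoh.Ga Y) n) :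
    (EtLim.HGaPull f n x : CategoryTheory.Abelian.Ext.{u + 1} (EtCoh.const X ℤ) (EtCoh.Ga X) n) =
      hPull f (funPull isSheaf_add_small f) n x := by
  refine Eq.trans ?_ ((extPull_comp (EtCoh.pull f) (EtCore.pullConst f ℤ).inv _
    ((EtCoh.pullPushAdj f).counit.app (EtCoh.Ga X)) (EtLim.GaPush f) (𝟙 _) (Category.comp_id _).symm n x).trans
    (CategoryTheory.Abelian.Ext.comp_mk₀_id _))
  rfl

end Groth.Agent.EtLimit
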