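import Groth.Prelude.Def_EtLim
import Mathlib.CategoryTheory.Adjunction.Unique

/-!
# Sections and composition of inverse images
-/

set_option autoImplicit false
set_option linter.all false
set_option backward.isDefEq.respectTransparency.types false
set_option backward.isDefEq.respectTransparency false
set_option backward.defeqAttrib.useBackward true
set_option synthInstance.maxHeartbeats 400000
set_option maxHeartbeats 1000000

universe u

open CategoryTheory Limits AlgebraicGeometry Opposite

namespace Groth.Agent.EtLimit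

variable {X Y Z : Scheme.{u}}

/-- The effect on sections of a morphism out of an inverse image. -/
noncomputable abbrev adjSect (f : X ⟶ Y) {F : EtCoh.Ab Y} {M : EtCoh.Ab X} (a : (EtCoh.pull f).obj F ⟶ M)
    (V : Y.Etale) : F.obj.obj (op V) ⟶ M.obj.obj (op ((EtCoh.bc f).obj V)) :=
  ((EtCoh.pullPushAdj f).homEquiv F M a).hom.app (op V)

/-- Base change along a composite, compared with iterated base change. -/
noncomputable def bcSplit {f : X ⟶ Y} {g : Y ⟶ Z} {h : X ⟶ Z} (e : h = f ≫ g) (V : Z.Etale) :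
    (EtCoh.bc h).obj V ⟶ (EtCoh.bc f).obj ((EtCoh.bc g).obj V) :=
  MorphismProperty.Over.homMk
    (pullback.lift (pullback.lift (pullback.fst V.hom h) (pullback.snd V.hom h ≫ f)
        (by rw [Category.assoc, ← e]; exact pullback.condition))
      (pullback.snd V.hom h) (pullback.lift_snd _ _ _))
    (pullback.lift_snd _ _ _) trivial

theorem bcSplit_eq (f : X ⟶ Y) (g : Y ⟶ Z) (V : Z.Etale) :
    bcSplit (rfl : f ≫ g = f ≫ g) V =
      (MorphismProperty.Over.pullbackComp (P := EtCoh.etaleMP) (Q := ⊤) f g).hom.app V := by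
  refine (Scheme.Etale.forget X ⋙ CategoryTheory.Over.forget X).map_injective
    (pullback.hom_ext (pullback.hom_ext ?_ ?_) ?_)
  · refine (congrArg (· ≫ _) (pullback.lift_fst _ _ _)).trans ((pullback.lift_fst _ _ _).trans ?_)
    exact (MorphismProperty.Over.pullbackComp_left_fst_fst (P := EtCoh.etaleMP) (Q := ⊤) f g V).symm.trans
      (Category.assoc _ _ _).symm
  · refine (congrArg (· ≫ _) (pullback.lift_fst _ _ _)).trans ((pullback.lift_snd _ _ _).trans ?_)
    refine Eq.trans ?_ ((congrArg (_ ≫ ·) pullback.condition.symm).trans (Category.assoc _ _ _).symm)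
    exact (congrArg (· ≫ f) (CategoryTheory.Over.w
      ((MorphismProperty.Over.pullbackComp (P := EtCoh.etaleMP) (Q := ⊤) f g).hom.app V).hom)).symm.trans
      (Category.assoc _ _ _)
  · exact (pullback.lift_snd _ _ _).trans (CategoryTheory.Over.w
      ((MorphismProperty.Over.pullbackComp (P := EtCoh.etaleMP) (Q := ⊤) f g).hom.app V).hom).symm

/-- Sections of a composite morphism out of a composite inverse image. -/
theorem adjSect_pullComp {f : X ⟶ Y} {g : Y ⟶ Z} {h : X ⟶ Z} (e : h = f ≫ g) {F : EtCoh.Ab Z} {G : EtCoh.Ab Y}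
    {M : EtCoh.Ab X} (a : (EtCoh.pull g).obj F ⟶ G) (b : (EtCoh.pull f).obj G ⟶ M) (V : Z.Etale)
    (x : F.obj.obj (op V)) :
    adjSect h ((EtCore.pullCongr e ≪≫ EtCore.pullComp f g).hom.app F ≫ (EtCoh.pull f).map a ≫ b) V x =
      M.obj.map (bcSplit e V).op (adjSect f b ((EtCoh.bc g).obj V) (adjSect g a V x)) := by
  subst e
  have h0 : (EtCore.pullCongr (rfl : f ≫ g = f ≫ g) ≪≫ EtCore.pullComp f g).hom.app F =
      (EtCore.pullComp f g).hom.app F := by
    simp [EtCore.pullCongr]
  let adj₂ := ((EtCoh.pullPushAdj g).comp (EtCoh.pullPushAdj f)).ofNatIsoRight (EtCoh.pushComp g f)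
  let m := (EtCoh.pull f).map a ≫ b
  have h1 : (EtCoh.pullPushAdj (f ≫ g)).homEquiv F M ((EtCore.pullComp f g).hom.app F ≫ m) = adj₂.homEquiv F M m := by
    rw [Adjunction.homEquiv_naturality_right, adj₂.homEquiv_unit]
    exact congrArg (· ≫ _) (Adjunction.homEquiv_leftAdjointUniq_hom_app (EtCoh.pullPushAdj (f ≫ g)) adj₂ F)
  have h2 : adj₂.homEquiv F M m = ((EtCoh.pullPushAdj g).homEquiv F G a ≫
      (EtCoh.push g).map ((EtCoh.pullPushAdj f).homEquiv G M b)) ≫ (EtCoh.pushComp g f).hom.app M := by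
    refine (Adjunction.homEquiv_ofNatIsoRight_apply _ _ _).trans (congrArg (· ≫ _) ?_)
    refine (congrFun (congrArg DFunLike.coe (congrFun (congrFun
      (Adjunction.comp_homEquiv (EtCoh.pullPushAdj g) (EtCoh.pullPushAdj f)) F) M)) _).trans ?_
    refine (congrArg ((EtCoh.pullPushAdj g).homEquiv F _) ((EtCoh.pullPushAdj f).homEquiv_naturality_left a b)).trans ?_
    exact (EtCoh.pullPushAdj g).homEquiv_naturality_right a _
  rw [h0, bcSplit_eq]
  show ((EtCoh.pullPushAdj (f ≫ g)).homEquiv F M ((EtCore.pullComp f g).hom.app F ≫ m)).hom.app (op V) x = _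
  rw [h1, h2]
  rfl

end Groth.Agent.EtLimit
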