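import Groth.Agent.EtLimit.Site
import Groth.Agent.EtLimit.PullSect

/-!
# Sheaves on the total site from compatible systems of sheaves
-/

set_option autoImplicit false
set_option linter.all false
set_option backward.isDefEq.respectTransparency.types false
set_option backward.isDefEq.respectTransparency false
set_option backward.defeqAttrib.useBackward true
set_option synthInstance.maxHeartbeats 400000
set_option maxHeartbeats 1000000

universe u

open CategoryTheory Limits AlgebraicGeometry Opposite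

namespace Groth.Agent.EtLimit

variable {ι : Type u} [Preorder ι] {Xs : ιᵒᵖ ⥤ Scheme.{u}}
  (F : ∀ i : ι, EtCoh.Ab (Xs.obj (op i)))
  (φ : ∀ ⦃i j : ι⦄ (h : i ≤ j), (EtCoh.pull (Xs.map (homOfLE h).op)).obj (F i) ⟶ F j)

/-- A morphism as a morphism into the base change of its target. -/
noncomputable def overBar {A B : Obj Xs} (f : A ⟶ B) :
    A.V ⟶ (EtCoh.bc (tr Xs (show Hom A B from f).le)).obj B.V :=
  MorphismProperty.Over.homMk
    (pullback.lift (show Hom A B from f).hom A.V.hom (show Hom A B from f).w) (pullback.lift_snd _ _ _) trivial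

theorem overBar_ext {A B : Obj Xs} {h : B.idx ≤ A.idx} {a b : A.V ⟶ (EtCoh.bc (tr Xs h)).obj B.V}
    (e : a.left ≫ pullback.fst B.V.hom (tr Xs h) = b.left ≫ pullback.fst B.V.hom (tr Xs h)) : a = b :=
  (Scheme.Etale.forget _ ⋙ CategoryTheory.Over.forget _).map_injective
    (pullback.hom_ext e ((CategoryTheory.Over.w a.hom).trans (CategoryTheory.Over.w b.hom).symm))

/-- The action of a morphism of the total site on sections. -/
noncomputable def act {A B : Obj Xs} (f : A ⟶ B) :
    (F B.idx).obj.obj (op B.V) ⟶ (F A.idx).obj.obj (op A.V) :=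
  adjSect (tr Xs (show Hom A B from f).le) (φ (show Hom A B from f).le) B.V ≫ (F A.idx).obj.map (overBar f).op

theorem act_incl_left {j : ι} {A' A : (St Xs j).Etale} (g : A' ⟶ A) {B : Obj Xs}
    (f : (⟨j, A⟩ : Obj Xs) ⟶ B) (x : (F B.idx).obj.obj (op B.V)) :
    (F j).obj.map g.op (act F φ f x) = act F φ ((incl Xs j).map g ≫ f) x := by
  refine (ConcreteCategory.congr_hom ((F j).obj.map_comp (overBar f).op g.op) _).symm.trans ?_
  refine congrArg (fun m => (F j).obj.map (Quiver.Hom.op m) _) (overBar_ext (B := B) (A := ⟨j, A'⟩)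
    (show (g.left ≫ _) ≫ _ = pullback.lift _ _ _ ≫ _ from ?_))
  exact (Category.assoc _ _ _).trans ((congrArg (g.left ≫ ·) (pullback.lift_fst _ _ _)).trans
    (pullback.lift_fst _ _ _).symm)

theorem act_incl_right {A : Obj Xs} {j : ι} {B' B : (St Xs j).Etale} (g : B' ⟶ B)
    (f : A ⟶ (⟨j, B'⟩ : Obj Xs)) (x : (F j).obj.obj (op B)) :
    act F φ f ((F j).obj.map g.op x) = act F φ (f ≫ (incl Xs j).map g) x := by
  let h := (show Hom A ⟨j, B'⟩ from f).le
  refine (congrArg ((F A.idx).obj.map (overBar f).op)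
    (NatTrans.naturality_apply ((EtCoh.pullPushAdj (tr Xs h)).homEquiv (F j) (F A.idx) (φ h)).hom g.op x)).trans ?_
  refine (ConcreteCategory.congr_hom ((F A.idx).obj.map_comp ((EtCoh.bc (tr Xs h)).map g).op (overBar f).op) _).symm.trans ?_
  refine congrArg (fun m => (F A.idx).obj.map (Quiver.Hom.op m) _) (overBar_ext (B := ⟨j, B⟩) (A := A)
    (show (pullback.lift _ _ _ ≫ _) ≫ _ = pullback.lift _ _ _ ≫ _ from ?_))
  refine (Category.assoc _ _ _).trans ((congrArg (_ ≫ ·) (EtCoh.isPullback_bc_map (tr Xs h) g).w).trans ?_)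
  exact (Category.assoc _ _ _).symm.trans ((congrArg (· ≫ g.left) (pullback.lift_fst _ _ _)).trans
    (pullback.lift_fst _ _ _).symm)

variable (hφ : ∀ ⦃i j k : ι⦄ (hij : i ≤ j) (hjk : j ≤ k),
      φ (hij.trans hjk) = (EtLim.pullTrans Xs hij hjk).hom.app (F i) ≫
        (EtCoh.pull (Xs.map (homOfLE hjk).op)).map (φ hij) ≫ φ hjk)

include hφ in
theorem act_act {A B C : Obj Xs} (f : A ⟶ B) (g : B ⟶ C) (x : (F C.idx).obj.obj (op C.V)) :
    act F φ f (act F φ g x) = act F φ (f ≫ g) x := by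
  let h₁ := (show Hom B C from g).le
  let h₂ := (show Hom A B from f).le
  let G := (F A.idx).obj
  let y := adjSect (tr Xs h₂) (φ h₂) ((EtCoh.bc (tr Xs h₁)).obj C.V) (adjSect (tr Xs h₁) (φ h₁) C.V x)
  refine (congrArg (G.map (overBar f).op)
    (NatTrans.naturality_apply ((EtCoh.pullPushAdj (tr Xs h₂)).homEquiv (F B.idx) (F A.idx) (φ h₂)).hom (overBar g).op
      (adjSect (tr Xs h₁) (φ h₁) C.V x))).trans ?_
  refine (ConcreteCategory.congr_hom (G.map_comp ((EtCoh.bc (tr Xs h₂)).map (overBar g)).op (overBar f).op) y).symm.trans ?_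
  have e : adjSect (tr Xs (h₁.trans h₂)) (φ (h₁.trans h₂)) C.V x =
      G.map (bcSplit (tr_comp Xs h₁ h₂).symm C.V).op y := by
    rw [hφ h₁ h₂]
    exact adjSect_pullComp (tr_comp Xs h₁ h₂).symm (φ h₁) (φ h₂) C.V x
  refine Eq.trans ?_ (congrArg (G.map (overBar (f ≫ g)).op) e).symm
  refine Eq.trans ?_ (ConcreteCategory.congr_hom (G.map_comp (bcSplit (tr_comp Xs h₁ h₂).symm C.V).op
    (overBar (f ≫ g)).op) y)
  refine congrArg (fun m => G.map (Quiver.Hom.op m) y) (overBar_ext (A := A) (B := ⟨B.idx, _⟩) ?_)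
  refine (Category.assoc _ _ _).trans (Eq.trans ?_ (Category.assoc _ _ _).symm)
  refine (congrArg (_ ≫ ·) (EtCoh.isPullback_bc_map (tr Xs h₂) (overBar g)).w).trans ?_
  refine (Category.assoc _ _ _).symm.trans ((congrArg (· ≫ _) (pullback.lift_fst _ _ _)).trans ?_)
  refine Eq.trans ?_ (congrArg (_ ≫ ·) (pullback.lift_fst _ _ _)).symm
  apply pullback.hom_ext
  · refine (Category.assoc _ _ _).trans ((congrArg (_ ≫ ·) (pullback.lift_fst _ _ _)).trans ?_)
    refine Eq.trans ?_ (((congrArg (_ ≫ ·) (pullback.lift_fst _ _ _)).symm.trans (Category.assoc _ _ _).symm))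
    exact (pullback.lift_fst _ _ _).symm
  · refine (Category.assoc _ _ _).trans ((congrArg (_ ≫ ·) (pullback.lift_snd _ _ _)).trans ?_)
    refine Eq.trans ?_ (((congrArg (_ ≫ ·) (pullback.lift_snd _ _ _)).symm.trans (Category.assoc _ _ _).symm))
    refine (show Hom A B from f).w.trans ?_
    exact (congrArg (· ≫ tr Xs h₂) (pullback.lift_snd _ _ _).symm).trans (Category.assoc _ _ _)

/-- The sections fixed by the identity. -/
noncomputable def fixedSect (A : Obj Xs) : AddSubgroup ((F A.idx).obj.obj (op A.V)) :=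
  (act F φ (𝟙 A)).hom.eqLocus (AddMonoidHom.id _)

theorem mem_fixedSect {A : Obj Xs} (x : (F A.idx).obj.obj (op A.V)) :
    x ∈ fixedSect F φ A ↔ act F φ (𝟙 A) x = x := Iff.rfl

include hφ in
theorem act_mem {A B : Obj Xs} (f : A ⟶ B) (x : (F B.idx).obj.obj (op B.V)) :
    act F φ f x ∈ fixedSect F φ A := by
  rw [mem_fixedSect, act_act F φ hφ, Category.id_comp]

/-- The presheaf of a system. -/
noncomputable def sysPre : (Obj Xs)ᵒᵖ ⥤ AddCommGrpCat.{u + 1} where
  obj A := AddCommGrpCat.of (fixedSect F φ A.unop)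
  map {A B} f := AddCommGrpCat.ofHom
    (((act F φ f.unop).hom.comp (fixedSect F φ A.unop).subtype).codRestrict (fixedSect F φ B.unop)
      (fun x => act_mem F φ hφ f.unop x.1))
  map_id A := ConcreteCategory.hom_ext _ _ fun x => Subtype.ext ((mem_fixedSect F φ x.1).1 x.2)
  map_comp {A B C} f g := ConcreteCategory.hom_ext _ _ fun x => Subtype.ext (act_act F φ hφ g.unop f.unop x.1).symm

theorem act_fixed_incl {j : ι} {A' A : (St Xs j).Etale} (g : A' ⟶ A) (x : (F j).obj.obj (op A))
    (hx : x ∈ fixedSect F φ ⟨j, A⟩) : act F φ ((incl Xs j).map g) x = (F j).obj.map g.op x := by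
  exact (congrArg (fun m => act F φ m x) (Category.comp_id ((incl Xs j).map g))).symm.trans
    ((act_incl_left F φ g (𝟙 _) x).symm.trans (congrArg ((F j).obj.map g.op) ((mem_fixedSect F φ (A := ⟨j, A⟩) x).1 hx)))

include hφ in
theorem isSheaf_sysPre : Presheaf.IsSheaf (topology Xs) (sysPre F φ hφ) := by
  refine (Presheaf.isSheaf_iff_isSheaf_forget _ _ (CategoryTheory.forget AddCommGrpCat.{u + 1})).2
    ((isSheaf_iff_isSheaf_of_type _ _).2 fun A S hS => ?_)
  obtain ⟨i, V⟩ := A
  let T : Sieve V := S.functorPullback (incl Xs i)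
  have hsh : ∀ (j : ι) (W : (St Xs j).Etale) (R : Sieve W), R ∈ (St Xs j).smallEtaleTopology W →
      Presieve.IsSheafFor ((F j).obj ⋙ CategoryTheory.forget AddCommGrpCat.{u + 1}) R.arrows := fun j W R hR =>
    ((isSheaf_iff_isSheaf_of_type _ _).1 ((Presheaf.isSheaf_iff_isSheaf_forget _ (F j).obj
      (CategoryTheory.forget AddCommGrpCat.{u + 1})).1 (F j).property)) R hR
  have hT : T ∈ (St Xs i).smallEtaleTopology V :=
    Functor.cover_lift (J := (St Xs i).smallEtaleTopology) (incl Xs i) (topology Xs) hS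
  intro x hx
  let x' : Presieve.FamilyOfElements ((F i).obj ⋙ CategoryTheory.forget AddCommGrpCat.{u + 1}) T.arrows :=
    fun W g hg => (x ((incl Xs i).map g) hg).1
  have hx' : x'.Compatible := fun W₁ W₂ Z g₁ g₂ f₁ f₂ h₁ h₂ e => by
    show (F i).obj.map g₁.op (x' f₁ h₁) = (F i).obj.map g₂.op (x' f₂ h₂)
    rw [← act_fixed_incl F φ g₁ _ (x _ h₁).2, ← act_fixed_incl F φ g₂ _ (x _ h₂).2]
    exact congrArg Subtype.val (hx ((incl Xs i).map g₁) ((incl Xs i).map g₂) h₁ h₂
      (by rw [← (incl Xs i).map_comp, ← (incl Xs i).map_comp, e]))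
  let y : (F i).obj.obj (op V) := (hsh i V T hT).amalgamate x' hx'
  have hy : ∀ {W : (St Xs i).Etale} (g : W ⟶ V) (hg : T g), (F i).obj.map g.op y = (x ((incl Xs i).map g) hg).1 :=
    fun g hg => (hsh i V T hT).valid_glue hx' g hg
  have hyfix : y ∈ fixedSect F φ ⟨i, V⟩ := by
    refine (hsh i V T hT).isSeparatedFor.ext fun W g hg => ?_
    show (F i).obj.map g.op (act F φ (𝟙 (⟨i, V⟩ : Obj Xs)) y) = (F i).obj.map g.op y
    refine (act_incl_left F φ g (𝟙 (⟨i, V⟩ : Obj Xs)) y).trans ?_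
    refine (congrArg (fun m => act F φ m y) ((Category.comp_id ((incl Xs i).map g)).trans
      (Category.id_comp ((incl Xs i).map g)).symm)).trans ?_
    refine ((act_incl_right F φ g (𝟙 ((incl Xs i).obj W)) y).symm.trans ?_)
    rw [hy g hg]
    exact (x ((incl Xs i).map g) hg).2
  refine ⟨⟨y, hyfix⟩, fun B f hf => ?_, fun z hz => Subtype.ext ?_⟩
  · obtain ⟨k, W⟩ := B
    apply Subtype.ext
    show act F φ f y = (x f hf).1
    refine (hsh k W _ (Functor.cover_lift (J := (St Xs k).smallEtaleTopology) (incl Xs k) (topology Xs)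
      (U := W) ((topology Xs).pullback_stable f (show Sieve.functorPushforward (incl Xs i) T ∈ topology Xs ⟨i, V⟩ from
        (coverPreserving_incl Xs i).cover_preserve hT)))).isSeparatedFor.ext fun W' p hp => ?_
    obtain ⟨V', g, q, hg, e⟩ := hp
    show (F k).obj.map p.op (act F φ f y) = (F k).obj.map p.op (x f hf).1
    refine (act_incl_left F φ p f y).trans ((congrArg (fun m => act F φ m y) e).trans ?_)
    refine (act_act F φ hφ q ((incl Xs i).map g) y).symm.trans ?_
    refine (congrArg (act F φ q) ((act_fixed_incl F φ g y hyfix).trans (hy g hg))).trans ?_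
    exact (congrArg Subtype.val (hx q ((incl Xs k).map p) hg hf e.symm)).trans
      (act_fixed_incl F φ p _ (x f hf).2)
  · refine (hsh i V T hT).isSeparatedFor.ext fun W g hg => ?_
    show (F i).obj.map g.op z.1 = (F i).obj.map g.op y
    rw [hy g hg, ← hz ((incl Xs i).map g) hg, ← act_fixed_incl F φ g _ z.2]
    rfl

/-- The sheaf on the total site of a system. -/
noncomputable def sysSheaf : Sheaf (topology Xs) AddCommGrpCat.{u + 1} :=
  ⟨sysPre F φ hφ, isSheaf_sysPre F φ hφ⟩

end Groth.Agent.EtLimit
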