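import Groth.Agent.EtLimit.Main
import Groth.Agent.EtLimit.System

/-!
# The limit theorem for compatible systems of sheaves
-/

set_option autoImplicit false
set_option linter.all false
set_option backward.isDefEq.respectTransparency.types false
set_option backward.isDefEq.respectTransparency false
set_option backward.defeqAttrib.useBackward true
set_option synthInstance.maxHeartbeats 400000
set_option maxHeartbeats 1000000

universe u

open CategoryTheory Limits AlgebraicGeometry Opposite CategoryTheory.Abelian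

namespace Groth.Agent.EtLimit

variable {ι : Type u} [Preorder ι] {Xs : ιᵒᵖ ⥤ Scheme.{u}} (c : Cone Xs)

section Out

variable {E : Ab Xs} {M : EtCoh.Ab c.pt} (η : E.obj ⟶ (phi c).op ⋙ M.obj)

/-- A morphism out of the sheaf on the limit, from its values on the stages. -/
noncomputable def fromLim : (toLim c).obj E ⟶ M :=
  ObjectProperty.homMk (sheafifyLift c.pt.smallEtaleTopology
    (((phi c).op.lanAdjunction AddCommGrpCat.{u + 1}).homEquiv E.obj M.obj |>.symm η) M.property)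

theorem fromLim_theta (A : Obj Xs) (x : E.obj.obj (op A)) :
    (fromLim c η).hom.app (op ((phi c).obj A)) (theta c E A x) = η.app (op A) x := by
  let d := ((phi c).op.lanAdjunction AddCommGrpCat.{u + 1}).homEquiv E.obj M.obj |>.symm η
  have h1 : sheafMap c E ≫ (fromLim c η).hom = d := toSheafify_sheafifyLift _ d M.property
  have h2 : preUnit c E ≫ Functor.whiskerLeft (phi c).op d = η := by
    refine Eq.trans ?_ (((((phi c).op.lanAdjunction AddCommGrpCat.{u + 1}).homEquiv E.obj M.obj)).apply_symm_apply η)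
    rw [Adjunction.homEquiv_unit, Functor.lanAdjunction_unit]
    rfl
  refine (ConcreteCategory.congr_hom (congr_app h1 (op ((phi c).obj A))) ((preUnit c E).app (op A) x)).trans ?_
  exact ConcreteCategory.congr_hom (congr_app h2 (op A)) x

theorem fromLim_ext {g g' : (toLim c).obj E ⟶ M}
    (h : ∀ (A : Obj Xs) (x : E.obj.obj (op A)),
      g.hom.app (op ((phi c).obj A)) (theta c E A x) = g'.hom.app (op ((phi c).obj A)) (theta c E A x)) :
    g = g' := by
  refine ObjectProperty.hom_ext _ (sheafify_hom_ext c.pt.smallEtaleTopology _ _ M.property ?_)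
  refine (((phi c).op.lanAdjunction AddCommGrpCat.{u + 1}).homEquiv E.obj M.obj).injective ?_
  rw [Adjunction.homEquiv_unit, Adjunction.homEquiv_unit, Functor.lanAdjunction_unit]
  exact NatTrans.ext (funext fun A => ConcreteCategory.hom_ext _ _ fun x => h A.unop x)

end Out

variable (F : ∀ i : ι, EtCoh.Ab (Xs.obj (op i)))
  (φ : ∀ ⦃i j : ι⦄ (h : i ≤ j), (EtCoh.pull (Xs.map (homOfLE h).op)).obj (F i) ⟶ F j)
  (hφ : ∀ ⦃i j k : ι⦄ (hij : i ≤ j) (hjk : j ≤ k),
      φ (hij.trans hjk) = (EtLim.pullTrans Xs hij hjk).hom.app (F i) ≫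
        (EtCoh.pull (Xs.map (homOfLE hjk).op)).map (φ hij) ≫ φ hjk)

/-- Fixed sections as sections. -/
noncomputable def sysInc (j : ι) : (res Xs j).obj (sysSheaf F φ hφ) ⟶ F j :=
  ObjectProperty.homMk
    { app := fun V => AddCommGrpCat.ofHom (fixedSect F φ ⟨j, V.unop⟩).subtype
      naturality := fun V W g => ConcreteCategory.hom_ext _ _ fun x => act_fixed_incl F φ g.unop x.1 x.2 }

/-- Projection to the fixed sections. -/
noncomputable def sysPr (j : ι) : F j ⟶ (res Xs j).obj (sysSheaf F φ hφ) :=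
  ObjectProperty.homMk
    { app := fun V => AddCommGrpCat.ofHom ((act F φ (𝟙 (⟨j, V.unop⟩ : Obj Xs))).hom.codRestrict
        (fixedSect F φ ⟨j, V.unop⟩) (fun x => act_mem F φ hφ (𝟙 (⟨j, V.unop⟩ : Obj Xs)) x))
      naturality := fun V W g => ConcreteCategory.hom_ext _ _ fun x => Subtype.ext (by
        show act F φ (𝟙 (⟨j, W.unop⟩ : Obj Xs)) ((F j).obj.map g x) =
          act F φ ((incl Xs j).map g.unop) (act F φ (𝟙 (⟨j, V.unop⟩ : Obj Xs)) x)
        refine (act_incl_right F φ g.unop (𝟙 (⟨j, W.unop⟩ : Obj Xs)) x).trans ?_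
        refine Eq.trans ?_ (act_act F φ hφ ((incl Xs j).map g.unop) (𝟙 (⟨j, V.unop⟩ : Obj Xs)) x).symm
        exact congrArg (fun m => act F φ m x) ((Category.id_comp ((incl Xs j).map g.unop)).trans
          (Category.comp_id ((incl Xs j).map g.unop)).symm)) }

theorem act_down {i j : ι} (h : i ≤ j) (V : (St Xs i).Etale) (x : (F i).obj.obj (op V)) :
    act F φ (down h V) x = adjSect (tr Xs h) (φ h) V x := by
  refine (congrArg (fun m => (F j).obj.map (Quiver.Hom.op m) (adjSect (tr Xs h) (φ h) V x))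
    (show overBar (down h V) = 𝟙 _ from overBar_ext (A := push' h V) (B := ⟨i, V⟩)
      ((pullback.lift_fst _ _ _).trans (Category.id_comp _).symm))).trans ?_
  exact ConcreteCategory.congr_hom ((F j).obj.map_id _) _

variable (G : ι ⥤ EtCoh.Ab c.pt) (ψ : ∀ i : ι, (EtCoh.pull (c.π.app (op i))).obj (F i) ≅ G.obj i)
  (hψ : ∀ ⦃i j : ι⦄ (hij : i ≤ j), (ψ i).hom ≫ G.map (homOfLE hij) =
      (EtLim.pullTransCone Xs c hij).hom.app (F i) ≫ (EtCoh.pull (c.π.app (op j))).map (φ hij) ≫ (ψ j).hom)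

/-- Sections of the colimit from sections of a stage. -/
noncomputable abbrev colSect (A : Obj Xs) :
    (F A.idx).obj.obj (op A.V) ⟶ (colimit G).obj.obj (op ((phi c).obj A)) :=
  adjSect (proj c A.idx) ((ψ A.idx).hom ≫ colimit.ι G A.idx) A.V

include hψ in
theorem colSect_act {A B : Obj Xs} (f : A ⟶ B) (x : (F B.idx).obj.obj (op B.V)) :
    colSect c F G ψ A (act F φ f x) = (colimit G).obj.map ((phi c).map f).op (colSect c F G ψ B x) := by
  let h := (show Hom A B from f).le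
  let b := (ψ A.idx).hom ≫ colimit.ι G A.idx
  let y := adjSect (proj c A.idx) b ((EtCoh.bc (tr Xs h)).obj B.V) (adjSect (tr Xs h) (φ h) B.V x)
  have e : colSect c F G ψ B x = (colimit G).obj.map (bcSplit (c.w (homOfLE h).op).symm B.V).op y := by
    have e0 : (ψ B.idx).hom ≫ colimit.ι G B.idx = (EtLim.pullTransCone Xs c h).hom.app (F B.idx) ≫
        (EtCoh.pull (c.π.app (op A.idx))).map (φ h) ≫ b := by
      rw [← colimit.w G (homOfLE h), ← Category.assoc, hψ h]
      simp only [Category.assoc, b]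
    show adjSect (proj c B.idx) ((ψ B.idx).hom ≫ colimit.ι G B.idx) B.V x = _
    rw [e0]
    exact adjSect_pullComp (c.w (homOfLE h).op).symm (φ h) b B.V x
  refine (NatTrans.naturality_apply ((EtCoh.pullPushAdj (proj c A.idx)).homEquiv (F A.idx) (colimit G) b).hom
    (overBar f).op (adjSect (tr Xs h) (φ h) B.V x)).trans ?_
  refine Eq.trans ?_ (congrArg ((colimit G).obj.map ((phi c).map f).op) e).symm
  refine Eq.trans ?_ (ConcreteCategory.congr_hom ((colimit G).obj.map_comp (bcSplit (c.w (homOfLE h).op).symm B.V).op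
    ((phi c).map f).op) y)
  refine congrArg (fun m => (colimit G).obj.map (Quiver.Hom.op m) y)
    ((Scheme.Etale.forget c.pt ⋙ CategoryTheory.Over.forget c.pt).map_injective ?_)
  refine pullback.hom_ext ?_ ?_
  · refine (EtCoh.isPullback_bc_map (proj c A.idx) (overBar f)).w.trans ?_
    refine Eq.trans ?_ ((congrArg (_ ≫ ·) (pullback.lift_fst _ _ _)).symm.trans (Category.assoc _ _ _).symm)
    apply pullback.hom_ext
    · refine (Category.assoc _ _ _).trans ((congrArg (_ ≫ ·) (pullback.lift_fst _ _ _)).trans ?_)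
      refine Eq.trans ?_ ((congrArg (_ ≫ ·) (pullback.lift_fst _ _ _)).symm.trans (Category.assoc _ _ _).symm)
      exact (phiHom_fst c f).symm
    · refine (Category.assoc _ _ _).trans ((congrArg (_ ≫ ·) (pullback.lift_snd _ _ _)).trans ?_)
      refine Eq.trans ?_ ((congrArg (_ ≫ ·) (pullback.lift_snd _ _ _)).symm.trans (Category.assoc _ _ _).symm)
      refine pullback.condition.trans ?_
      exact (congrArg (· ≫ proj c A.idx) (phiHom_snd c f)).symm.trans (Category.assoc _ _ _)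
  · refine (pullback.lift_snd _ _ _).trans ?_
    refine Eq.trans ?_ ((congrArg (_ ≫ ·) (pullback.lift_snd _ _ _)).symm.trans (Category.assoc _ _ _).symm)
    exact (phiHom_snd c f).symm

/-- The comparison with the colimit. -/
noncomputable def toCol : (toLim c).obj (sysSheaf F φ hφ) ⟶ colimit G :=
  fromLim c
    { app := fun A => AddCommGrpCat.ofHom ((colSect c F G ψ A.unop).hom.comp (fixedSect F φ A.unop).subtype)
      naturality := fun A B f => ConcreteCategory.hom_ext _ _ fun x => colSect_act c F φ G ψ hψ f.unop x.1 }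

theorem toCol_theta (A : Obj Xs) (x : (sysSheaf F φ hφ).obj.obj (op A)) :
    (toCol c F φ hφ G ψ hψ).hom.app (op ((phi c).obj A)) (theta c (sysSheaf F φ hφ) A x) =
      colSect c F G ψ A x.1 :=
  fromLim_theta c _ A x

theorem adjSect_pull_map {X Y : Scheme.{u}} (f : X ⟶ Y) {F F' : EtCoh.Ab Y} {M : EtCoh.Ab X} (g : F ⟶ F')
    (a : (EtCoh.pull f).obj F' ⟶ M) (V : Y.Etale) (x : F.obj.obj (op V)) :
    adjSect f ((EtCoh.pull f).map g ≫ a) V x = adjSect f a V (g.hom.app (op V) x) := by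
  show ((EtCoh.pullPushAdj f).homEquiv F M _).hom.app (op V) x = _
  rw [Adjunction.homEquiv_naturality_left]
  rfl

theorem adjSect_comp {X Y : Scheme.{u}} (f : X ⟶ Y) {F : EtCoh.Ab Y} {M M' : EtCoh.Ab X}
    (a : (EtCoh.pull f).obj F ⟶ M) (g : M ⟶ M') (V : Y.Etale) (x : F.obj.obj (op V)) :
    adjSect f (a ≫ g) V x = g.hom.app (op ((EtCoh.bc f).obj V)) (adjSect f a V x) := by
  show ((EtCoh.pullPushAdj f).homEquiv F M' _).hom.app (op V) x = _
  rw [Adjunction.homEquiv_naturality_right]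
  rfl

theorem hom_ext_adjSect {X Y : Scheme.{u}} (f : X ⟶ Y) {F : EtCoh.Ab Y} {M : EtCoh.Ab X}
    {a b : (EtCoh.pull f).obj F ⟶ M} (h : ∀ V x, adjSect f a V x = adjSect f b V x) : a = b :=
  ((EtCoh.pullPushAdj f).homEquiv F M).injective
    (ObjectProperty.hom_ext _ (NatTrans.ext (funext fun V => ConcreteCategory.hom_ext _ _ fun x => h V.unop x)))

theorem adjSect_toLimHom (E : Ab Xs) (j : ι) (V : (St Xs j).Etale) (x : E.obj.obj (op (⟨j, V⟩ : Obj Xs))) :
    adjSect (proj c j) (toLimHom c E j) V x = theta c E ⟨j, V⟩ x := by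
  show ((EtCoh.pullPushAdj (proj c j)).homEquiv _ _ (toLimHom c E j)).hom.app (op V) x = _
  rw [toLimHom, Equiv.apply_symm_apply]
  rfl

theorem adjSect_transHom (E : Ab Xs) {j k : ι} (h : j ≤ k) (V : (St Xs j).Etale)
    (x : E.obj.obj (op (⟨j, V⟩ : Obj Xs))) :
    adjSect (tr Xs h) (transHom Xs E h) V x = E.obj.map (down h V).op x := by
  show ((EtCoh.pullPushAdj (tr Xs h)).homEquiv _ _ (transHom Xs E h)).hom.app (op V) x = _
  rw [transHom, Equiv.apply_symm_apply]
  rfl

/-- The map to the sheaf on the limit from a stage of the system. -/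
noncomputable def legLim (j : ι) : G.obj j ⟶ (toLim c).obj (sysSheaf F φ hφ) :=
  (ψ j).inv ≫ (EtCoh.pull (proj c j)).map (sysPr F φ hφ j) ≫ toLimHom c (sysSheaf F φ hφ) j

theorem adjSect_legLim (j : ι) (V : (St Xs j).Etale) (x : (F j).obj.obj (op V)) :
    adjSect (proj c j) ((ψ j).hom ≫ legLim c F φ hφ G ψ j) V x =
      theta c (sysSheaf F φ hφ) ⟨j, V⟩ ((sysPr F φ hφ j).hom.app (op V) x) := by
  rw [legLim, Iso.hom_inv_id_assoc]
  exact (adjSect_pull_map _ _ _ V x).trans (adjSect_toLimHom c _ j V _)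

include hψ in
theorem legLim_w {i j : ι} (h : i ≤ j) :
    G.map (homOfLE h) ≫ legLim c F φ hφ G ψ j = legLim c F φ hφ G ψ i := by
  rw [← cancel_epi (ψ i).hom, ← Category.assoc, hψ h, Category.assoc, Category.assoc]
  refine hom_ext_adjSect (proj c i) fun V x => ?_
  refine (adjSect_pullComp (c.w (homOfLE h).op).symm (φ h) ((ψ j).hom ≫ legLim c F φ hφ G ψ j) V x).trans ?_
  rw [adjSect_legLim c F φ hφ G ψ i]
  refine (congrArg (((toLim c).obj (sysSheaf F φ hφ)).obj.map (bcSplit (c.w (homOfLE h).op).symm V).op)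
    (adjSect_legLim c F φ hφ G ψ j _ _)).trans ?_
  have e : (sysPr F φ hφ j).hom.app (op ((EtCoh.bc (tr Xs h)).obj V)) (adjSect (tr Xs h) (φ h) V x) =
      (sysSheaf F φ hφ).obj.map (down h V).op ((sysPr F φ hφ i).hom.app (op V) x) := Subtype.ext (by
    show act F φ (𝟙 (push' h V)) (adjSect (tr Xs h) (φ h) V x) = act F φ (down h V) (act F φ (𝟙 (⟨i, V⟩ : Obj Xs)) x)
    rw [← act_down F φ h V x, act_act F φ hφ, act_act F φ hφ, Category.id_comp, Category.comp_id])
  refine (congrArg (fun z => ((toLim c).obj (sysSheaf F φ hφ)).obj.map (bcSplit (c.w (homOfLE h).op).symm V).op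
    (theta c (sysSheaf F φ hφ) (push' h V) z)) e).trans ?_
  refine (congrArg (((toLim c).obj (sysSheaf F φ hφ)).obj.map (bcSplit (c.w (homOfLE h).op).symm V).op)
    (theta_nat c (sysSheaf F φ hφ) (down h V) _)).trans ?_
  refine (ConcreteCategory.congr_hom (((toLim c).obj (sysSheaf F φ hφ)).obj.map_comp ((phi c).map (down h V)).op
    (bcSplit (c.w (homOfLE h).op).symm V).op) _).symm.trans ?_
  have e2 : bcSplit (c.w (homOfLE h).op).symm V ≫ (phi c).map (down h V) = 𝟙 _ := hom_phi_ext c (by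
    refine (Category.assoc _ _ _).trans ((congrArg (_ ≫ ·) (phiHom_fst c (down h V))).trans ?_)
    refine (Category.assoc _ _ _).symm.trans ((congrArg (· ≫ _) (pullback.lift_fst _ _ _)).trans ?_)
    exact (pullback.lift_fst _ _ _).trans (Category.id_comp _).symm)
  refine (congrArg (fun m => ((toLim c).obj (sysSheaf F φ hφ)).obj.map (Quiver.Hom.op m)
    (theta c (sysSheaf F φ hφ) ⟨i, V⟩ ((sysPr F φ hφ i).hom.app (op V) x))) e2).trans ?_
  exact ConcreteCategory.congr_hom (((toLim c).obj (sysSheaf F φ hφ)).obj.map_id _) _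

/-- The inverse comparison. -/
noncomputable def fromCol : colimit G ⟶ (toLim c).obj (sysSheaf F φ hφ) :=
  colimit.desc G
    { pt := (toLim c).obj (sysSheaf F φ hφ)
      ι :=
        { app := legLim c F φ hφ G ψ
          naturality := fun i j f => (legLim_w c F φ hφ G ψ hψ (leOfHom f)).trans (Category.comp_id _).symm } }

theorem comp_fromCol (j : ι) :
    ((ψ j).hom ≫ colimit.ι G j) ≫ fromCol c F φ hφ G ψ hψ =
      (EtCoh.pull (proj c j)).map (sysPr F φ hφ j) ≫ toLimHom c (sysSheaf F φ hφ) j := by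
  rw [Category.assoc, fromCol, colimit.ι_desc]
  show (ψ j).hom ≫ legLim c F φ hφ G ψ j = _
  rw [legLim, Iso.hom_inv_id_assoc]

theorem fromCol_toCol : fromCol c F φ hφ G ψ hψ ≫ toCol c F φ hφ G ψ hψ = 𝟙 _ := by
  refine colimit.hom_ext fun j => ?_
  rw [← cancel_epi (ψ j).hom, Category.comp_id, ← Category.assoc, ← Category.assoc, comp_fromCol]
  refine hom_ext_adjSect (proj c j) fun V x => ?_
  rw [Category.assoc]
  refine (adjSect_pull_map _ _ _ V x).trans ((adjSect_comp _ _ _ V _).trans ?_)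
  refine (congrArg ((toCol c F φ hφ G ψ hψ).hom.app _) (adjSect_toLimHom c _ j V _)).trans ?_
  refine (toCol_theta c F φ hφ G ψ hψ ⟨j, V⟩ _).trans ?_
  show colSect c F G ψ ⟨j, V⟩ (act F φ (𝟙 (⟨j, V⟩ : Obj Xs)) x) = _
  rw [colSect_act c F φ G ψ hψ, (phi c).map_id, op_id]
  exact ConcreteCategory.congr_hom ((colimit G).obj.map_id _) _

theorem comp_toCol (j : ι) :
    (EtCoh.pull (proj c j)).map (sysInc F φ hφ j) ≫ (ψ j).hom ≫ colimit.ι G j =
      toLimHom c (sysSheaf F φ hφ) j ≫ toCol c F φ hφ G ψ hψ := by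
  refine hom_ext_adjSect (proj c j) fun V x => ?_
  refine (adjSect_pull_map _ _ _ V x).trans ?_
  refine Eq.trans ?_ ((adjSect_comp _ _ _ V x).trans ((congrArg ((toCol c F φ hφ G ψ hψ).hom.app _)
    (adjSect_toLimHom c _ j V x)).trans (toCol_theta c F φ hφ G ψ hψ ⟨j, V⟩ x))).symm
  rfl

theorem comp_transHom {j k : ι} (h : j ≤ k) :
    (EtCoh.pull (tr Xs h)).map (sysPr F φ hφ j) ≫ transHom Xs (sysSheaf F φ hφ) h ≫ sysInc F φ hφ k = φ h := by
  refine hom_ext_adjSect (tr Xs h) fun V x => ?_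
  refine (adjSect_pull_map _ _ _ V x).trans ((adjSect_comp _ _ _ V _).trans ?_)
  refine (congrArg ((sysInc F φ hφ k).hom.app _) (adjSect_transHom _ h V _)).trans ?_
  show act F φ (down h V) (act F φ (𝟙 (⟨j, V⟩ : Obj Xs)) x) = _
  rw [act_act F φ hφ, Category.comp_id, act_down]

variable [∀ a, PreservesFiniteLimits (EtCoh.pull (c.π.app a))]
  [hpl : ∀ ⦃a b : ιᵒᵖ⦄ (h : a ⟶ b), PreservesFiniteLimits (EtCoh.pull (Xs.map h))]
  [IsDirected ι (· ≤ ·)] [Nonempty ι] (hc : IsLimit c)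
  [haff : ∀ ⦃a b : ιᵒᵖ⦄ (h : a ⟶ b), IsAffineHom (Xs.map h)]
  [∀ a, CompactSpace ↥(Xs.obj a)] [∀ a, QuasiSeparatedSpace ↥(Xs.obj a)]

include hc hφ hψ in
/-- The limit theorem for systems. -/
theorem system_limit (n : ℕ) :
    (∀ ξ : Ext.{u + 1} (EtCoh.const c.pt ℤ) (colimit G) n,
      ∃ (j : ι) (ξj : Ext.{u + 1} (EtCoh.const (St Xs j) ℤ) (F j) n),
        extPull (EtCoh.pull (proj c j)) (EtCore.pullConst (proj c j) ℤ).inv ((ψ j).hom ≫ colimit.ι G j) n ξj = ξ) ∧
    (∀ (j : ι) (ξj : Ext.{u + 1} (EtCoh.const (St Xs j) ℤ) (F j) n),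
      extPull (EtCoh.pull (proj c j)) (EtCore.pullConst (proj c j) ℤ).inv ((ψ j).hom ≫ colimit.ι G j) n ξj = 0 →
        ∃ (k : ι) (hk : j ≤ k),
          haveI : PreservesFiniteLimits (EtCoh.pull (tr Xs hk)) := hpl _
          extPull (EtCoh.pull (tr Xs hk)) (EtCore.pullConst (tr Xs hk) ℤ).inv (φ hk) n ξj = 0) := by
  refine ⟨fun ξ => ?_, fun j ξj hξ => ?_⟩
  · obtain ⟨j, x, hx⟩ := (limit_theorem c hc n (sysSheaf F φ hφ)).1
      (ξ.comp (Ext.mk₀ (fromCol c F φ hφ G ψ hψ)) (add_zero n))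
    refine ⟨j, x.comp (Ext.mk₀ (sysInc F φ hφ j)) (add_zero n), ?_⟩
    refine (extPull_comp _ _ _ _ _ _ (comp_toCol c F φ hφ G ψ hψ j) n x).trans ?_
    refine (congrArg (fun z => Ext.comp z (Ext.mk₀ (toCol c F φ hφ G ψ hψ)) (add_zero n)) hx).trans ?_
    rw [Ext.comp_assoc_of_third_deg_zero, Ext.mk₀_comp_mk₀, fromCol_toCol, Ext.comp_mk₀_id]
  · let x := ξj.comp (Ext.mk₀ (sysPr F φ hφ j)) (add_zero n)
    have hx : toH c (sysSheaf F φ hφ) j n x = 0 := by
      refine (extPull_comp _ _ _ _ _ _ (comp_fromCol c F φ hφ G ψ hψ j).symm n ξj).trans ?_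
      rw [hξ, Ext.zero_comp]
    obtain ⟨k, hk, h0⟩ := (limit_theorem c hc n (sysSheaf F φ hφ)).2 j x hx
    refine ⟨k, hk, ?_⟩
    haveI : PreservesFiniteLimits (EtCoh.pull (tr Xs hk)) := hpl _
    have hm : (EtCoh.pull (tr Xs hk)).map (sysPr F φ hφ j) ≫ transHom Xs (sysSheaf F φ hφ) hk ≫ sysInc F φ hφ k =
        φ hk ≫ 𝟙 (F k) := (comp_transHom F φ hφ hk).trans (Category.comp_id _).symm
    have e2 := extPull_comp (EtCoh.pull (tr Xs hk)) (EtCore.pullConst (tr Xs hk) ℤ).inv
      (φ hk) (transHom Xs (sysSheaf F φ hφ) hk ≫ sysInc F φ hφ k) (sysPr F φ hφ j) (𝟙 (F k)) hm n ξj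
    rw [Ext.comp_mk₀_id] at e2
    refine e2.symm.trans ?_
    refine (extPull_apply _ _ _ n _).trans ?_
    rw [← Ext.mk₀_comp_mk₀, ← Ext.comp_assoc_of_third_deg_zero]
    exact (congrArg (fun z => Ext.comp z (Ext.mk₀ (sysInc F φ hφ k)) (add_zero n)) h0).trans (by rw [Ext.zero_comp])

end Groth.Agent.EtLimit
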