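import Groth.Agent.EtLimit.Refine
import Groth.Prelude.Def_EtCore

/-!
# The pullback of an injective sheaf to the limit is acyclic
-/

set_option autoImplicit false
set_option linter.all false
set_option backward.isDefEq.respectTransparency.types false
set_option backward.isDefEq.respectTransparency false
set_option backward.defeqAttrib.useBackward true
set_option synthInstance.maxHeartbeats 400000
set_option maxHeartbeats 1000000

universe u

open CategoryTheory Limits AlgebraicGeometry Opposite CategoryTheory.Abelian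
open Groth.Agent.SiteCoh Groth.Agent.EtCechLib

namespace Groth.Agent.EtLimit

variable {ι : Type u} [Preorder ι] {Xs : ιᵒᵖ ⥤ Scheme.{u}} (c : Cone Xs)

/-- Base change of a fibre to a later stage, inside the total site. -/
noncomputable def stageFun {j k : ι} (h : j ≤ k) : (St Xs j).Etale ⥤ Obj Xs :=
  EtCoh.bc (tr Xs h) ⋙ incl Xs k

theorem stageFun_down {j k : ι} (h : j ≤ k) {A B : (St Xs j).Etale} (f : A ⟶ B) :
    (stageFun h).map f ≫ down h B = down h A ≫ (incl Xs j).map f :=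
  hom_ext (EtCoh.isPullback_bc_map (tr Xs h) f).w

/-- Sections of a stage map to sections on the limit. -/
noncomputable def toBase (E : Ab Xs) {j k : ι} (h : j ≤ k) :
    (stageFun h).op ⋙ E.obj ⟶ (EtCoh.bc (proj c j)).op ⋙ ((toLim c).obj E).obj where
  app A := theta c E (push' h A.unop) ≫
    ((toLim c).obj E).obj.map (phiToPush c (𝟙 ((phi c).obj ⟨j, A.unop⟩)) h).op
  naturality A B f := by
    refine ConcreteCategory.hom_ext _ _ fun x => ?_
    show ((toLim c).obj E).obj.map (phiToPush c (𝟙 ((phi c).obj ⟨j, B.unop⟩)) h).op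
        (theta c E (push' h B.unop) (E.obj.map ((stageFun h).map f.unop).op x)) =
      ((toLim c).obj E).obj.map ((EtCoh.bc (proj c j)).map f.unop).op
        (((toLim c).obj E).obj.map (phiToPush c (𝟙 ((phi c).obj ⟨j, A.unop⟩)) h).op (theta c E (push' h A.unop) x))
    have e : phiToPush c (𝟙 ((phi c).obj ⟨j, B.unop⟩)) h ≫ (phi c).map ((stageFun h).map f.unop) =
        (EtCoh.bc (proj c j)).map f.unop ≫ phiToPush c (𝟙 ((phi c).obj ⟨j, A.unop⟩)) h := by
      refine phi_push_ext c ?_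
      rw [Category.assoc, ← (phi c).map_comp, stageFun_down, (phi c).map_comp, phiToPush_down_assoc,
        Category.id_comp, Category.assoc, phiToPush_down, phi_map_incl]
      exact (Category.comp_id _).symm
    refine (congrArg (((toLim c).obj E).obj.map (phiToPush c (𝟙 ((phi c).obj ⟨j, B.unop⟩)) h).op)
      (theta_nat c E ((stageFun h).map f.unop) x)).trans ?_
    refine (ConcreteCategory.congr_hom (((toLim c).obj E).obj.map_comp ((phi c).map ((stageFun h).map f.unop)).op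
      (phiToPush c (𝟙 ((phi c).obj ⟨j, B.unop⟩)) h).op) (theta c E (push' h A.unop) x)).symm.trans ?_
    refine Eq.trans ?_ (ConcreteCategory.congr_hom (((toLim c).obj E).obj.map_comp
      (phiToPush c (𝟙 ((phi c).obj ⟨j, A.unop⟩)) h).op ((EtCoh.bc (proj c j)).map f.unop).op) (theta c E (push' h A.unop) x))
    exact congrArg (fun m => ((toLim c).obj E).obj.map (Quiver.Hom.op m) (theta c E (push' h A.unop) x)) e

/-- Transition maps between stages. -/
noncomputable def stageTrans (E : Ab Xs) {j k l : ι} (h : j ≤ k) (h' : j ≤ l) (hkl : k ≤ l) :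
    (stageFun h).op ⋙ E.obj ⟶ (stageFun (Xs := Xs) h').op ⋙ E.obj where
  app A := E.obj.map (stMap h h' hkl A.unop).op
  naturality A B f := by
    show E.obj.map _ ≫ E.obj.map _ = E.obj.map _ ≫ E.obj.map _
    rw [← E.obj.map_comp, ← E.obj.map_comp]
    refine congrArg E.obj.map (Quiver.Hom.unop_inj (toPush_unique ?_))
    show (stMap h h' hkl B.unop ≫ (stageFun h).map f.unop) ≫ down h A.unop =
      ((stageFun h').map f.unop ≫ stMap h h' hkl A.unop) ≫ down h A.unop
    simp only [stMap, Category.assoc, toPush_down, stageFun_down, toPush_down_assoc]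

theorem stageTrans_toBase (E : Ab Xs) {j k l : ι} (h : j ≤ k) (h' : j ≤ l) (hkl : k ≤ l) :
    stageTrans E h h' hkl ≫ toBase c E h' = toBase c E h := by
  refine NatTrans.ext (funext fun A => ConcreteCategory.hom_ext _ _ fun x => ?_)
  show ((toLim c).obj E).obj.map (phiToPush c (𝟙 ((phi c).obj ⟨j, A.unop⟩)) h').op
      (theta c E (push' h' A.unop) (E.obj.map (stMap h h' hkl A.unop).op x)) =
    ((toLim c).obj E).obj.map (phiToPush c (𝟙 ((phi c).obj ⟨j, A.unop⟩)) h).op (theta c E (push' h A.unop) x)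
  rw [theta_nat, ← Functor.map_comp_apply, ← op_comp]
  refine congrArg (fun m => ((toLim c).obj E).obj.map (Quiver.Hom.op m) _) (phi_push_ext c ?_)
  rw [Category.assoc, ← (phi c).map_comp, stMap, toPush_down, phiToPush_down, phiToPush_down]

variable [IsDirected ι (· ≤ ·)] [Nonempty ι] (hc : IsLimit c)
  [haff : ∀ ⦃a b : ιᵒᵖ⦄ (h : a ⟶ b), IsAffineHom (Xs.map h)]

include hc in
theorem exists_base_stage (E : Ab Xs) {j : ι} (V : (St Xs j).Etale) (hV : IsQcqs V)
    (s : ((toLim c).obj E).obj.obj (op ((phi c).obj ⟨j, V⟩))) :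
    ∃ (k : ι) (h : j ≤ k) (x : E.obj.obj (op (push' h V))), (toBase c E h).app (op V) x = s := by
  haveI := hV.1; haveI := hV.2
  obtain ⟨k, h, x, hx⟩ := exists_stage_section hc E V s
  refine ⟨k, h, x, ?_⟩
  show ((toLim c).obj E).obj.map (phiToPush c (𝟙 _) h).op (theta c E (push' h V) x) = s
  rw [hx, ← Functor.map_comp_apply, ← op_comp, phiToPush_down, op_id]
  exact ConcreteCategory.congr_hom (((toLim c).obj E).obj.map_id _) s

include hc in
theorem exists_base_eq_zero (E : Ab Xs) {j k : ι} (h : j ≤ k) (V : (St Xs j).Etale) (hV : IsQcqs V)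
    (x : E.obj.obj (op (push' h V))) (hx : (toBase c E h).app (op V) x = 0) :
    ∃ (l : ι) (hkl : k ≤ l), (stageTrans E h (h.trans hkl) hkl).app (op V) x = 0 := by
  haveI := hV.1
  haveI : CompactSpace ↥((EtCoh.bc (tr Xs h)).obj V).left := compactSpace_push h V
  have h0 : theta c E (push' h V) x = 0 := by
    have e : (phi c).map (down h V) ≫ phiToPush c (𝟙 _) h = 𝟙 _ := phi_push_ext c (by
      rw [Category.assoc, phiToPush_down, Category.comp_id, Category.id_comp])
    have := congrArg (((toLim c).obj E).obj.map ((phi c).map (down h V)).op) hx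
    rw [map_zero] at this
    refine Eq.trans ?_ this
    show _ = ((toLim c).obj E).obj.map _ (((toLim c).obj E).obj.map _ _)
    rw [← Functor.map_comp_apply, ← op_comp, e, op_id]
    exact (ConcreteCategory.congr_hom (((toLim c).obj E).obj.map_id _) _).symm
  obtain ⟨l, hkl, hl⟩ := exists_map_down_eq_zero hc E ((EtCoh.bc (tr Xs h)).obj V) x h0
  refine ⟨l, hkl, ?_⟩
  show E.obj.map (stMap h (h.trans hkl) hkl V).op x = 0
  rw [← toPush_down (stMap h (h.trans hkl) hkl V) hkl le_rfl, op_comp, Functor.map_comp_apply, hl, map_zero]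

/-- Base change of a family over a stage, transported along an isomorphism. -/
noncomputable def famFun {j : ι} (V : (St Xs j).Etale) {U : c.pt.Etale} (e : (phi c).obj ⟨j, V⟩ ≅ U) :
    Over V ⥤ Over U :=
  Over.post (EtCoh.bc (proj c j)) ⋙ Over.map e.hom

instance preservesFiniteProducts_famFun {j : ι} (V : (St Xs j).Etale) {U : c.pt.Etale}
    (e : (phi c).obj ⟨j, V⟩ ≅ U) (n : ℕ) : PreservesLimitsOfShape (Discrete (Fin n)) (famFun c V e) := by
  haveI : (Over.map e.hom).IsEquivalence := (Over.mapIso e).isEquivalence_functor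
  exact comp_preservesLimitsOfShape _ _

include hc in
theorem exists_descended_cover {j : ι} (V : (St Xs j).Etale) (hV : IsQcqs V) {U : c.pt.Etale}
    (e : (phi c).obj ⟨j, V⟩ ≅ U) {T : Sieve U} (hT : T ∈ c.pt.smallEtaleTopology U) :
    ∃ (l : ι) (W : (St Xs l).Etale) (e' : (phi c).obj ⟨l, W⟩ ≅ U) (α : Type (u + 1)) (Y : α → Over W),
      IsQcqs W ∧ Finite α ∧ (∀ a, IsQcqs (Y a).left) ∧ JointlySurj W Y ∧
        ∀ a, T.arrows ((famFun c W e').obj (Y a)).hom := by
  haveI := hV.1; haveI := hV.2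
  choose Z f hf z hz using fun p => exists_mem_of_mem
    (GrothendieckTopology.pullback_stable c.pt.smallEtaleTopology e.hom hT) p
  choose k S t σ hS hσ hrange _hsur using fun p => exists_piece hc V (Z p) (f p) (z p)
  obtain ⟨l, hjl, sf, Tl, tt, gg, hsq, hqc, hcov⟩ := exists_common_cover hc V k S t hS
    (fun p => ⟨p, (congrArg (fun q => q ∈ Set.range (phiHom c (t p))) (hz p)).mp (hrange p)⟩)
  let W : (St Xs l).Etale := (EtCoh.bc (tr Xs hjl)).obj V
  let e' : (phi c).obj ⟨l, W⟩ ≅ U := asIso ((phi c).map (down hjl V)) ≪≫ e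
  let y : ∀ a, Tl a ⟶ W := fun a => MorphismProperty.Over.homMk (show Hom _ (push' hjl V) from tt a).hom
    (etale_hom (A := push' hjl V) (W := Tl a) (tt a)) trivial
  refine ⟨l, W, e', ULift.{u + 1} sf, fun a => Over.mk (y a.down),
    ⟨compactSpace_push hjl V, quasiSeparatedSpace_push hjl V⟩, inferInstance, fun a => hqc a.down,
    fun q => ?_, fun a => ?_⟩
  · obtain ⟨a, w, hw⟩ := hcov q
    exact ⟨⟨a⟩, w, hw⟩
  · show T.arrows ((EtCoh.bc (proj c l)).map (y a.down) ≫ (phi c).map (down hjl V) ≫ e.hom)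
    rw [← phi_map_incl, show (incl Xs l).map (y a.down) = tt a.down from hom_ext rfl, ← Category.assoc,
      ← (phi c).map_comp, hsq, (phi c).map_comp, ← hσ, ← Category.assoc, Category.assoc]
    exact T.downward_closed (hf a.down.1) _

variable [∀ U : c.pt.Etale, HasFiniteProducts (Over U)] [∀ (j : ι) (V : (St Xs j).Etale), HasFiniteProducts (Over V)]

/-- The basis of base changes of qcqs objects of stages. -/
noncomputable def limBasis (hc : IsLimit c) : Basis.{u + 1} c.pt.smallEtaleTopology where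
  B U := ∃ (j : ι) (V : (St Xs j).Etale), IsQcqs V ∧ Nonempty ((phi c).obj ⟨j, V⟩ ≅ U)
  Cov U α Y := ∃ (j : ι) (V : (St Xs j).Etale) (e : (phi c).obj ⟨j, V⟩ ≅ U) (Y₀ : α → Over V),
    IsQcqs V ∧ Finite α ∧ (∀ a, IsQcqs (Y₀ a).left) ∧ JointlySurj V Y₀ ∧ Y = fun a => (famFun c V e).obj (Y₀ a)
  mem U α Y h := by
    obtain ⟨j, V, e, Y₀, -, -, -, hs, rfl⟩ := h
    refine JointlySurj.mem fun x => ?_
    obtain ⟨a, w, hw⟩ := hs ((pullback.fst V.hom (proj c j) : ((EtCoh.bc (proj c j)).obj V).left ⟶ V.left) (e.inv.left x))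
    obtain ⟨z, -, hz⟩ := Scheme.exists_preimage_of_isPullback
      (EtCoh.isPullback_bc_map (proj c j) (Y₀ a).hom).flip w (e.inv.left x) hw
    refine ⟨a, z, ?_⟩
    refine (congrArg e.hom.left hz).trans ?_
    exact congrArg (fun m : U ⟶ U => m.left x) e.inv_hom_id
  inter U α Y h p a := by
    obtain ⟨j, V, e, Y₀, hV, -, hY, -, rfl⟩ := h
    exact ⟨j, (Cech.inter Y₀ a).left, isQcqs_fan hV _ (fun k => hY (a k)) (productIsProduct _),
      ⟨(Over.forget U).mapIso (asIso (interHom (famFun c V e) Y₀ a)).symm⟩⟩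
  refine_ U hU T hT := by
    obtain ⟨j, V, hV, ⟨e⟩⟩ := hU
    obtain ⟨l, W, e', α, Y, h1, h2, h3, h4, h5⟩ := exists_descended_cover c hc V hV e hT
    exact ⟨α, fun a => (famFun c W e').obj (Y a), ⟨l, W, e', Y, h1, h2, h3, h4, rfl⟩, h5⟩

theorem isZero_cech_stage (I : Ab Xs) [Injective I] {j k : ι} (h : j ≤ k) (V : (St Xs j).Etale)
    {α : Type (u + 1)} (Y₀ : α → Over V) (p : ℕ) :
    IsZero ((Cech.cx ((Over.forget V).op ⋙ (stageFun h).op ⋙ I.obj) Y₀).homology (p + 1)) := by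
  haveI := injective_res Xs k I
  exact isZero_homology_comp (Over.post (X := V) (EtCoh.bc (tr Xs h)))
    ((Over.forget ((EtCoh.bc (tr Xs h)).obj V)).op ⋙ ((res Xs k).obj I).obj) Y₀ p
    (isZero_cechH_of_injective ((res Xs k).obj I) _ p)

include hc in
theorem acyclic_toLim (I : Ab Xs) [Injective I] : (limBasis c hc).Acyclic ((toLim c).obj I) := by
  classical
  rintro U α Y ⟨j, V, e, Y₀, hV, _, hY, -, rfl⟩ p
  refine (isZero_homology_comp_iff (famFun c V e) _ Y₀ p).1 ?_
  change IsZero ((Cech.cx ((Over.forget V).op ⋙ (EtCoh.bc (proj c j)).op ⋙ ((toLim c).obj I).obj) Y₀).homology (p + 1))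
  rw [Cech.isZero_homology_succ_iff]
  intro x hx
  have hin : ∀ {q : ℕ} (a : Fin (q + 1) → α), IsQcqs (Cech.inter Y₀ a).left := fun a =>
    isQcqs_fan hV _ (fun k => hY (a k)) (productIsProduct _)
  let P : ∀ {k : ι}, j ≤ k → (Over V)ᵒᵖ ⥤ AddCommGrpCat.{u + 1} := fun h =>
    (Over.forget V).op ⋙ (stageFun h).op ⋙ I.obj
  let φ : ∀ {k : ι} (h : j ≤ k), P h ⟶ (Over.forget V).op ⋙ (EtCoh.bc (proj c j)).op ⋙ ((toLim c).obj I).obj :=
    fun h => Functor.whiskerLeft (Over.forget V).op (toBase c I h)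
  let ψ : ∀ {k l : ι} (h : j ≤ k) (hkl : k ≤ l), P h ⟶ P (h.trans hkl) := fun h hkl =>
    Functor.whiskerLeft (Over.forget V).op (stageTrans I h (h.trans hkl) hkl)
  have hψ : ∀ {k l : ι} (h : j ≤ k) (hkl : k ≤ l) (A : (Over V)ᵒᵖ) (t : (P h).obj A),
      (φ (h.trans hkl)).app A ((ψ h hkl).app A t) = (φ h).app A t := fun h hkl A t =>
    ConcreteCategory.congr_hom (congr_app (stageTrans_toBase c I h (h.trans hkl) hkl) (op A.unop.left)) t
  choose k hk t ht using fun a => exists_base_stage c hc I (Cech.inter Y₀ a).left (hin a)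
    (Cech.ev ((Over.forget V).op ⋙ (EtCoh.bc (proj c j)).op ⋙ ((toLim c).obj I).obj) Y₀ a x)
  haveI := Fintype.ofFinite α
  obtain ⟨k₀, hk₀⟩ := (insert j ((Finset.univ : Finset (Fin (p + 1 + 1) → α)).image k)).exists_le
  have hj₀ : j ≤ k₀ := hk₀ j (Finset.mem_insert_self _ _)
  have hk' : ∀ a, k a ≤ k₀ := fun a => hk₀ _ (Finset.mem_insert_of_mem (Finset.mem_image_of_mem k (Finset.mem_univ a)))
  let z₀ : (Cech.cx (P hj₀) Y₀).X (p + 1) :=
    Cech.mk _ Y₀ fun a => (stageTrans I (hk a) hj₀ (hk' a)).app (op (Cech.inter Y₀ a).left) (t a)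
  have hz₀ : Cech.map Y₀ (φ hj₀) z₀ = x := Cech.ext _ _ fun a => by
    rw [Cech.ev_map, Cech.ev_mk]
    exact (ConcreteCategory.congr_hom (congr_app (stageTrans_toBase c I (hk a) hj₀ (hk' a))
      (op (Cech.inter Y₀ a).left)) (t a)).trans (ht a)
  let d₀ := (Cech.cx (P hj₀) Y₀).d (p + 1) (p + 2) z₀
  have hd₀ : ∀ b, ∃ (l : ι) (hl : k₀ ≤ l), (ψ hj₀ hl).app (op (Cech.inter Y₀ b)) (Cech.ev _ Y₀ b d₀) = 0 := fun b => by
    refine exists_base_eq_zero c hc I hj₀ _ (hin b) _ ?_
    show (φ hj₀).app (op (Cech.inter Y₀ b)) _ = 0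
    rw [← Cech.ev_map, Cech.map_d, hz₀, hx, map_zero]
  choose l hl hl0 using hd₀
  obtain ⟨l₀, hl₀⟩ := (insert k₀ ((Finset.univ : Finset (Fin (p + 1 + 1 + 1) → α)).image l)).exists_le
  have hkl : k₀ ≤ l₀ := hl₀ k₀ (Finset.mem_insert_self _ _)
  have hd : Cech.map Y₀ (ψ hj₀ hkl) d₀ = 0 := Cech.ext _ _ fun b => by
    have hb : l b ≤ l₀ := hl₀ _ (Finset.mem_insert_of_mem (Finset.mem_image_of_mem l (Finset.mem_univ b)))
    have e : stMap (Xs := Xs) hj₀ (hj₀.trans hkl) hkl (Cech.inter Y₀ b).left =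
        stMap (hj₀.trans (hl b)) (hj₀.trans hkl) hb _ ≫ stMap hj₀ (hj₀.trans (hl b)) (hl b) _ :=
      toPush_unique (by simp only [stMap, Category.assoc, toPush_down])
    rw [Cech.ev_map, map_zero]
    show I.obj.map (stMap hj₀ (hj₀.trans hkl) hkl (Cech.inter Y₀ b).left).op (Cech.ev (P hj₀) Y₀ b d₀) = 0
    rw [e, op_comp, Functor.map_comp_apply]
    exact (congrArg _ (hl0 b)).trans (map_zero _)
  obtain ⟨y, hy⟩ := (Cech.isZero_homology_succ_iff _ Y₀ p).1 (isZero_cech_stage I (hj₀.trans hkl) V Y₀ p)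
    (Cech.map Y₀ (ψ hj₀ hkl) z₀) (by rw [← Cech.map_d]; exact hd)
  refine ⟨Cech.map Y₀ (φ (hj₀.trans hkl)) y, ?_⟩
  rw [← Cech.map_d, hy]
  refine Eq.trans ?_ hz₀
  exact Cech.ext _ _ fun a => by
    rw [Cech.ev_map, Cech.ev_map, Cech.ev_map]
    exact hψ hj₀ hkl _ _

include hc in
theorem isQcqs_top [∀ a, CompactSpace ↥(Xs.obj a)] [∀ a, QuasiSeparatedSpace ↥(Xs.obj a)] :
    (limBasis c hc).B (EtCoh.top c.pt) := by
  obtain ⟨j⟩ := ‹Nonempty ι›
  refine ⟨j, EtCoh.top (St Xs j), ⟨inferInstanceAs (CompactSpace ↥(Xs.obj (op j))),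
    inferInstanceAs (QuasiSeparatedSpace ↥(Xs.obj (op j)))⟩, ⟨?_⟩⟩
  exact EtCore.bcTopIso (proj c j)

include hc in
/-- Pullbacks of injectives are acyclic on the limit. -/
theorem subsingleton_H_toLim [∀ a, CompactSpace ↥(Xs.obj a)] [∀ a, QuasiSeparatedSpace ↥(Xs.obj a)]
    (I : Ab Xs) [Injective I] (n : ℕ) :
    Subsingleton (Ext.{u + 1} (EtCoh.const c.pt ℤ) ((toLim c).obj I) (n + 1)) :=
  (limBasis c hc).subsingleton_ext
    (fun g hg a => exists_lift_const (EtCore.topIsTerminal c.pt) g (hg _ (isQcqs_top c hc)) a)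
    (acyclic_toLim c hc I) n

end Groth.Agent.EtLimit
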