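import Groth.Agent.EtLimit.Vanish
import Groth.Agent.HenselLib.IndEtale
import Mathlib.AlgebraicGeometry.Morphisms.Etale

/-!
# Descent of étale objects and of morphisms to a stage
-/

set_option autoImplicit false
set_option linter.all false
set_option backward.isDefEq.respectTransparency.types false
set_option backward.isDefEq.respectTransparency false
set_option backward.defeqAttrib.useBackward true
set_option synthInstance.maxHeartbeats 400000
set_option maxHeartbeats 1000000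

universe u

open CategoryTheory Limits AlgebraicGeometry Opposite
open Groth.Agent.HenselLib.IndEt (etaleMP)

namespace Groth.Agent.EtLimit

variable {ι : Type u} [Preorder ι] [IsDirected ι (· ≤ ·)] [Nonempty ι] {Xs : ιᵒᵖ ⥤ Scheme.{u}}
  {c : Cone Xs} (hc : IsLimit c)
  [haff : ∀ ⦃a b : ιᵒᵖ⦄ (h : a ⟶ b), IsAffineHom (Xs.map h)]

include hc in
/-- An affine étale scheme over the limit descends to a stage. -/
theorem exists_descend_etale {j : ι} (V : (St Xs j).Etale) [IsAffine V.left] (Z : c.pt.Etale) [IsAffine Z.left]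
    (f : Z ⟶ (phi c).obj ⟨j, V⟩) :
    ∃ (k : ι) (T : (St Xs k).Etale) (t : (⟨k, T⟩ : Obj Xs) ⟶ ⟨j, V⟩)
      (σ : (phi c).obj ⟨k, T⟩ ⟶ Z) (ρ : Z ⟶ (phi c).obj ⟨k, T⟩),
      IsAffine T.left ∧ σ ≫ f = (phi c).map t ∧ ρ ≫ (phi c).map t = f ∧ ρ ≫ σ = 𝟙 Z := by
  haveI : ∀ {a b : ιᵒᵖ} (f : a ⟶ b), IsAffineHom (Xs.map f) := fun f => haff f
  haveI : IsAffine ((𝟭 Scheme.{u}).obj V.left) := ‹IsAffine V.left›
  haveI := isAffineHom_π_app Xs c hc (op j)
  let D := H8Lim.stage Xs V.hom
  haveI : ∀ o, IsAffine (D.obj o) := fun o => by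
    haveI : IsAffineHom (H8Lim.stageFst Xs V.hom o) := inferInstance
    exact isAffine_of_isAffineHom (H8Lim.stageFst Xs V.hom o)
  haveI : ∀ o, CompactSpace ↥(D.obj o) := fun o => inferInstance
  haveI : ∀ o, QuasiSeparatedSpace ↥(D.obj o) := fun o => inferInstance
  haveI : IsAffine (pullback V.hom (proj c j)) := by
    haveI : IsAffineHom (pullback.fst V.hom (proj c j)) := MorphismProperty.pullback_fst _ _ inferInstance
    exact isAffine_of_isAffineHom (pullback.fst V.hom (proj c j))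
  let P : Scheme.{u} := pullback V.hom (proj c j)
  let fl : Z.left ⟶ P := f.left
  haveI : Etale fl := by
    haveI : Etale Z.hom := Z.prop
    haveI : Etale ((phi c).obj ⟨j, V⟩).hom := ((phi c).obj ⟨j, V⟩).prop
    haveI : Etale (fl ≫ ((phi c).obj ⟨j, V⟩).hom) :=
      (congrArg (fun m => Etale m) (CategoryTheory.Over.w f.hom)).mpr Z.prop
    exact Etale.of_comp fl ((phi c).obj ⟨j, V⟩).hom
  have sq := IsPullback.of_hasPullback V.hom (proj c j)
  let cc := H8Lim.stageCone V.hom c _ _ sq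
  obtain ⟨hcR⟩ : Nonempty (IsColimit (Scheme.Γ.mapCocone cc.op)) :=
    nonempty_isColimit_Γ_mapCocone D cc (H8Lim.isLimitStageCone V.hom _ _ sq hc)
  haveI : IsAffine cc.pt := ‹IsAffine (pullback V.hom (proj c j))›
  obtain ⟨⟨o⟩, R, r, ψ, hsq, hr⟩ := MorphismProperty.exists_isPushout_of_isFiltered (P := etaleMP)
    hcR fl.appTop ((HasRingHomProperty.iff_of_isAffine (P := @Etale) (X := Z.left) (Y := P)).1 inferInstance)
  let k := o.left.unop
  have hk : j ≤ k := leOfHom o.hom.unop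
  haveI : Etale (Spec.map r) := (HasRingHomProperty.Spec_iff (P := @Etale)).2 hr
  haveI : IsAffine (D.obj o) := inferInstance
  let q₀ : Spec R ⟶ pullback V.hom (tr Xs hk) := Spec.map r ≫ (D.obj o).isoSpec.inv
  haveI : Etale q₀ := inferInstanceAs (Etale (Spec.map r ≫ _))
  haveI : Etale ((EtCoh.bc (tr Xs hk)).obj V).hom := ((EtCoh.bc (tr Xs hk)).obj V).prop
  let T : (St Xs k).Etale := Scheme.Etale.mk (q₀ ≫ ((EtCoh.bc (tr Xs hk)).obj V).hom)
  let tb : (⟨k, T⟩ : Obj Xs) ⟶ push' hk V := (incl Xs k).map (MorphismProperty.Over.homMk q₀ rfl trivial)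
  let e : Z.left ⟶ Spec R := Z.left.isoSpec.hom ≫ Spec.map ψ
  have sq₀ : IsPullback e fl q₀ (toSt c hk V) := by
    have hπ : cc.π.app o = toSt c hk V := by
      refine pullback.hom_ext ?_ ?_
      · exact (H8Lim.stageProj_fst V.hom c _ _ sq o).trans (pullback.lift_fst _ _ _).symm
      · exact (H8Lim.stageProj_snd V.hom c _ _ sq o).trans (pullback.lift_snd _ _ _).symm
    haveI : IsAffine (((Functor.const (Over (op j))).obj cc.pt).obj o) := ‹IsAffine cc.pt›
    refine (isPullback_SpecMap_of_isPushout _ _ _ _ hsq).flip.of_iso Z.left.isoSpec.symm (Iso.refl _)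
      P.isoSpec.symm (D.obj o).isoSpec.symm ?_ ?_ ?_ ?_
    · show Spec.map ψ ≫ 𝟙 _ = Z.left.isoSpec.inv ≫ Z.left.isoSpec.hom ≫ Spec.map ψ
      rw [Category.comp_id, Iso.inv_hom_id_assoc]
    · exact Scheme.isoSpec_inv_naturality fl
    · show Spec.map r ≫ (D.obj o).isoSpec.inv = 𝟙 _ ≫ q₀
      rw [Category.id_comp]
    · exact (Scheme.isoSpec_inv_naturality (cc.π.app o)).trans (congrArg (_ ≫ ·) hπ)
  let tt : (⟨k, T⟩ : Obj Xs) ⟶ ⟨j, V⟩ := tb ≫ down hk V
  have hT : T.hom = q₀ ≫ pullback.snd V.hom (tr Xs hk) := rfl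
  have hr : pullback.fst T.hom (proj c k) ≫ q₀ = phiHom c tt ≫ toSt c hk V := by
    refine pullback.hom_ext ?_ ?_
    · refine Eq.trans ?_ ((congrArg (_ ≫ ·) (pullback.lift_fst _ _ _)).symm.trans (Category.assoc _ _ _).symm)
      refine Eq.trans ?_ (phiHom_fst c tt).symm
      exact Category.assoc _ _ _
    · refine Eq.trans ?_ ((congrArg (_ ≫ ·) (pullback.lift_snd _ _ _)).symm.trans (Category.assoc _ _ _).symm)
      refine Eq.trans ?_ ((congrArg (· ≫ proj c k) (phiHom_snd c tt)).symm.trans (Category.assoc _ _ _))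
      exact (Category.assoc _ _ _).trans (pullback.condition (f := T.hom) (g := proj c k))
  let σ₀ : pullback T.hom (proj c k) ⟶ Z.left := sq₀.lift (pullback.fst T.hom (proj c k)) (phiHom c tt) hr
  have hσ₀ : σ₀ ≫ fl = phiHom c tt := sq₀.lift_snd _ _ _
  have he : e ≫ T.hom = Z.hom ≫ proj c k := by
    refine (congrArg (e ≫ ·) hT).trans ((Category.assoc _ _ _).symm.trans ((congrArg (· ≫ _) sq₀.w).trans ?_))
    refine (Category.assoc _ _ _).trans ((congrArg (fl ≫ ·) (pullback.lift_snd _ _ _)).trans ?_)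
    exact (Category.assoc _ _ _).symm.trans (congrArg (· ≫ proj c k) (CategoryTheory.Over.w f.hom))
  have hρ : liftTo c ⟨k, T⟩ e he ≫ (phi c).map tt = f := hom_phi_ext c (by
    refine (Category.assoc _ _ _).trans ((congrArg (_ ≫ ·) (phiHom_fst c tt)).trans ?_)
    refine (Category.assoc _ _ _).symm.trans ((congrArg (· ≫ _) (pullback.lift_fst _ _ _)).trans ?_)
    refine (Category.assoc _ _ _).symm.trans ((congrArg (· ≫ _) sq₀.w).trans ?_)
    exact (Category.assoc _ _ _).trans (congrArg (fl ≫ ·) (pullback.lift_fst _ _ _)))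
  refine ⟨k, T, tt, MorphismProperty.Over.homMk σ₀ ?_ trivial, liftTo c ⟨k, T⟩ e he,
    inferInstanceAs (IsAffine (Spec R)),
    (Scheme.Etale.forget c.pt ⋙ CategoryTheory.Over.forget c.pt).map_injective hσ₀, hρ,
    (Scheme.Etale.forget c.pt ⋙ CategoryTheory.Over.forget c.pt).map_injective (sq₀.hom_ext ?_ ?_)⟩
  · refine (congrArg (σ₀ ≫ ·) (CategoryTheory.Over.w f.hom).symm).trans ((Category.assoc _ _ _).symm.trans ?_)
    exact (congrArg (· ≫ _) hσ₀).trans (phiHom_snd c tt)
  · refine (Category.assoc _ _ _).trans ((congrArg (_ ≫ ·) (sq₀.lift_fst _ _ hr)).trans ?_)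
    exact (pullback.lift_fst _ _ _).trans (Category.id_comp _).symm
  · refine (Category.assoc _ _ _).trans ((congrArg (_ ≫ ·) hσ₀).trans ?_)
    exact (congrArg (fun q : Z ⟶ (phi c).obj ⟨j, V⟩ => q.left) hρ).trans (Category.id_comp _).symm

include hc in
/-- A morphism between base changes descends to a stage. -/
theorem exists_descend_hom {k : ι} (T : (St Xs k).Etale) [CompactSpace T.left] [QuasiSeparatedSpace T.left]
    (A : Obj Xs) (a : (phi c).obj ⟨k, T⟩ ⟶ (phi c).obj A) :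
    ∃ (m : ι) (hkm : k ≤ m) (g : push' hkm T ⟶ A), (phi c).map g = (phi c).map (down hkm T) ≫ a := by
  haveI : ∀ {a b : ιᵒᵖ} (f : a ⟶ b), IsAffineHom (Xs.map f) := fun f => haff f
  obtain ⟨l, hkl, hjl⟩ := exists_ge_ge k A.idx
  let Tl : (St Xs l).Etale := (EtCoh.bc (tr Xs hkl)).obj T
  haveI : CompactSpace ↥((𝟭 Scheme.{u}).obj T.left) := ‹CompactSpace T.left›
  haveI : QuasiSeparatedSpace ↥((𝟭 Scheme.{u}).obj T.left) := ‹QuasiSeparatedSpace T.left›
  haveI : IsAffineHom (pullback.fst T.hom (tr Xs hkl)) := MorphismProperty.pullback_fst _ _ (haff _)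
  haveI : CompactSpace ↥Tl.left := QuasiCompact.compactSpace_of_compactSpace (pullback.fst T.hom (tr Xs hkl))
  haveI : QuasiSeparatedSpace ↥Tl.left := quasiSeparatedSpace_of_quasiSeparated (pullback.fst T.hom (tr Xs hkl))
  haveI : CompactSpace ↥((𝟭 Scheme.{u}).obj Tl.left) := ‹CompactSpace Tl.left›
  haveI : QuasiSeparatedSpace ↥((𝟭 Scheme.{u}).obj Tl.left) := ‹QuasiSeparatedSpace Tl.left›
  let D := H8Lim.stage Xs Tl.hom
  haveI : ∀ {o o' : Over (op l)} (f : o ⟶ o'), IsAffineHom (D.map f) := fun f => inferInstance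
  haveI : ∀ o, CompactSpace ↥(D.obj o) := fun o => inferInstance
  haveI : ∀ o, QuasiSeparatedSpace ↥(D.obj o) := fun o => inferInstance
  have sq := IsPullback.of_hasPullback Tl.hom (proj c l)
  let cc := H8Lim.stageCone Tl.hom c _ _ sq
  haveI : Etale A.V.hom := A.V.prop
  haveI : LocallyOfFinitePresentation A.V.hom := inferInstance
  let t : D ⟶ (Functor.const (Over (op l))).obj (St Xs A.idx) :=
    { app := fun o => H8Lim.stageSnd Xs Tl.hom o ≫ Xs.map o.hom ≫ tr Xs hjl
      naturality := fun o o' g => by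
        refine Eq.trans ?_ (Category.comp_id _).symm
        rw [← Category.assoc, H8Lim.stageMap_snd, Category.assoc, ← Category.assoc (Xs.map g.left),
          ← Functor.map_comp, CategoryTheory.Over.w g] }
  let al : (phi c).obj ⟨l, Tl⟩ ⟶ (phi c).obj A := (phi c).map (down hkl T) ≫ a
  obtain ⟨o, g, hg, hg'⟩ := Scheme.exists_π_app_comp_eq_of_locallyOfFinitePresentation D t A.V.hom cc
    (H8Lim.isLimitStageCone Tl.hom _ _ sq hc) (al.left ≫ pullback.fst A.V.hom (proj c A.idx)) (by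
      ext o : 2
      show cc.π.app o ≫ H8Lim.stageSnd Xs Tl.hom o ≫ Xs.map o.hom ≫ tr Xs hjl = _
      have h1 : cc.π.app o ≫ H8Lim.stageSnd Xs Tl.hom o = pullback.snd Tl.hom (proj c l) ≫ c.π.app o.left :=
        H8Lim.stageProj_snd Tl.hom c _ _ sq o
      rw [reassoc_of% h1, c.w_assoc o.hom]
      exact ((congrArg (pullback.snd Tl.hom (proj c l) ≫ ·) (proj_tr c hjl)).trans (w_phi c al).symm))
  let m := o.left.unop
  have hlm : l ≤ m := leOfHom o.hom.unop
  let g₁ : push' hlm Tl ⟶ A := ⟨hjl.trans hlm, g, hg'.trans (congrArg (H8Lim.stageSnd Xs Tl.hom o ≫ ·)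
    (tr_comp Xs hjl hlm))⟩
  have hπ : cc.π.app o = toSt c hlm Tl := by
    refine pullback.hom_ext ?_ ?_
    · exact (H8Lim.stageProj_fst Tl.hom c _ _ sq o).trans (pullback.lift_fst _ _ _).symm
    · exact (H8Lim.stageProj_snd Tl.hom c _ _ sq o).trans (pullback.lift_snd _ _ _).symm
  have h₁ : (phi c).map g₁ = (phi c).map (down hlm Tl) ≫ al := by
    refine hom_phi_ext c ((phiHom_fst c g₁).trans ?_)
    refine Eq.trans ?_ (Category.assoc _ _ _).symm
    refine Eq.trans ?_ (congrArg (_ ≫ ·) hg)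
    refine Eq.trans ?_ (Category.assoc _ _ _)
    refine congrArg (· ≫ g) ?_
    rw [hπ]
    refine pullback.hom_ext ?_ ?_
    · refine Eq.trans ?_ ((congrArg (_ ≫ ·) (pullback.lift_fst _ _ _)).symm.trans (Category.assoc _ _ _).symm)
      exact (phiHom_fst c (down hlm Tl)).symm
    · refine Eq.trans ?_ ((congrArg (_ ≫ ·) (pullback.lift_snd _ _ _)).symm.trans (Category.assoc _ _ _).symm)
      refine Eq.trans ?_ ((congrArg (· ≫ proj c m) (phiHom_snd c (down hlm Tl))).symm.trans (Category.assoc _ _ _))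
      exact pullback.condition
  let st : push' (hkl.trans hlm) T ⟶ (⟨l, Tl⟩ : Obj Xs) := stMap hkl (hkl.trans hlm) hlm T
  let g₂ : push' (hkl.trans hlm) T ⟶ push' hlm Tl := toPush st hlm le_rfl
  refine ⟨m, hkl.trans hlm, g₂ ≫ g₁, ?_⟩
  have h₂ : g₂ ≫ down hlm Tl = st := toPush_down st hlm le_rfl
  have h₃ : st ≫ down hkl T = down (hkl.trans hlm) T := toPush_down (down (hkl.trans hlm) T) hkl hlm
  rw [Functor.map_comp, h₁]
  refine (Category.assoc _ _ _).symm.trans ((congrArg (· ≫ al) ?_).trans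
    ((Category.assoc _ _ _).symm.trans (congrArg (· ≫ a) (((phi c).map_comp _ _).symm.trans (congrArg (phi c).map h₃)))))
  exact ((phi c).map_comp _ _).symm.trans (congrArg (phi c).map h₂)

end Groth.Agent.EtLimit
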