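import Groth.Agent.EtLimit.Push
import Groth.Prelude.Def_EtLim

/-!
# Global functions on the limit
-/

set_option autoImplicit false
set_option linter.all false
set_option backward.isDefEq.respectTransparency.types false
set_option backward.isDefEq.respectTransparency false
set_option backward.defeqAttrib.useBackward true
set_option synthInstance.maxHeartbeats 400000
set_option maxHeartbeats 1000000

universe u

open CategoryTheory Limits AlgebraicGeometry Opposite

namespace Groth.Agent.EtLimit

variable {ι : Type u} [Preorder ι] {Xs : ιᵒᵖ ⥤ Scheme.{u}}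

/-- Pullback of functions from an object of the total site to its base change. -/
noncomputable abbrev toPhi (c : Cone Xs) (A : Obj Xs) : Γ(A.V.left, ⊤) →+* Γ(pullback A.V.hom (proj c A.idx), ⊤) :=
  (pullback.fst A.V.hom (proj c A.idx)).appTop.hom

/-- Pullback of functions along a morphism of the total site. -/
noncomputable abbrev gMap {A B : Obj Xs} (g : A ⟶ B) : Γ(B.V.left, ⊤) →+* Γ(A.V.left, ⊤) :=
  (show Hom A B from g).hom.appTop.hom

theorem toPhi_gMap (c : Cone Xs) {A B : Obj Xs} (g : A ⟶ B) (x : Γ(B.V.left, ⊤)) :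
    toPhi c A (gMap g x) = (phiHom c g).appTop.hom (toPhi c B x) := by
  have h := congrArg (fun m => (Scheme.Hom.appTop m).hom x) (phiHom_fst c g)
  simp only [Scheme.Hom.comp_appTop, CommRingCat.hom_comp, RingHom.coe_comp, Function.comp_apply] at h
  exact h.symm

variable [IsDirected ι (· ≤ ·)] [Nonempty ι] {c : Cone Xs} (hc : IsLimit c)
  [haff : ∀ ⦃a b : ιᵒᵖ⦄ (h : a ⟶ b), IsAffineHom (Xs.map h)]

include hc haff in
/-- A function on the base change of an affine object comes from a later stage. -/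
theorem exists_function_stage {k : ι} (T : (St Xs k).Etale) [IsAffine T.left]
    (x : Γ(pullback T.hom (proj c k), ⊤)) :
    ∃ (l : ι) (h : k ≤ l) (y : Γ((push' h T).V.left, ⊤)),
      toPhi c (push' h T) y = (phiHom c (down h T)).appTop.hom x := by
  haveI : ∀ {a b : ιᵒᵖ} (f : a ⟶ b), IsAffineHom (Xs.map f) := fun f => haff f
  haveI : IsAffine ((𝟭 Scheme.{u}).obj T.left) := ‹IsAffine T.left›
  let D := H8Lim.stage Xs T.hom
  haveI : ∀ o, CompactSpace ↥(D.obj o) := fun o => inferInstance
  haveI : ∀ o, QuasiSeparatedSpace ↥(D.obj o) := fun o => inferInstance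
  have sq := IsPullback.of_hasPullback T.hom (proj c k)
  let cc := H8Lim.stageCone T.hom c _ _ sq
  obtain ⟨hcR⟩ : Nonempty (IsColimit (Scheme.Γ.mapCocone cc.op)) :=
    nonempty_isColimit_Γ_mapCocone D cc (H8Lim.isLimitStageCone T.hom _ _ sq hc)
  obtain ⟨⟨o⟩, y, hy⟩ := Concrete.isColimit_exists_rep _ hcR x
  have hk : k ≤ o.left.unop := leOfHom o.hom.unop
  have hπ : cc.π.app o = toSt c hk T := by
    refine pullback.hom_ext ?_ ?_
    · exact (H8Lim.stageProj_fst T.hom c _ _ sq o).trans (pullback.lift_fst _ _ _).symm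
    · exact (H8Lim.stageProj_snd T.hom c _ _ sq o).trans (pullback.lift_snd _ _ _).symm
  have hfst : phiHom c (down hk T) ≫ toSt c hk T = pullback.fst (push' hk T).V.hom (proj c o.left.unop) := by
    refine pullback.hom_ext ?_ ?_
    · exact (Category.assoc _ _ _).trans ((congrArg (_ ≫ ·) (pullback.lift_fst _ _ _)).trans (phiHom_fst c (down hk T)))
    · refine (Category.assoc _ _ _).trans ((congrArg (_ ≫ ·) (pullback.lift_snd _ _ _)).trans ?_)
      refine (Category.assoc _ _ _).symm.trans ((congrArg (· ≫ _) (phiHom_snd c (down hk T))).trans ?_)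
      exact pullback.condition.symm
  refine ⟨o.left.unop, hk, y, ?_⟩
  rw [← hy]
  show (pullback.fst (push' hk T).V.hom (proj c o.left.unop)).appTop.hom y = _
  rw [← hfst, Scheme.Hom.comp_appTop, CommRingCat.hom_comp, RingHom.comp_apply]
  exact congrArg (phiHom c (down hk T)).appTop.hom (congrArg (fun m => (Scheme.Hom.appTop m).hom y) hπ).symm

include hc haff in
/-- Functions on an affine object which agree on the limit agree at a later stage. -/
theorem exists_function_eq {k : ι} (T : (St Xs k).Etale) [IsAffine T.left]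
    (a b : Γ(T.left, ⊤)) (hab : toPhi c ⟨k, T⟩ a = toPhi c ⟨k, T⟩ b) :
    ∃ (l : ι) (h : k ≤ l), gMap (down h T) a = gMap (down h T) b := by
  haveI : ∀ {a b : ιᵒᵖ} (f : a ⟶ b), IsAffineHom (Xs.map f) := fun f => haff f
  haveI : IsAffine ((𝟭 Scheme.{u}).obj T.left) := ‹IsAffine T.left›
  let D := H8Lim.stage Xs T.hom
  haveI : ∀ o, CompactSpace ↥(D.obj o) := fun o => inferInstance
  haveI : ∀ o, QuasiSeparatedSpace ↥(D.obj o) := fun o => inferInstance
  have sq := IsPullback.of_hasPullback T.hom (proj c k)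
  let cc := H8Lim.stageCone T.hom c _ _ sq
  obtain ⟨hcR⟩ : Nonempty (IsColimit (Scheme.Γ.mapCocone cc.op)) :=
    nonempty_isColimit_Γ_mapCocone D cc (H8Lim.isLimitStageCone T.hom _ _ sq hc)
  let o₀ : Over (op k) := Over.mk (𝟙 (op k))
  let P := (H8Lim.stageFst Xs T.hom o₀).appTop.hom
  have h0 : ∀ z, (cc.π.app o₀).appTop.hom (P z) = toPhi c ⟨k, T⟩ z := fun z => by
    show ((H8Lim.stageFst Xs T.hom o₀).appTop ≫ (cc.π.app o₀).appTop).hom z = _
    rw [← Scheme.Hom.comp_appTop]
    exact congrArg (fun m => (Scheme.Hom.appTop m).hom z) (H8Lim.stageProj_fst T.hom c _ _ sq o₀)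
  obtain ⟨⟨o⟩, f, g, hfg⟩ := Concrete.isColimit_exists_of_rep_eq _ hcR (i := op o₀) (j := op o₀) (P a) (P b)
    ((h0 a).trans (hab.trans (h0 b).symm))
  have hk : k ≤ o.left.unop := leOfHom o.hom.unop
  refine ⟨o.left.unop, hk, ?_⟩
  have e : ∀ (φ : o ⟶ o₀) z, (D.map φ).appTop.hom (P z) = gMap (down hk T) z := fun φ z => by
    show ((H8Lim.stageFst Xs T.hom o₀).appTop ≫ (D.map φ).appTop).hom z = _
    rw [← Scheme.Hom.comp_appTop, H8Lim.stageMap_fst]
    rfl
  exact (e f.unop a).symm.trans (hfg.trans (e g.unop b))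

end Groth.Agent.EtLimit
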