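import Groth.Agent.EtLimit.Descend

/-!
# Sections over the limit come from a stage
-/

set_option autoImplicit false
set_option linter.all false
set_option backward.isDefEq.respectTransparency.types false
set_option backward.isDefEq.respectTransparency false
set_option backward.defeqAttrib.useBackward true
set_option synthInstance.maxHeartbeats 400000
set_option maxHeartbeats 1000000

universe u

open CategoryTheory Limits AlgebraicGeometry Opposite

namespace Groth.Agent.EtLimit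

variable {ι : Type u} [Preorder ι] {Xs : ιᵒᵖ ⥤ Scheme.{u}}

/-- Pulling back a member of the fibre along any morphism. -/
theorem exists_basePull {B C : Obj Xs} (a : B ⟶ C) {W : (St Xs C.idx).Etale} (m : (⟨C.idx, W⟩ : Obj Xs) ⟶ C) :
    ∃ (W' : (St Xs B.idx).Etale) (f : (⟨B.idx, W'⟩ : Obj Xs) ⟶ B) (g : (⟨B.idx, W'⟩ : Obj Xs) ⟶ ⟨C.idx, W⟩),
      f ≫ a = g ≫ m ∧
      (∀ (q : B.V.left) (w : W.left), (show Hom B C from a).hom q = (show Hom ⟨C.idx, W⟩ C from m).hom w →
        q ∈ Set.range (show Hom ⟨B.idx, W'⟩ B from f).hom) ∧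
      (∀ {Q : Obj Xs} (α : Q ⟶ B) (β : Q ⟶ ⟨C.idx, W⟩), α ≫ a = β ≫ m → ∃ n, n ≫ f = α ∧ n ≫ g = β) ∧
      (∀ [CompactSpace B.V.left] [CompactSpace W.left] [QuasiSeparatedSpace C.V.left], CompactSpace W'.left) := by
  let ah : Hom B C := a
  let mh : Hom (⟨C.idx, W⟩ : Obj Xs) C := m
  haveI : Etale mh.hom := etale_of_hom (A := C) (W := W) m
  haveI : Etale B.V.hom := B.V.prop
  let W' : (St Xs B.idx).Etale := Scheme.Etale.mk (pullback.fst ah.hom mh.hom ≫ B.V.hom)
  let f : (⟨B.idx, W'⟩ : Obj Xs) ⟶ B := ⟨le_rfl, pullback.fst ah.hom mh.hom, (comp_tr_refl Xs _ _).symm⟩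
  let g : (⟨B.idx, W'⟩ : Obj Xs) ⟶ ⟨C.idx, W⟩ := ⟨ah.le, pullback.snd ah.hom mh.hom, by
    refine (congrArg (_ ≫ ·) (etale_hom (A := C) (W := W) m).symm).trans ((Category.assoc _ _ _).symm.trans ?_)
    refine (congrArg (· ≫ _) pullback.condition.symm).trans ((Category.assoc _ _ _).trans ?_)
    exact (congrArg (_ ≫ ·) ah.w).trans (Category.assoc _ _ _).symm⟩
  refine ⟨W', f, g, hom_ext (f := f ≫ a) (g := g ≫ m) (pullback.condition (f := ah.hom) (g := mh.hom)),
    fun q w hw => ?_, fun {Q} α β h => ?_, ?_⟩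
  rotate_left
  · let αh : Hom Q B := α
    let βh : Hom Q (⟨C.idx, W⟩ : Obj Xs) := β
    let n : Q ⟶ ⟨B.idx, W'⟩ := ⟨αh.le, pullback.lift αh.hom βh.hom (congrArg Hom.hom h), by
      refine ((congrArg (· ≫ B.V.hom) (pullback.lift_fst _ _ _)).symm.trans (Category.assoc _ _ _)).symm.trans ?_
      exact αh.w⟩
    exact ⟨n, hom_ext (f := n ≫ f) (g := α) (pullback.lift_fst _ _ _),
      hom_ext (f := n ≫ g) (g := β) (pullback.lift_snd _ _ _)⟩
  rotate_left
  · obtain ⟨t, ht, -⟩ := Scheme.Pullback.exists_preimage_pullback (f := ah.hom) (g := mh.hom) q w hw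
    exact ⟨t, ht⟩
  · intro h1 h2 h3
    haveI : CompactSpace ↥(⟨C.idx, W⟩ : Obj Xs).V.left := h2
    haveI : QuasiCompact mh.hom := inferInstance
    haveI : QuasiCompact (pullback.fst ah.hom mh.hom) := inferInstance
    exact QuasiCompact.compactSpace_of_compactSpace (pullback.fst ah.hom mh.hom)

variable [IsDirected ι (· ≤ ·)] [Nonempty ι] {c : Cone Xs} (hc : IsLimit c)
  [haff : ∀ ⦃a b : ιᵒᵖ⦄ (h : a ⟶ b), IsAffineHom (Xs.map h)]

include haff in
omit [IsDirected ι (· ≤ ·)] [Nonempty ι] in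
theorem compactSpace_push {j k : ι} (h : j ≤ k) (V : (St Xs j).Etale) [CompactSpace V.left] :
    CompactSpace ↥(push' h V).V.left := by
  haveI : CompactSpace ↥((𝟭 Scheme.{u}).obj V.left) := ‹CompactSpace V.left›
  haveI : IsAffineHom (pullback.fst V.hom (tr Xs h)) := MorphismProperty.pullback_fst _ _ (haff _)
  exact QuasiCompact.compactSpace_of_compactSpace (pullback.fst V.hom (tr Xs h))

include haff in
omit [IsDirected ι (· ≤ ·)] [Nonempty ι] in
theorem quasiSeparatedSpace_push {j k : ι} (h : j ≤ k) (V : (St Xs j).Etale) [QuasiSeparatedSpace V.left] :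
    QuasiSeparatedSpace ↥(push' h V).V.left := by
  haveI : QuasiSeparatedSpace ↥((𝟭 Scheme.{u}).obj V.left) := ‹QuasiSeparatedSpace V.left›
  haveI : IsAffineHom (pullback.fst V.hom (tr Xs h)) := MorphismProperty.pullback_fst _ _ (haff _)
  exact quasiSeparatedSpace_of_quasiSeparated (pullback.fst V.hom (tr Xs h))

include hc in
/-- Near a point, a section over the limit comes from a stage. -/
theorem exists_local_stage (E : Ab Xs) {j : ι} (V : (St Xs j).Etale)
    (s : ((toLim c).obj E).obj.obj (op ((phi c).obj ⟨j, V⟩))) (p : ↥(pullback V.hom (proj c j))) :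
    ∃ (k : ι) (T : (St Xs k).Etale) (t : (⟨k, T⟩ : Obj Xs) ⟶ ⟨j, V⟩) (x : E.obj.obj (op (⟨k, T⟩ : Obj Xs))),
      CompactSpace T.left ∧ p ∈ Set.range (phiHom c t) ∧
      theta c E ⟨k, T⟩ x = ((toLim c).obj E).obj.map ((phi c).map t).op s := by
  let L := ((toLim c).obj E).obj
  haveI : Presheaf.IsLocallySurjective c.pt.smallEtaleTopology (sheafMap c E) :=
    inferInstanceAs (Presheaf.IsLocallySurjective _ (toSheafify c.pt.smallEtaleTopology (pre c E)))
  obtain ⟨Z₁, f₁, ⟨a, ha⟩, z₁, hz₁⟩ := EtCechLib.exists_mem_of_mem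
    (Presheaf.imageSieve_mem c.pt.smallEtaleTopology (sheafMap c E) s) p
  obtain ⟨hL⟩ := isPointwise_preUnit c E
  haveI := isCofiltered_phi c Z₁
  obtain ⟨A, g₁, x', hx'⟩ := LanAb.el_surjective (phi c) (preUnit c E) hL a
  have hs : L.map g₁.op (theta c E A x') = L.map f₁.op s := by
    refine Eq.trans ?_ ha
    exact ((NatTrans.naturality_apply (sheafMap c E) g₁.op _).symm).trans (congrArg ((sheafMap c E).app _) hx')
  -- an affine open of the stage and an affine open above it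
  obtain ⟨V₀, hV₀, hv₀, -⟩ := exists_isAffineOpen_mem_and_subset (X := V.left)
    (x := pullback.fst V.hom (proj c j) p) (U := ⊤) trivial
  haveI : IsAffine (V₀ : Scheme.{u}) := hV₀
  haveI : Etale V.hom := V.prop
  let V₀e : (St Xs j).Etale := Scheme.Etale.mk (V₀.ι ≫ V.hom)
  let i₀ : (⟨j, V₀e⟩ : Obj Xs) ⟶ ⟨j, V⟩ := (incl Xs j).map (MorphismProperty.Over.homMk V₀.ι rfl trivial)
  let q₁ : Z₁.left ⟶ V.left := f₁.left ≫ pullback.fst V.hom (proj c j)
  have hzq : q₁ z₁ ∈ V₀ := by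
    show pullback.fst V.hom (proj c j) (f₁.left z₁) ∈ V₀
    rw [hz₁]
    exact hv₀
  obtain ⟨O, hO, hzO, hOsub⟩ := exists_isAffineOpen_mem_and_subset (X := Z₁.left) (x := z₁) (U := q₁ ⁻¹ᵁ V₀) hzq
  haveI : IsAffine (O : Scheme.{u}) := hO
  haveI : Etale Z₁.hom := Z₁.prop
  let Z : c.pt.Etale := Scheme.Etale.mk (O.ι ≫ Z₁.hom)
  haveI : IsAffine Z.left := hO
  let iz : Z ⟶ Z₁ := MorphismProperty.Over.homMk O.ι rfl trivial
  have hrange : Set.range (O.ι ≫ q₁) ⊆ Set.range V₀.ι := by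
    rw [Scheme.Opens.range_ι]
    rintro _ ⟨z, rfl⟩
    exact hOsub z.2
  let l₀ : (O : Scheme.{u}) ⟶ V₀ := IsOpenImmersion.lift V₀.ι (O.ι ≫ q₁) hrange
  have hl₀ : l₀ ≫ V₀.ι = O.ι ≫ q₁ := IsOpenImmersion.lift_fac _ _ hrange
  have hw : l₀ ≫ V₀e.hom = Z.hom ≫ proj c j := by
    refine (Category.assoc _ _ _).symm.trans ((congrArg (· ≫ V.hom) hl₀).trans ?_)
    exact (Category.assoc _ _ _).trans ((congrArg (O.ι ≫ ·) (w_phi c f₁)).trans (Category.assoc _ _ _).symm)
  let f₀ : Z ⟶ (phi c).obj ⟨j, V₀e⟩ := liftTo c ⟨j, V₀e⟩ l₀ hw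
  have hf₀ : f₀ ≫ (phi c).map i₀ = iz ≫ f₁ := by
    refine hom_phi_ext c ((Category.assoc _ _ _).trans ((congrArg (_ ≫ ·) (phiHom_fst c i₀)).trans ?_))
    refine (Category.assoc _ _ _).symm.trans ((congrArg (· ≫ _) (pullback.lift_fst _ _ _)).trans ?_)
    exact hl₀.trans (Category.assoc _ _ _).symm
  haveI : IsAffine V₀e.left := hV₀
  obtain ⟨k, T, t, σ, ρ, hT, hσ, hρ, -⟩ := exists_descend_etale hc V₀e Z f₀
  haveI := hT
  obtain ⟨m, hkm, g, hg⟩ := exists_descend_hom hc T A (σ ≫ iz ≫ g₁)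
  haveI : CompactSpace T.left := inferInstance
  refine ⟨m, (push' hkm T).V, down hkm T ≫ t ≫ i₀, E.obj.map g.op x', compactSpace_push hkm T, ?_, ?_⟩
  · refine ⟨((phiToPush c (𝟙 _) hkm).left) (ρ.left ⟨z₁, hzO⟩), ?_⟩
    have e : ρ ≫ phiToPush c (𝟙 _) hkm ≫ (phi c).map (down hkm T ≫ t ≫ i₀) = iz ≫ f₁ := by
      rw [Functor.map_comp, phiToPush_down_assoc, Category.id_comp, Functor.map_comp, reassoc_of% hρ]
      exact hf₀
    rw [← hz₁]
    exact congrArg (fun q : Z ⟶ (phi c).obj ⟨j, V⟩ => q.left ⟨z₁, hzO⟩) e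
  · refine (theta_nat c E g x').trans ?_
    rw [hg]
    simp only [Functor.map_comp, op_comp]
    simp only [ConcreteCategory.comp_apply]
    refine congrArg (L.map ((phi c).map (down hkm T)).op) ?_
    rw [hs]
    rw [← Functor.map_comp_apply, ← Functor.map_comp_apply, ← op_comp, ← op_comp]
    rw [← hσ]
    simp only [Category.assoc]
    rw [← Functor.map_comp_apply, ← op_comp, Category.assoc, hf₀]

include hc in
/-- A section over the limit comes from a stage. -/
theorem exists_stage_section (E : Ab Xs) {j : ι} (V : (St Xs j).Etale) [CompactSpace V.left]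
    [QuasiSeparatedSpace V.left] (s : ((toLim c).obj E).obj.obj (op ((phi c).obj ⟨j, V⟩))) :
    ∃ (k : ι) (hk : j ≤ k) (x : E.obj.obj (op (push' hk V))),
      theta c E (push' hk V) x = ((toLim c).obj E).obj.map ((phi c).map (down hk V)).op s := by
  classical
  let L := ((toLim c).obj E).obj
  choose k T t x hT hp hx using exists_local_stage hc E V s
  have hjk : ∀ p, j ≤ k p := fun p => (show Hom (⟨k p, T p⟩ : Obj Xs) ⟨j, V⟩ from t p).le
  let tb : ∀ p, (⟨k p, T p⟩ : Obj Xs) ⟶ push' (hjk p) V := fun p => toPush (t p) (hjk p) le_rfl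
  have hopen : ∀ p, IsOpen (Set.range (show Hom ⟨k p, T p⟩ (push' (hjk p) V) from tb p).hom) := fun p => by
    haveI := etale_of_hom (A := push' (hjk p) V) (W := T p) (tb p)
    exact (show Hom ⟨k p, T p⟩ (push' (hjk p) V) from tb p).hom.isOpenMap.isOpen_range
  have hp' : ∀ p, toSt c (hjk p) V p ∈ Set.range (show Hom ⟨k p, T p⟩ (push' (hjk p) V) from tb p).hom := fun p => by
    obtain ⟨w, hw⟩ := hp p
    have e : pullback.fst (T p).hom (proj c (k p)) ≫ (show Hom ⟨k p, T p⟩ (push' (hjk p) V) from tb p).hom =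
        phiHom c (t p) ≫ toSt c (hjk p) V := by
      refine pullback.hom_ext ?_ ?_
      · refine (Category.assoc _ _ _).trans ((congrArg (_ ≫ ·) (pullback.lift_fst _ _ _)).trans ?_)
        refine Eq.trans ?_ ((congrArg (_ ≫ ·) (pullback.lift_fst _ _ _)).symm.trans (Category.assoc _ _ _).symm)
        exact (phiHom_fst c (t p)).symm
      · refine (Category.assoc _ _ _).trans ((congrArg (_ ≫ ·) (pullback.lift_snd _ _ _)).trans ?_)
        refine Eq.trans ?_ ((congrArg (_ ≫ ·) (pullback.lift_snd _ _ _)).symm.trans (Category.assoc _ _ _).symm)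
        refine ((congrArg (_ ≫ ·) (comp_tr_refl Xs (T p).hom le_rfl)).trans (pullback.condition)).trans ?_
        exact ((congrArg (· ≫ proj c (k p)) (phiHom_snd c (t p))).symm).trans (Category.assoc _ _ _)
    refine ⟨pullback.fst (T p).hom (proj c (k p)) w, ?_⟩
    exact (congrArg (fun m => m w) e).trans (congrArg (toSt c (hjk p) V) hw)
  haveI := compactSpace_limitPullback hc V
  obtain ⟨sf, hsf⟩ := isCompact_univ.elim_finite_subcover
    (fun p => toSt c (hjk p) V ⁻¹' Set.range (show Hom ⟨k p, T p⟩ (push' (hjk p) V) from tb p).hom)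
    (fun p => (hopen p).preimage (toSt c (hjk p) V).continuous) (fun p _ => Set.mem_iUnion.2 ⟨p, hp' p⟩)
  obtain ⟨k₁, hk₁⟩ := (insert j (sf.image k)).exists_le
  have hj₁ : j ≤ k₁ := hk₁ j (Finset.mem_insert_self _ _)
  have hs₁ : ∀ p : sf, k p.1 ≤ k₁ := fun p => hk₁ _ (Finset.mem_insert_of_mem (Finset.mem_image_of_mem k p.2))
  let st : ∀ p : sf, Hom (push' hj₁ V) (push' (hjk p.1) V) := fun p => stMap (hjk p.1) hj₁ (hs₁ p) V
  let U : (pullback V.hom (tr Xs hj₁)).Opens :=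
    ⟨⋃ p : sf, (st p).hom ⁻¹' Set.range (show Hom ⟨k p.1, T p.1⟩ (push' (hjk p.1) V) from tb p.1).hom,
      isOpen_iUnion fun p => (hopen p.1).preimage (st p).hom.continuous⟩
  obtain ⟨l, hl, hlU⟩ := exists_stage_subset hc hj₁ V U fun q => by
    obtain ⟨p, hps, hq⟩ := Set.mem_iUnion₂.1 (hsf (Set.mem_univ q))
    refine Set.mem_iUnion.2 ⟨⟨p, hps⟩, ?_⟩
    have e := congrArg (fun t => t q) (toSt_stMap (c := c) (hjk p) hj₁ (hs₁ ⟨p, hps⟩) V)
    exact Set.mem_preimage.2 (e ▸ hq)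
  have hjl : j ≤ l := hj₁.trans hl
  haveI : CompactSpace ↥(push' hjl V).V.left := compactSpace_push hjl V
  haveI : QuasiSeparatedSpace ↥(push' hjl V).V.left := quasiSeparatedSpace_push hjl V
  -- the pieces at stage `l`
  let al : ∀ p : sf, push' hjl V ⟶ push' (hjk p.1) V := fun p => stMap hj₁ hjl hl V ≫ st p
  have hal : ∀ p : sf, al p ≫ down (hjk p.1) V = down hjl V := fun p => by
    simp only [al, st, stMap, Category.assoc, toPush_down]
  choose Tl tt gg hsqr hrange _huniv hcpt using fun p : sf =>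
    exists_basePull (C := push' (hjk p.1) V) (al p) (W := T p.1) (tb p.1)
  have hTl : ∀ p, CompactSpace ↥(Tl p).left := fun p => by
    haveI := hT p.1
    haveI : QuasiSeparatedSpace ↥(push' (hjk p.1) V).V.left := quasiSeparatedSpace_push (hjk p.1) V
    exact hcpt p
  let xl : ∀ p : sf, E.obj.obj (op (⟨l, Tl p⟩ : Obj Xs)) := fun p => E.obj.map (gg p).op (x p.1)
  have hcover : ∀ q : (push' hjl V).V.left, ∃ p, q ∈ Set.range (show Hom ⟨l, Tl p⟩ (push' hjl V) from tt p).hom := by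
    intro q
    obtain ⟨p, w, hw⟩ := Set.mem_iUnion.1 (hlU q)
    exact ⟨p, hrange p q w hw.symm⟩
  have hxl : ∀ p : sf, theta c E ⟨l, Tl p⟩ (xl p) = L.map ((phi c).map (tt p ≫ down hjl V)).op s := fun p => by
    refine (theta_nat c E (gg p) (x p.1)).trans ?_
    rw [hx p.1, ← Functor.map_comp_apply, ← op_comp, ← (phi c).map_comp, ← hal p, reassoc_of% (hsqr p),
      toPush_down]
  -- agreement at a later stage
  have hpair : ∀ pq : sf × sf, ∃ (m : ι) (hlm : l ≤ m), ∀ {Q : Obj Xs} (a : Q ⟶ ⟨l, Tl pq.1⟩)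
      (b : Q ⟶ ⟨l, Tl pq.2⟩), m ≤ Q.idx → a ≫ tt pq.1 = b ≫ tt pq.2 →
        E.obj.map a.op (xl pq.1) = E.obj.map b.op (xl pq.2) := by
    rintro ⟨p, p'⟩
    obtain ⟨P, f, g, hfg, -, huniv, hP⟩ := exists_basePull (B := ⟨l, Tl p⟩) (C := push' hjl V) (tt p) (W := Tl p') (tt p')
    haveI := hTl p
    haveI := hTl p'
    haveI : CompactSpace P.left := hP
    let d := E.obj.map f.op (xl p) - E.obj.map g.op (xl p')
    have hd : theta c E ⟨l, P⟩ d = 0 := by
      simp only [d, map_sub, sub_eq_zero]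
      refine (theta_nat c E f (xl p)).trans (Eq.trans ?_ (theta_nat c E g (xl p')).symm)
      rw [hxl p, hxl p', ← Functor.map_comp_apply, ← op_comp, ← Functor.map_comp_apply, ← op_comp,
        ← (phi c).map_comp, ← (phi c).map_comp, reassoc_of% hfg]
    obtain ⟨m, hlm, hm⟩ := exists_map_down_eq_zero hc E P d hd
    refine ⟨m, hlm, fun {Q} a b hmQ hab => ?_⟩
    let ah : Hom Q (⟨l, Tl p⟩ : Obj Xs) := a
    let bh : Hom Q (⟨l, Tl p'⟩ : Obj Xs) := b
    obtain ⟨n, hn₁, hn₂⟩ := huniv a b hab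
    have h0 : E.obj.map n.op d = 0 := by
      rw [← toPush_down n hlm hmQ, op_comp, Functor.map_comp_apply, hm, map_zero]
    simp only [d, map_sub, sub_eq_zero, ← Functor.map_comp_apply, ← op_comp, hn₁, hn₂] at h0
    exact h0
  choose m hlm hagree using hpair
  obtain ⟨M, hM⟩ := (insert l (Finset.univ.image m)).exists_le
  have hlM : l ≤ M := hM l (Finset.mem_insert_self _ _)
  have hmM : ∀ pq, m pq ≤ M := fun pq => hM _ (Finset.mem_insert_of_mem (Finset.mem_image_of_mem m (Finset.mem_univ pq)))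
  let aM : push' (hjl.trans hlM) V ⟶ push' hjl V := stMap hjl (hjl.trans hlM) hlM V
  choose WM fM gM hsqM hrM _huM _hcM using fun p : sf => exists_basePull (C := push' hjl V) aM (W := Tl p) (tt p)
  let πM : ∀ p : ULift.{u + 1} sf, (⟨M, WM p.down⟩ : Obj Xs) ⟶ push' (hjl.trans hlM) V := fun p => fM p.down
  have hcovM : Sieve.ofArrows (fun p : ULift.{u + 1} sf => (⟨M, WM p.down⟩ : Obj Xs)) πM ∈
      topology Xs (push' (hjl.trans hlM) V) := fun q => by
    obtain ⟨p, w, hw⟩ := hcover ((show Hom _ (push' hjl V) from aM).hom q)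
    obtain ⟨w', hw'⟩ := hrM p q w hw.symm
    exact ⟨WM p, fM p, ⟨_, 𝟙 _, _, ⟨(ULift.up p : ULift.{u + 1} sf)⟩, Category.id_comp _⟩, w', hw'⟩
  obtain ⟨xM, hxM, -⟩ := EtCechLib.existsUnique_amalgamation E πM hcovM
    (fun p => E.obj.map (gM p.down).op (xl p.down)) (fun p p' Q gi gj hgg => by
      have h := hagree (p.down, p'.down) (gi ≫ gM p.down) (gj ≫ gM p'.down) ((hmM (p.down, p'.down)).trans
        (show Hom Q (⟨M, WM p.down⟩ : Obj Xs) from gi).le) (by
          rw [Category.assoc, Category.assoc, ← hsqM p.down, ← hsqM p'.down, ← Category.assoc, ← Category.assoc]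
          exact congrArg (· ≫ aM) hgg)
      rw [op_comp, Functor.map_comp_apply, op_comp, Functor.map_comp_apply] at h
      exact h)
  refine ⟨M, hjl.trans hlM, xM, ?_⟩
  refine EtCechLib.ext_of_cover ((toLim c).obj E)
    (fun p : ULift.{u + 1} sf => (phi c).map (πM p)) ?_ fun p => ?_
  · refine GrothendieckTopology.superset_covering _ ?_ ((coverPreserving_phi c).cover_preserve hcovM)
    rintro W h ⟨B, b, h', hb, rfl⟩
    obtain ⟨_, r, _, ⟨p⟩, rfl⟩ := hb
    exact ⟨_, h' ≫ (phi c).map r, _, ⟨p⟩, by rw [Category.assoc, ← (phi c).map_comp]⟩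
  · refine ((theta_nat c E (πM p) xM).symm).trans ?_
    rw [show E.obj.map (πM p).op xM = _ from hxM p]
    refine (theta_nat c E (gM p.down) (xl p.down)).trans ?_
    rw [hxl p.down, ← Functor.map_comp_apply, ← op_comp, ← Functor.map_comp_apply, ← op_comp,
      ← (phi c).map_comp, ← (phi c).map_comp, ← reassoc_of% (hsqM p.down)]
    simp only [πM, aM, stMap, toPush_down]

end Groth.Agent.EtLimit
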