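import Mathlib.Algebra.Category.Grp.FilteredColimits
import Mathlib.Algebra.Category.Grp.Colimits
import Mathlib.CategoryTheory.Functor.KanExtension.Adjunction
import Mathlib.CategoryTheory.Limits.ConcreteCategory.Basic
import Mathlib.CategoryTheory.Limits.Filtered
import Mathlib.CategoryTheory.Comma.StructuredArrow.Basic

/-!
# Elements of left Kan extensions of presheaves of abelian groups
-/

set_option autoImplicit false
set_option linter.all false
set_option backward.isDefEq.respectTransparency.types false
set_option backward.isDefEq.respectTransparency false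

universe w v v' u u'

open CategoryTheory Limits Opposite

namespace Groth.Agent.EtLimit.LanAb

variable {C : Type u} [Category.{v} C] {D : Type u'} [Category.{v'} D] (G : C ⥤ D)
  {F : Cᵒᵖ ⥤ AddCommGrpCat.{w}} {L : Dᵒᵖ ⥤ AddCommGrpCat.{w}} (η : F ⟶ G.op ⋙ L)

/-- The element of an extension given by a section and a morphism. -/
noncomputable def el {W : D} (V : C) (h : W ⟶ G.obj V) (x : F.obj (op V)) : L.obj (op W) :=
  L.map h.op (η.app (op V) x)

theorem el_map {W W' : D} (r : W' ⟶ W) (V : C) (h : W ⟶ G.obj V) (x : F.obj (op V)) :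
    L.map r.op (el G η V h x) = el G η V (r ≫ h) x := by
  simp only [el, op_comp, Functor.map_comp]
  rfl

theorem el_map' {W : D} {V V' : C} (m : V' ⟶ V) (h : W ⟶ G.obj V') (x : F.obj (op V)) :
    el G η V' h (F.map m.op x) = el G η V (h ≫ G.map m) x := by
  simp only [el, op_comp, Functor.map_comp]
  exact congrArg _ (NatTrans.naturality_apply η m.op x)

theorem el_sub {W : D} (V : C) (h : W ⟶ G.obj V) (x y : F.obj (op V)) :
    el G η V h (x - y) = el G η V h x - el G η V h y := by
  simp only [el, map_sub]

theorem el_add {W : D} (V : C) (h : W ⟶ G.obj V) (x y : F.obj (op V)) :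
    el G η V h (x + y) = el G η V h x + el G η V h y := by
  simp only [el, map_add]

theorem el_zero {W : D} (V : C) (h : W ⟶ G.obj V) : el G η V h (0 : F.obj (op V)) = 0 := by
  simp only [el, map_zero]

variable (hL : (Functor.LeftExtension.mk L η).IsPointwiseLeftKanExtension)

include hL

theorem eq_zero_of_isEmpty {W : D} [IsEmpty (StructuredArrow W G)] (a : L.obj (op W)) : a = 0 := by
  have h : (𝟙 (L.obj (op W)) : L.obj (op W) ⟶ L.obj (op W)) = 0 :=
    (hL (op W)).hom_ext fun j => (IsEmpty.false (StructuredArrow.mk j.hom.unop)).elim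
  exact ConcreteCategory.congr_hom h a

variable {W : D} [IsCofiltered (StructuredArrow W G)]
  [PreservesFilteredColimitsOfSize.{v, max u v'} (forget AddCommGrpCat.{w})]

theorem el_surjective (a : L.obj (op W)) :
    ∃ (V : C) (h : W ⟶ G.obj V) (x : F.obj (op V)), el G η V h x = a := by
  haveI : IsFiltered (CostructuredArrow G.op (op W)) :=
    IsFiltered.of_equivalence (structuredArrowOpEquivalence G W)
  haveI : PreservesColimitsOfShape (CostructuredArrow G.op (op W)) (forget AddCommGrpCat.{w}) :=
    PreservesFilteredColimitsOfSize.preserves_filtered_colimits _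
  obtain ⟨j, y, hy⟩ := Concrete.isColimit_exists_rep _ (hL (op W)) a
  exact ⟨j.left.unop, j.hom.unop, y, hy⟩

theorem el_eq_zero {V : C} (h : W ⟶ G.obj V) (x : F.obj (op V)) (e : el G η V h x = 0) :
    ∃ (V' : C) (m : V' ⟶ V) (h' : W ⟶ G.obj V'), h' ≫ G.map m = h ∧ F.map m.op x = 0 := by
  haveI : IsFiltered (CostructuredArrow G.op (op W)) :=
    IsFiltered.of_equivalence (structuredArrowOpEquivalence G W)
  haveI : PreservesColimitsOfShape (CostructuredArrow G.op (op W)) (forget AddCommGrpCat.{w}) :=
    PreservesFilteredColimitsOfSize.preserves_filtered_colimits _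
  obtain ⟨k, f, g, hfg⟩ := Concrete.isColimit_exists_of_rep_eq _ (hL (op W))
    (i := CostructuredArrow.mk h.op) (j := CostructuredArrow.mk h.op) x (0 : F.obj (op V))
    ((e.trans (el_zero G η V h).symm) : el G η V h x = el G η V h 0)
  refine ⟨k.left.unop, f.left.unop, k.hom.unop, congrArg Quiver.Hom.unop (CostructuredArrow.w f), ?_⟩
  exact hfg.trans (map_zero _)

end Groth.Agent.EtLimit.LanAb
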