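import Groth.Agent.EtLimit.Site
import Groth.Agent.EtLimit.LanAb
import Mathlib.CategoryTheory.Limits.Preserves.Filtered

/-!
# Restriction to a stage preserves injective sheaves
-/

set_option autoImplicit false
set_option linter.all false
set_option backward.isDefEq.respectTransparency.types false
set_option backward.isDefEq.respectTransparency false
set_option synthInstance.maxHeartbeats 400000

universe u

open CategoryTheory Limits AlgebraicGeometry Opposite

namespace Groth.Agent.EtLimit

instance preservesFilteredColimits_forget :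
    PreservesFilteredColimitsOfSize.{u, u + 1} (CategoryTheory.forget AddCommGrpCat.{u + 1}) :=
  preservesFilteredColimitsOfSize_shrink.{u + 1, u + 1, u, u + 1} _

/-- Products over the base in the small étale site. -/
theorem exists_prod {X : Scheme.{u}} (V₁ V₂ : X.Etale) :
    ∃ (P : X.Etale) (p₁ : P ⟶ V₁) (p₂ : P ⟶ V₂), ∀ {Z : Scheme.{u}} (m₁ : Z ⟶ V₁.left) (m₂ : Z ⟶ V₂.left),
      m₁ ≫ V₁.hom = m₂ ≫ V₂.hom → ∃ n : Z ⟶ P.left, n ≫ p₁.left = m₁ ∧ n ≫ p₂.left = m₂ := by
  haveI : Etale V₁.hom := V₁.prop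
  haveI : Etale V₂.hom := V₂.prop
  exact ⟨Scheme.Etale.mk (pullback.fst V₁.hom V₂.hom ≫ V₁.hom),
    MorphismProperty.Over.homMk (pullback.fst V₁.hom V₂.hom) rfl trivial,
    MorphismProperty.Over.homMk (pullback.snd V₁.hom V₂.hom) pullback.condition.symm trivial,
    fun m₁ m₂ h => ⟨pullback.lift m₁ m₂ h, pullback.lift_fst _ _ _, pullback.lift_snd _ _ _⟩⟩

/-- Equalizers in the small étale site. -/
theorem exists_equalizer {X : Scheme.{u}} {V V' : X.Etale} (f g : V ⟶ V') :
    ∃ (E : X.Etale) (e : E ⟶ V), e ≫ f = e ≫ g ∧ ∀ {Z : Scheme.{u}} (m : Z ⟶ V.left),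
      m ≫ f.left = m ≫ g.left → ∃ n : Z ⟶ E.left, n ≫ e.left = m := by
  haveI : Etale V.hom := V.prop
  haveI : Etale V'.hom := V'.prop
  have hf : f.left ≫ V'.hom = V.hom := CategoryTheory.Over.w f.hom
  have hg : g.left ≫ V'.hom = V.hom := CategoryTheory.Over.w g.hom
  let Δ := pullback.lift f.left g.left (hf.trans hg.symm)
  let e := pullback.fst Δ (pullback.diagonal V'.hom)
  haveI : Etale e := inferInstance
  have hc : e ≫ Δ = pullback.snd Δ (pullback.diagonal V'.hom) ≫ pullback.diagonal V'.hom := pullback.condition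
  have h1 : e ≫ f.left = pullback.snd Δ (pullback.diagonal V'.hom) := by
    have := congrArg (· ≫ pullback.fst V'.hom V'.hom) hc
    simpa [Δ] using this
  have h2 : e ≫ g.left = pullback.snd Δ (pullback.diagonal V'.hom) := by
    have := congrArg (· ≫ pullback.snd V'.hom V'.hom) hc
    simpa [Δ] using this
  refine ⟨Scheme.Etale.mk (e ≫ V.hom), MorphismProperty.Over.homMk e rfl trivial,
    (Scheme.Etale.forget X ⋙ CategoryTheory.Over.forget X).map_injective (h1.trans h2.symm), fun m hm => ?_⟩
  refine ⟨pullback.lift m (m ≫ f.left) ?_, pullback.lift_fst _ _ _⟩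
  apply pullback.hom_ext
  · simp [Δ]
  · simp [Δ, hm]

variable {ι : Type u} [Preorder ι] (Xs : ιᵒᵖ ⥤ Scheme.{u})

theorem isEmpty_incl {j : ι} (A : Obj Xs) (h : ¬ j ≤ A.idx) : IsEmpty (StructuredArrow A (incl Xs j)) :=
  ⟨fun a => h (show Hom A ((incl Xs j).obj a.right) from a.hom).le⟩

theorem isCofiltered_incl {j : ι} (A : Obj Xs) (h : j ≤ A.idx) :
    IsCofiltered (StructuredArrow A (incl Xs j)) := by
  haveI : Nonempty (StructuredArrow A (incl Xs j)) :=
    ⟨StructuredArrow.mk (Y := EtCoh.top (St Xs j))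
      (⟨h, A.V.hom ≫ tr Xs h, Category.comp_id _⟩ : A ⟶ (incl Xs j).obj (EtCoh.top (St Xs j)))⟩
  haveI : IsCofilteredOrEmpty (StructuredArrow A (incl Xs j)) :=
    { cone_objs := fun a b => by
        let ha : Hom A ((incl Xs j).obj a.right) := a.hom
        let hb : Hom A ((incl Xs j).obj b.right) := b.hom
        obtain ⟨P, p₁, p₂, hP⟩ := exists_prod a.right b.right
        obtain ⟨n, hn₁, hn₂⟩ := hP ha.hom hb.hom (ha.w.trans hb.w.symm)
        have w : n ≫ P.hom = A.V.hom ≫ tr Xs h :=
          (congrArg (n ≫ ·) (CategoryTheory.Over.w p₁.hom).symm).trans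
            ((Category.assoc _ _ _).symm.trans ((congrArg (· ≫ a.right.hom) hn₁).trans ha.w))
        exact ⟨StructuredArrow.mk (Y := P) (⟨h, n, w⟩ : A ⟶ (incl Xs j).obj P),
          StructuredArrow.homMk p₁ (hom_ext hn₁), StructuredArrow.homMk p₂ (hom_ext hn₂), trivial⟩
      cone_maps := fun a b f g => by
        let ha : Hom A ((incl Xs j).obj a.right) := a.hom
        obtain ⟨E, e, he, hE⟩ := exists_equalizer f.right g.right
        obtain ⟨n, hn⟩ := hE ha.hom
          ((congrArg Hom.hom (StructuredArrow.w f)).trans (congrArg Hom.hom (StructuredArrow.w g)).symm)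
        have w : n ≫ E.hom = A.V.hom ≫ tr Xs h :=
          (congrArg (n ≫ ·) (CategoryTheory.Over.w e.hom).symm).trans
            ((Category.assoc _ _ _).symm.trans ((congrArg (· ≫ a.right.hom) hn).trans ha.w))
        exact ⟨StructuredArrow.mk (Y := E) (⟨h, n, w⟩ : A ⟶ (incl Xs j).obj E),
          StructuredArrow.homMk e (hom_ext hn), StructuredArrow.ext _ _ he⟩ }
  exact { }

theorem mono_lan_map (j : ι) {F G : (St Xs j).Etaleᵒᵖ ⥤ AddCommGrpCat.{u + 1}} (m : F ⟶ G) [Mono m] :
    Mono ((incl Xs j).op.lan.map m) := by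
  haveI hm : ∀ V, Mono (m.app V) := (NatTrans.mono_iff_mono_app m).1 inferInstance
  refine (NatTrans.mono_iff_mono_app _).2 fun ⟨A⟩ => (AddCommGrpCat.mono_iff_injective _).2
    ((injective_iff_map_eq_zero _).2 fun a ha => ?_)
  let ηF : F ⟶ (incl Xs j).op ⋙ (incl Xs j).op.lan.obj F := (incl Xs j).op.lanUnit.app F
  let ηG : G ⟶ (incl Xs j).op ⋙ (incl Xs j).op.lan.obj G := (incl Xs j).op.lanUnit.app G
  have hF := Functor.isPointwiseLeftKanExtensionLeftKanExtensionUnit (incl Xs j).op F
  have hG := Functor.isPointwiseLeftKanExtensionLeftKanExtensionUnit (incl Xs j).op G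
  by_cases h : j ≤ A.idx
  · haveI := isCofiltered_incl Xs A h
    obtain ⟨V, g, x, rfl⟩ := LanAb.el_surjective (incl Xs j) ηF hF a
    have e : ((incl Xs j).op.lan.map m).app (op A) (LanAb.el (incl Xs j) ηF V g x) =
        LanAb.el (incl Xs j) ηG V g (m.app (op V) x) := by
      refine (NatTrans.naturality_apply _ g.op _).trans ?_
      exact congrArg _ (ConcreteCategory.congr_hom
        (congr_app ((incl Xs j).op.lanUnit.naturality m) (op V)) x).symm
    obtain ⟨V', r, g', rfl, hr⟩ := LanAb.el_eq_zero (incl Xs j) ηG hG g _ (e.symm.trans ha)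
    have hx : F.map r.op x = 0 :=
      (AddCommGrpCat.mono_iff_injective _).1 (hm (op V')) (((NatTrans.naturality_apply m r.op x).trans hr).trans
        (map_zero _).symm)
    rw [← LanAb.el_map', hx, LanAb.el_zero]
  · haveI := isEmpty_incl Xs A h
    exact LanAb.eq_zero_of_isEmpty (incl Xs j) ηF hF a

instance preservesMonomorphisms_pullIncl (j : ι) :
    ((incl Xs j).sheafPullback AddCommGrpCat.{u + 1} (St Xs j).smallEtaleTopology (topology Xs)).PreservesMonomorphisms := by
  haveI : ((incl Xs j).op.lan : ((St Xs j).Etaleᵒᵖ ⥤ AddCommGrpCat.{u + 1}) ⥤ _).PreservesMonomorphisms :=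
    ⟨fun m _ => mono_lan_map Xs j m⟩
  haveI : (presheafToSheaf (topology Xs) AddCommGrpCat.{u + 1}).PreservesMonomorphisms := inferInstance
  haveI : (sheafToPresheaf (St Xs j).smallEtaleTopology AddCommGrpCat.{u + 1}).PreservesMonomorphisms := inferInstance
  haveI : (Functor.sheafPullbackConstruction.sheafPullback (incl Xs j) AddCommGrpCat.{u + 1}
      (St Xs j).smallEtaleTopology (topology Xs)).PreservesMonomorphisms :=
    inferInstanceAs (sheafToPresheaf (St Xs j).smallEtaleTopology AddCommGrpCat.{u + 1} ⋙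
      (incl Xs j).op.lan ⋙ presheafToSheaf (topology Xs) AddCommGrpCat.{u + 1}).PreservesMonomorphisms
  exact Functor.PreservesMonomorphisms.of_iso
    (Functor.sheafPullbackConstruction.sheafPullbackIso (incl Xs j) AddCommGrpCat.{u + 1}
      (St Xs j).smallEtaleTopology (topology Xs)).symm

theorem injective_res (j : ι) (I : Ab Xs) [Injective I] : Injective ((res Xs j).obj I) :=
  Injective.injective_of_adjoint ((incl Xs j).sheafAdjunctionContinuous AddCommGrpCat.{u + 1}
    (St Xs j).smallEtaleTopology (topology Xs)) I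

end Groth.Agent.EtLimit
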