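import Groth.Agent.SiteCoh.ExtAcyclic
import Mathlib.Algebra.Homology.DerivedCategory.Ext.Map
import Mathlib.Algebra.Homology.DerivedCategory.Ext.ExactSequences

/-!
# Dimension shifting for comparison maps from a directed family of abelian categories
-/

set_option autoImplicit false
set_option linter.all false
set_option backward.isDefEq.respectTransparency.types false
set_option backward.isDefEq.respectTransparency false
set_option synthInstance.maxHeartbeats 400000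

universe w v v' v'' u u' u'' t

open CategoryTheory Limits CategoryTheory.Abelian

namespace Groth.Agent.EtLimit.Shift

variable {ι : Type t} [Preorder ι]
  {C : Type u} [Category.{v} C] [Abelian C] [EnoughInjectives C]
  {A : ι → Type u'} [∀ j, Category.{v'} (A j)] [∀ j, Abelian (A j)] [∀ j, HasExt.{w} (A j)]
  {B : Type u''} [Category.{v''} B] [Abelian B] [HasExt.{w} B]
  (R : ∀ j, C ⥤ A j) [∀ j, (R j).Additive] [∀ j, PreservesFiniteLimits (R j)] [∀ j, PreservesFiniteColimits (R j)]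
  (L : C ⥤ B) [L.Additive] [PreservesFiniteLimits L] [PreservesFiniteColimits L]
  (Z : ∀ j, A j) (ZB : B)

/-- Comparison data. -/
structure Data where
  /-- to the target -/
  T : ∀ (E : C) (j : ι) (n : ℕ), Ext.{w} (Z j) ((R j).obj E) n →+ Ext.{w} ZB (L.obj E) n
  /-- transitions -/
  b : ∀ (E : C) {j k : ι} (_ : j ≤ k) (n : ℕ), Ext.{w} (Z j) ((R j).obj E) n →+ Ext.{w} (Z k) ((R k).obj E) n
  inj : ∀ (j : ι) (I : C), Injective I → Injective ((R j).obj I)
  acyclic : ∀ (I : C), Injective I → ∀ n : ℕ, Subsingleton (Ext.{w} ZB (L.obj I) (n + 1))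
  T_nat : ∀ {E F : C} (g : E ⟶ F) (j : ι) (n : ℕ) (x : Ext.{w} (Z j) ((R j).obj E) n),
    T F j n (x.comp (Ext.mk₀ ((R j).map g)) (add_zero n)) = (T E j n x).comp (Ext.mk₀ (L.map g)) (add_zero n)
  b_nat : ∀ {E F : C} (g : E ⟶ F) {j k : ι} (h : j ≤ k) (n : ℕ) (x : Ext.{w} (Z j) ((R j).obj E) n),
    b F h n (x.comp (Ext.mk₀ ((R j).map g)) (add_zero n)) = (b E h n x).comp (Ext.mk₀ ((R k).map g)) (add_zero n)
  T_δ : ∀ {S : ShortComplex C} (hS : S.ShortExact) (j : ι) (n : ℕ) (y : Ext.{w} (Z j) ((R j).obj S.X₃) n),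
    T S.X₁ j (n + 1) (y.comp (hS.map_of_exact (R j)).extClass rfl) =
      (T S.X₃ j n y).comp (hS.map_of_exact L).extClass rfl
  b_δ : ∀ {S : ShortComplex C} (hS : S.ShortExact) {j k : ι} (h : j ≤ k) (n : ℕ)
    (y : Ext.{w} (Z j) ((R j).obj S.X₃) n),
    b S.X₁ h (n + 1) (y.comp (hS.map_of_exact (R j)).extClass rfl) =
      (b S.X₃ h n y).comp (hS.map_of_exact (R k)).extClass rfl
  T_b_zero : ∀ (E : C) {j k : ι} (h : j ≤ k) (x : Ext.{w} (Z j) ((R j).obj E) 0), T E k 0 (b E h 0 x) = T E j 0 x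
  b_b_zero : ∀ (E : C) {j k l : ι} (h : j ≤ k) (h' : k ≤ l) (x : Ext.{w} (Z j) ((R j).obj E) 0),
    b E h' 0 (b E h 0 x) = b E (h.trans h') 0 x
  surj_zero : ∀ (E : C) (ξ : Ext.{w} ZB (L.obj E) 0), ∃ (j : ι) (x : Ext.{w} (Z j) ((R j).obj E) 0), T E j 0 x = ξ
  inj_zero : ∀ (E : C) (j : ι) (x : Ext.{w} (Z j) ((R j).obj E) 0), T E j 0 x = 0 →
    ∃ (k : ι) (h : j ≤ k), b E h 0 x = 0

variable {R L Z ZB} (D : Data R L Z ZB)

include D in
theorem exists_delta {S : ShortComplex C} (hS : S.ShortExact) [Injective S.X₂] (j : ι) (n : ℕ)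
    (x : Ext.{w} (Z j) ((R j).obj S.X₁) (n + 1)) :
    ∃ y, x = Ext.comp y (hS.map_of_exact (R j)).extClass rfl := by
  haveI : Injective ((R j).obj S.X₂) := D.inj j S.X₂ inferInstance
  haveI : Injective (S.map (R j)).X₂ := D.inj j S.X₂ inferInstance
  obtain ⟨y, hy⟩ := Ext.covariant_sequence_exact₁ (Z j) (hS.map_of_exact (R j)) x
    (Ext.eq_zero_of_injective _) rfl
  exact ⟨y, hy.symm⟩

theorem T_b_succ {S : ShortComplex C} (hS : S.ShortExact) [Injective S.X₂] (n : ℕ) {j k : ι} (h : j ≤ k)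
    (ih : ∀ y : Ext.{w} (Z j) ((R j).obj S.X₃) n, D.T S.X₃ k n (D.b S.X₃ h n y) = D.T S.X₃ j n y)
    (x : Ext.{w} (Z j) ((R j).obj S.X₁) (n + 1)) :
    D.T S.X₁ k (n + 1) (D.b S.X₁ h (n + 1) x) = D.T S.X₁ j (n + 1) x := by
  obtain ⟨y, rfl⟩ := exists_delta D hS j n x
  exact ((congrArg (D.T S.X₁ k (n + 1)) (D.b_δ hS h n y)).trans (D.T_δ hS k n _)).trans
    ((congrArg (fun z => Ext.comp z (hS.map_of_exact L).extClass rfl) (ih y)).trans (D.T_δ hS j n y).symm)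

theorem b_b_succ {S : ShortComplex C} (hS : S.ShortExact) [Injective S.X₂] (n : ℕ) {j k l : ι} (h : j ≤ k) (h' : k ≤ l)
    (ih : ∀ y : Ext.{w} (Z j) ((R j).obj S.X₃) n, D.b S.X₃ h' n (D.b S.X₃ h n y) = D.b S.X₃ (h.trans h') n y)
    (x : Ext.{w} (Z j) ((R j).obj S.X₁) (n + 1)) :
    D.b S.X₁ h' (n + 1) (D.b S.X₁ h (n + 1) x) = D.b S.X₁ (h.trans h') (n + 1) x := by
  obtain ⟨y, rfl⟩ := exists_delta D hS j n x
  exact ((congrArg (D.b S.X₁ h' (n + 1)) (D.b_δ hS h n y)).trans (D.b_δ hS h' n _)).trans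
    ((congrArg (fun z => Ext.comp z (hS.map_of_exact (R l)).extClass rfl) (ih y)).trans
      (D.b_δ hS (h.trans h') n y).symm)

/-- An embedding into an injective object with opaque terms. -/
theorem exists_embed (E : C) : ∃ (I Q : C) (f : E ⟶ I) (g : I ⟶ Q) (w : f ≫ g = 0),
    (ShortComplex.mk f g w).ShortExact ∧ Injective I :=
  ⟨Injective.under E, cokernel (Injective.ι E), Injective.ι E, cokernel.π (Injective.ι E),
    cokernel.condition (Injective.ι E),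
    { exact := ShortComplex.exact_cokernel (Injective.ι E)
      mono_f := (inferInstance : Mono (Injective.ι E))
      epi_g := (inferInstance : Epi (cokernel.π (Injective.ι E))) },
    inferInstance⟩

theorem T_b (n : ℕ) : ∀ (E : C) {j k : ι} (h : j ≤ k) (x : Ext.{w} (Z j) ((R j).obj E) n),
    D.T E k n (D.b E h n x) = D.T E j n x := by
  induction n with
  | zero => exact fun E j k h x => D.T_b_zero E h x
  | succ n ih =>
    intro E j k h x
    obtain ⟨I, Q, f, g, w, hS, hI⟩ := exists_embed E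
    haveI : Injective (ShortComplex.mk f g w).X₂ := hI
    exact T_b_succ D (S := ShortComplex.mk f g w) hS n h (ih _ h) x

theorem b_b (n : ℕ) : ∀ (E : C) {j k l : ι} (h : j ≤ k) (h' : k ≤ l) (x : Ext.{w} (Z j) ((R j).obj E) n),
    D.b E h' n (D.b E h n x) = D.b E (h.trans h') n x := by
  induction n with
  | zero => exact fun E j k l h h' x => D.b_b_zero E h h' x
  | succ n ih =>
    intro E j k l h h' x
    obtain ⟨I, Q, f, g, w, hS, hI⟩ := exists_embed E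
    haveI : Injective (ShortComplex.mk f g w).X₂ := hI
    exact b_b_succ D (S := ShortComplex.mk f g w) hS n h h' (ih _ h h') x

theorem surj_succ {S : ShortComplex C} (hS : S.ShortExact) [Injective S.X₂] (n : ℕ)
    (ih : ∀ η : Ext.{w} ZB (L.obj S.X₃) n, ∃ (j : ι) (y : Ext.{w} (Z j) ((R j).obj S.X₃) n), D.T S.X₃ j n y = η)
    (ξ : Ext.{w} ZB (L.obj S.X₁) (n + 1)) :
    ∃ (j : ι) (x : Ext.{w} (Z j) ((R j).obj S.X₁) (n + 1)), D.T S.X₁ j (n + 1) x = ξ := by
  have hL := hS.map_of_exact L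
  obtain ⟨η, hη⟩ := Ext.covariant_sequence_exact₁ ZB hL ξ
    ((D.acyclic S.X₂ inferInstance n).elim _ _) rfl
  obtain ⟨j, y, hy⟩ := ih η
  exact ⟨j, Ext.comp y (hS.map_of_exact (R j)).extClass rfl,
    (D.T_δ hS j n y).trans ((congrArg (fun z => Ext.comp z hL.extClass rfl) hy).trans hη)⟩

theorem inj_succ [IsDirected ι (· ≤ ·)] {S : ShortComplex C} (hS : S.ShortExact) [Injective S.X₂] (n : ℕ)
    (ih₂ : ∀ η : Ext.{w} ZB (L.obj S.X₂) n, ∃ (j : ι) (y : Ext.{w} (Z j) ((R j).obj S.X₂) n), D.T S.X₂ j n y = η)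
    (ih₃ : ∀ (j : ι) (y : Ext.{w} (Z j) ((R j).obj S.X₃) n), D.T S.X₃ j n y = 0 →
      ∃ (k : ι) (h : j ≤ k), D.b S.X₃ h n y = 0)
    (j : ι) (x : Ext.{w} (Z j) ((R j).obj S.X₁) (n + 1)) (hx : D.T S.X₁ j (n + 1) x = 0) :
    ∃ (k : ι) (h : j ≤ k), D.b S.X₁ h (n + 1) x = 0 := by
  have hL := hS.map_of_exact L
  obtain ⟨y, rfl⟩ := exists_delta D hS j n x
  obtain ⟨w, hw⟩ := Ext.covariant_sequence_exact₃ _ hL (D.T S.X₃ j n y) rfl
    ((D.T_δ hS j n y).symm.trans hx)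
  obtain ⟨k', w', hw'⟩ := ih₂ w
  obtain ⟨l, hjl, hkl⟩ := exists_ge_ge j k'
  let v := D.b S.X₂ hkl n w'
  let d := D.b S.X₃ hjl n y - v.comp (Ext.mk₀ ((R l).map S.g)) (add_zero n)
  have hd : D.T S.X₃ l n d = 0 := by
    rw [map_sub, T_b D, D.T_nat, T_b D, sub_eq_zero, hw']
    exact hw.symm
  obtain ⟨m, hlm, hm⟩ := ih₃ l d hd
  refine ⟨m, hjl.trans hlm, ?_⟩
  refine (D.b_δ hS (hjl.trans hlm) n y).trans ?_
  rw [map_sub, b_b D, D.b_nat, sub_eq_zero] at hm
  refine (congrArg (fun z => Ext.comp z (hS.map_of_exact (R m)).extClass rfl) hm).trans ?_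
  refine (Ext.comp_assoc_of_second_deg_zero (D.b S.X₂ hlm n v) (Ext.mk₀ (S.map (R m)).g)
    (hS.map_of_exact (R m)).extClass rfl).trans ?_
  rw [(hS.map_of_exact (R m)).comp_extClass]
  exact Ext.comp_zero _ _ _ _ _

/-- Surjectivity and injectivity in the limit, in all degrees. -/
theorem main [IsDirected ι (· ≤ ·)] (n : ℕ) : ∀ E : C,
    (∀ ξ : Ext.{w} ZB (L.obj E) n, ∃ (j : ι) (x : Ext.{w} (Z j) ((R j).obj E) n), D.T E j n x = ξ) ∧
    (∀ (j : ι) (x : Ext.{w} (Z j) ((R j).obj E) n), D.T E j n x = 0 →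
      ∃ (k : ι) (h : j ≤ k), D.b E h n x = 0) := by
  induction n with
  | zero => exact fun E => ⟨D.surj_zero E, D.inj_zero E⟩
  | succ n ih =>
    intro E
    obtain ⟨I, Q, f, g, w, hS, hI⟩ := exists_embed E
    haveI : Injective (ShortComplex.mk f g w).X₂ := hI
    exact ⟨surj_succ D (S := ShortComplex.mk f g w) hS n (ih _).1,
      inj_succ D (S := ShortComplex.mk f g w) hS n (ih _).1 (ih _).2⟩

end Groth.Agent.EtLimit.Shift
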