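import Groth.Agent.EtLimit.Maps
import Groth.Agent.EtLimit.Shift

/-!
# The limit theorem for étale cohomology
-/

set_option autoImplicit false
set_option linter.all false
set_option backward.isDefEq.respectTransparency.types false
set_option backward.isDefEq.respectTransparency false
set_option backward.defeqAttrib.useBackward true
set_option synthInstance.maxHeartbeats 400000
set_option maxHeartbeats 1000000



universe u

open CategoryTheory Limits AlgebraicGeometry Opposite CategoryTheory.Abelian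

namespace Groth.Agent.EtLimit

section GenericData

universe w v v' v'' a a' a'' t

variable {ι : Type t} [Preorder ι]
  {C : Type a} [Category.{v} C] [Abelian C] [EnoughInjectives C]
  {A : ι → Type a'} [∀ j, Category.{v'} (A j)] [∀ j, Abelian (A j)] [∀ j, HasExt.{w} (A j)]
  {B : Type a''} [Category.{v''} B] [Abelian B] [HasExt.{w} B]
  (R : ∀ j, C ⥤ A j) [∀ j, (R j).Additive] [∀ j, PreservesFiniteLimits (R j)] [∀ j, PreservesFiniteColimits (R j)]
  (L : C ⥤ B) [L.Additive] [PreservesFiniteLimits L] [PreservesFiniteColimits L]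
  {Z : ∀ j, A j} {ZB : B}
  (P : ∀ j, A j ⥤ B) [∀ j, (P j).Additive] [∀ j, PreservesFiniteLimits (P j)] [∀ j, PreservesFiniteColimits (P j)]
  (Q : ∀ j k, j ≤ k → (A j ⥤ A k)) [∀ j k h, (Q j k h).Additive] [∀ j k h, PreservesFiniteLimits (Q j k h)]
  [∀ j k h, PreservesFiniteColimits (Q j k h)]
  (e : ∀ j, ZB ⟶ (P j).obj (Z j)) (e' : ∀ j k h, Z k ⟶ (Q j k h).obj (Z j))
  (α : ∀ (E : C) (j : ι), (P j).obj ((R j).obj E) ⟶ L.obj E)
  (β : ∀ (E : C) (j k : ι) (h : j ≤ k), (Q j k h).obj ((R j).obj E) ⟶ (R k).obj E)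

/-- Comparison data from natural maps. -/
noncomputable def dataOfMaps
    (hα : ∀ {E F : C} (g : E ⟶ F) (j : ι), (P j).map ((R j).map g) ≫ α F j = α E j ≫ L.map g)
    (hβ : ∀ {E F : C} (g : E ⟶ F) (j k : ι) (h : j ≤ k),
      (Q j k h).map ((R j).map g) ≫ β F j k h = β E j k h ≫ (R k).map g)
    (inj : ∀ (j : ι) (I : C), Injective I → Injective ((R j).obj I))
    (acy : ∀ (I : C), Injective I → ∀ n : ℕ, Subsingleton (Ext.{w} ZB (L.obj I) (n + 1)))
    (c₀ : ∀ (E : C) {j k : ι} (h : j ≤ k) (x : Ext.{w} (Z j) ((R j).obj E) 0),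
      extPull (P k) (e k) (α E k) 0 (extPull.{_, _, _, _, w, w} (Q j k h) (e' j k h) (β E j k h) 0 x) =
        extPull.{_, _, _, _, w, w} (P j) (e j) (α E j) 0 x)
    (d₀ : ∀ (E : C) {j k l : ι} (h : j ≤ k) (h' : k ≤ l) (x : Ext.{w} (Z j) ((R j).obj E) 0),
      extPull (Q k l h') (e' k l h') (β E k l h') 0 (extPull.{_, _, _, _, w, w} (Q j k h) (e' j k h) (β E j k h) 0 x) =
        extPull.{_, _, _, _, w, w} (Q j l (h.trans h')) (e' j l (h.trans h')) (β E j l (h.trans h')) 0 x)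
    (s₀ : ∀ (E : C) (ξ : Ext.{w} ZB (L.obj E) 0),
      ∃ (j : ι) (x : Ext.{w} (Z j) ((R j).obj E) 0), extPull (P j) (e j) (α E j) 0 x = ξ)
    (i₀ : ∀ (E : C) (j : ι) (x : Ext.{w} (Z j) ((R j).obj E) 0), extPull.{_, _, _, _, w, w} (P j) (e j) (α E j) 0 x = 0 →
      ∃ (k : ι) (h : j ≤ k), extPull.{_, _, _, _, w, w} (Q j k h) (e' j k h) (β E j k h) 0 x = 0) :
    Shift.Data.{w} R L Z ZB where
  T E j n := extPull (P j) (e j) (α E j) n
  b E {j k} h n := extPull (Q j k h) (e' j k h) (β E j k h) n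
  inj := inj
  acyclic := acy
  T_nat {E F} g j n x := extPull_comp _ _ _ _ _ _ (hα g j) n x
  b_nat {E F} g {j k} h n x := extPull_comp _ _ _ _ _ _ (hβ g j k h) n x
  T_δ {S} hS j n y := extPull_extClass (P j) _ (hS.map_of_exact (R j)) (hS.map_of_exact L)
    { τ₁ := α S.X₁ j
      τ₂ := α S.X₂ j
      τ₃ := α S.X₃ j
      comm₁₂ := (hα S.f j).symm
      comm₂₃ := (hα S.g j).symm } n y
  b_δ {S} hS {j k} h n y := extPull_extClass (Q j k h) _ (hS.map_of_exact (R j)) (hS.map_of_exact (R k))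
    { τ₁ := β S.X₁ j k h
      τ₂ := β S.X₂ j k h
      τ₃ := β S.X₃ j k h
      comm₁₂ := (hβ S.f j k h).symm
      comm₂₃ := (hβ S.g j k h).symm } n y
  T_b_zero := c₀
  b_b_zero := d₀
  surj_zero := s₀
  inj_zero := i₀

end GenericData

variable {ι : Type u} [Preorder ι] {Xs : ιᵒᵖ ⥤ Scheme.{u}} (c : Cone Xs)
  [∀ a, PreservesFiniteLimits (EtCoh.pull (c.π.app a))]
  [hpl : ∀ ⦃a b : ιᵒᵖ⦄ (h : a ⟶ b), PreservesFiniteLimits (EtCoh.pull (Xs.map h))]
  [IsDirected ι (· ≤ ·)] [Nonempty ι]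

theorem toH_bH_zero (E : Ab Xs) {j k : ι} (h : j ≤ k) (x : Ext.{u + 1} (EtCoh.const (St Xs j) ℤ) ((res Xs j).obj E) 0) :
    toH c E k 0 (bH Xs E h 0 x) = toH c E j 0 x := by
  obtain ⟨g, rfl⟩ := exists_eq_mk₀ x
  obtain ⟨g₁, e₁, s₁⟩ := bH_zero E h g
  obtain ⟨g₂, e₂, s₂⟩ := toH_zero c E k g₁
  obtain ⟨g₃, e₃, s₃⟩ := toH_zero c E j g
  rw [e₁, e₂, e₃]
  refine congrArg Ext.mk₀ (secOf_injective ?_)
  rw [s₂, s₁, s₃, theta_nat, ← Functor.map_comp_apply, ← op_comp]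
  exact congrArg (fun m => ((toLim c).obj E).obj.map (Quiver.Hom.op m) (theta c E _ (secOf g)))
    ((EtCore.bcTopIsTerminal (proj c j)).hom_ext _ _)

omit [∀ a, PreservesFiniteLimits (EtCoh.pull (c.π.app a))] in
theorem bH_bH_zero (E : Ab Xs) {j k l : ι} (h : j ≤ k) (h' : k ≤ l) (x : Ext.{u + 1} (EtCoh.const (St Xs j) ℤ) ((res Xs j).obj E) 0) :
    bH Xs E h' 0 (bH Xs E h 0 x) = bH Xs E (h.trans h') 0 x := by
  obtain ⟨g, rfl⟩ := exists_eq_mk₀ x
  obtain ⟨g₁, e₁, s₁⟩ := bH_zero E h g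
  obtain ⟨g₂, e₂, s₂⟩ := bH_zero E h' g₁
  obtain ⟨g₃, e₃, s₃⟩ := bH_zero E (h.trans h') g
  rw [e₁, e₂, e₃]
  refine congrArg Ext.mk₀ (secOf_injective ?_)
  rw [s₂, s₁, s₃, ← Functor.map_comp_apply, ← op_comp]
  exact congrArg (fun m => E.obj.map (Quiver.Hom.op m) (secOf g)) top_ext

variable (hc : IsLimit c) [haff : ∀ ⦃a b : ιᵒᵖ⦄ (h : a ⟶ b), IsAffineHom (Xs.map h)]
  [∀ a, CompactSpace ↥(Xs.obj a)] [∀ a, QuasiSeparatedSpace ↥(Xs.obj a)]

theorem isQcqs_top_stage (j : ι) : EtCechLib.IsQcqs (EtCoh.top (St Xs j)) :=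
  ⟨inferInstanceAs (CompactSpace ↥(Xs.obj (op j))), inferInstanceAs (QuasiSeparatedSpace ↥(Xs.obj (op j)))⟩

include hc in
theorem surjective_zero (E : Ab Xs) (ξ : Ext.{u + 1} (EtCoh.const c.pt ℤ) ((toLim c).obj E) 0) :
    ∃ (j : ι) (x : Ext.{u + 1} (EtCoh.const (St Xs j) ℤ) ((res Xs j).obj E) 0), toH c E j 0 x = ξ := by
  obtain ⟨g', rfl⟩ := exists_eq_mk₀ ξ
  obtain ⟨j₀⟩ := ‹Nonempty ι›
  obtain ⟨k, h, x, hx⟩ := exists_base_stage c hc E (EtCoh.top (St Xs j₀)) (isQcqs_top_stage j₀)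
    (((toLim c).obj E).obj.map (EtCore.bcTopIso (proj c j₀)).hom.op (secOf g'))
  let m : (⟨k, EtCoh.top (St Xs k)⟩ : Obj Xs) ⟶ push' h (EtCoh.top (St Xs j₀)) :=
    (incl Xs k).map (EtCore.bcTopIso (tr Xs h)).inv
  obtain ⟨g, hg⟩ := exists_secOf (F := (res Xs k).obj E) (E.obj.map m.op x)
  obtain ⟨g'', e, s⟩ := toH_zero c E k g
  refine ⟨k, Ext.mk₀ g, e.trans (congrArg Ext.mk₀ (secOf_injective ?_))⟩
  have hsec : secOf g' = ((toLim c).obj E).obj.map (topTo c j₀).op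
      ((toBase c E h).app (op (EtCoh.top (St Xs j₀))) x) := by
    refine Eq.trans ?_ (congrArg (((toLim c).obj E).obj.map (topTo c j₀).op) hx).symm
    refine Eq.trans ?_ (ConcreteCategory.congr_hom (((toLim c).obj E).obj.map_comp
      (EtCore.bcTopIso (proj c j₀)).hom.op (EtCore.bcTopIso (proj c j₀)).inv.op) (secOf g'))
    show _ = ((toLim c).obj E).obj.map ((EtCore.bcTopIso (proj c j₀)).inv ≫ (EtCore.bcTopIso (proj c j₀)).hom).op _
    rw [Iso.inv_hom_id, op_id]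
    exact (ConcreteCategory.congr_hom (((toLim c).obj E).obj.map_id _) _).symm
  rw [s, hg, theta_nat, hsec]
  show _ = ((toLim c).obj E).obj.map _ (((toLim c).obj E).obj.map _ _)
  rw [← Functor.map_comp_apply, ← Functor.map_comp_apply, ← op_comp, ← op_comp]
  exact congrArg (fun m => ((toLim c).obj E).obj.map (Quiver.Hom.op m) (theta c E _ x))
    ((IsTerminal.isTerminalObj (EtCoh.bc (proj c k)) _ (EtCore.bcTopIsTerminal (tr Xs h))).hom_ext _ _)

include hc in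
theorem injective_zero (E : Ab Xs) (j : ι) (x : Ext.{u + 1} (EtCoh.const (St Xs j) ℤ) ((res Xs j).obj E) 0) (hx : toH c E j 0 x = 0) :
    ∃ (k : ι) (h : j ≤ k), bH Xs E h 0 x = 0 := by
  obtain ⟨g, rfl⟩ := exists_eq_mk₀ x
  obtain ⟨g', e, s⟩ := toH_zero c E j g
  rw [e] at hx
  obtain rfl : g' = 0 := (Ext.mk₀_bijective _ _).1 (hx.trans (Ext.mk₀_zero _ _).symm)
  rw [secOf_zero] at s
  have h0 : theta c E ⟨j, EtCoh.top (St Xs j)⟩ (secOf g) = 0 := by
    have := congrArg (((toLim c).obj E).obj.map (EtCore.bcTopIso (proj c j)).hom.op) s.symm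
    rw [map_zero, ← Functor.map_comp_apply, ← op_comp] at this
    refine Eq.trans ?_ this
    show _ = ((toLim c).obj E).obj.map ((EtCore.bcTopIso (proj c j)).hom ≫ (EtCore.bcTopIso (proj c j)).inv).op _
    rw [Iso.hom_inv_id, op_id]
    exact (ConcreteCategory.congr_hom (((toLim c).obj E).obj.map_id _) _).symm
  haveI := (isQcqs_top_stage (Xs := Xs) j).1
  obtain ⟨k, h, hk⟩ := exists_map_down_eq_zero hc E (EtCoh.top (St Xs j)) (secOf g) h0
  obtain ⟨g₁, e₁, s₁⟩ := bH_zero E h g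
  refine ⟨k, h, e₁.trans ?_⟩
  have : g₁ = 0 := secOf_injective (by
    refine s₁.trans (Eq.trans ?_ secOf_zero.symm)
    refine (ConcreteCategory.congr_hom (E.obj.map_comp (down h (EtCoh.top (St Xs j))).op
      ((incl Xs k).map (EtCore.bcTopIso (tr Xs h)).inv).op) (secOf g)).trans ?_
    exact (congrArg (E.obj.map ((incl Xs k).map (EtCore.bcTopIso (tr Xs h)).inv).op) hk).trans (map_zero _))
  rw [this, Ext.mk₀_zero]

include hc in
theorem acyclic_HE (I : Ab Xs) (hI : Injective I) (n : ℕ) :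
    Subsingleton (Ext.{u + 1} (EtCoh.const c.pt ℤ) ((toLim c).obj I) (n + 1)) := by
  haveI : ∀ U : c.pt.Etale, HasFiniteProducts (Over U) := fun U => inferInstance
  haveI : ∀ (j : ι) (V : (St Xs j).Etale), HasFiniteProducts (Over V) := fun j V => inferInstance
  exact subsingleton_H_toLim c hc I n

/-- The comparison data of the total site. -/
noncomputable def data (hc : IsLimit c) :
    Shift.Data (res Xs) (toLim c) (fun j => EtCoh.const (St Xs j) ℤ) (EtCoh.const c.pt ℤ) :=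
  haveI : ∀ (j k : ι) (h : j ≤ k), PreservesFiniteLimits (EtCoh.pull (tr Xs h)) := fun j k h => hpl _
  dataOfMaps (res Xs) (toLim c) (fun j => EtCoh.pull (proj c j)) (fun j k h => EtCoh.pull (tr Xs h))
    (fun j => (EtCore.pullConst (proj c j) ℤ).inv) (fun j k h => (EtCore.pullConst (tr Xs h) ℤ).inv)
    (fun E j => toLimHom c E j) (fun E j k h => transHom Xs E h)
    (fun g j => toLimHom_nat c g j) (fun g j k h => transHom_nat g h)
    (fun j I hI => injective_res Xs j I) (acyclic_HE c hc) (fun E {j k} h x => toH_bH_zero c E h x)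
    (fun E {j k l} h h' x => bH_bH_zero E h h' x) (surjective_zero c hc) (injective_zero c hc)

include hc in
/-- The limit theorem on the total site. -/
theorem limit_theorem (n : ℕ) (E : Ab Xs) :
    (∀ ξ : Ext.{u + 1} (EtCoh.const c.pt ℤ) ((toLim c).obj E) n,
      ∃ (j : ι) (x : Ext.{u + 1} (EtCoh.const (St Xs j) ℤ) ((res Xs j).obj E) n), toH c E j n x = ξ) ∧
    (∀ (j : ι) (x : Ext.{u + 1} (EtCoh.const (St Xs j) ℤ) ((res Xs j).obj E) n), toH c E j n x = 0 →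
      ∃ (k : ι) (h : j ≤ k), bH Xs E h n x = 0) :=
  Shift.main (data c hc) n E

end Groth.Agent.EtLimit
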