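import Groth.Agent.EtLimit.Acyclic
import Groth.Agent.EtLimit.HMaps

/-!
# The comparison maps of the limit theorem
-/

set_option autoImplicit false
set_option linter.all false
set_option backward.isDefEq.respectTransparency.types false
set_option backward.isDefEq.respectTransparency false
set_option backward.defeqAttrib.useBackward true
set_option synthInstance.maxHeartbeats 400000
set_option maxHeartbeats 1000000

universe u

open CategoryTheory Limits AlgebraicGeometry Opposite CategoryTheory.Abelian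

namespace Groth.Agent.EtLimit

variable {ι : Type u} [Preorder ι] {Xs : ιᵒᵖ ⥤ Scheme.{u}} (c : Cone Xs)

/-- Sections of a stage as sections of the direct image of the sheaf on the limit. -/
noncomputable def toPushLim (E : Ab Xs) (j : ι) :
    (res Xs j).obj E ⟶ (EtCoh.push (proj c j)).obj ((toLim c).obj E) :=
  ObjectProperty.homMk
    { app := fun V => theta c E ⟨j, V.unop⟩
      naturality := fun V W f => ConcreteCategory.hom_ext _ _ fun x => by
        refine (theta_nat c E ((incl Xs j).map f.unop) x).trans ?_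
        exact congrArg (fun m => ((toLim c).obj E).obj.map (Quiver.Hom.op m) (theta c E ⟨j, V.unop⟩ x))
          (phi_map_incl c j f.unop) }

/-- The map from the pullback of a stage to the sheaf on the limit. -/
noncomputable def toLimHom (E : Ab Xs) (j : ι) :
    (EtCoh.pull (proj c j)).obj ((res Xs j).obj E) ⟶ (toLim c).obj E :=
  ((EtCoh.pullPushAdj (proj c j)).homEquiv _ _).symm (toPushLim c E j)

theorem toLimHom_nat {E F : Ab Xs} (g : E ⟶ F) (j : ι) :
    (EtCoh.pull (proj c j)).map ((res Xs j).map g) ≫ toLimHom c F j = toLimHom c E j ≫ (toLim c).map g := by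
  rw [toLimHom, toLimHom, ← Adjunction.homEquiv_naturality_left_symm, ← Adjunction.homEquiv_naturality_right_symm]
  refine congrArg ((EtCoh.pullPushAdj (proj c j)).homEquiv _ _).symm ?_
  refine ObjectProperty.hom_ext _ (NatTrans.ext (funext fun V => ConcreteCategory.hom_ext _ _ fun x => ?_))
  exact theta_map c g ⟨j, V.unop⟩ x

variable (Xs) in
/-- Transition from a stage to a later one. -/
noncomputable def toPushStage (E : Ab Xs) {j k : ι} (h : j ≤ k) :
    (res Xs j).obj E ⟶ (EtCoh.push (tr Xs h)).obj ((res Xs k).obj E) :=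
  ObjectProperty.homMk
    { app := fun V => E.obj.map (down h V.unop).op
      naturality := fun V W f => by
        show E.obj.map _ ≫ E.obj.map _ = E.obj.map _ ≫ E.obj.map _
        rw [← E.obj.map_comp, ← E.obj.map_comp]
        exact congrArg E.obj.map (congrArg Quiver.Hom.op (stageFun_down h f.unop).symm) }

variable (Xs) in
/-- The transition map on pullbacks. -/
noncomputable def transHom (E : Ab Xs) {j k : ι} (h : j ≤ k) :
    (EtCoh.pull (tr Xs h)).obj ((res Xs j).obj E) ⟶ (res Xs k).obj E :=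
  ((EtCoh.pullPushAdj (tr Xs h)).homEquiv _ _).symm (toPushStage Xs E h)

theorem transHom_nat {E F : Ab Xs} (g : E ⟶ F) {j k : ι} (h : j ≤ k) :
    (EtCoh.pull (tr Xs h)).map ((res Xs j).map g) ≫ transHom Xs F h = transHom Xs E h ≫ (res Xs k).map g := by
  rw [transHom, transHom, ← Adjunction.homEquiv_naturality_left_symm, ← Adjunction.homEquiv_naturality_right_symm]
  refine congrArg ((EtCoh.pullPushAdj (tr Xs h)).homEquiv _ _).symm ?_
  refine ObjectProperty.hom_ext _ (NatTrans.ext (funext fun V => ConcreteCategory.hom_ext _ _ fun x => ?_))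
  exact (NatTrans.naturality_apply g.hom (down h V.unop).op x).symm

theorem top_ext {W : Obj Xs} {j : ι} {f g : W ⟶ ⟨j, EtCoh.top (St Xs j)⟩} : f = g :=
  hom_ext (((Category.comp_id _).symm.trans (show Hom W ⟨j, EtCoh.top (St Xs j)⟩ from f).w).trans
    ((show Hom W ⟨j, EtCoh.top (St Xs j)⟩ from g).w.symm.trans (Category.comp_id _)))

variable [∀ a, PreservesFiniteLimits (EtCoh.pull (c.π.app a))]
  [hpl : ∀ ⦃a b : ιᵒᵖ⦄ (h : a ⟶ b), PreservesFiniteLimits (EtCoh.pull (Xs.map h))]

/-- The map to the cohomology of the limit. -/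
noncomputable def toH (E : Ab Xs) (j : ι) (n : ℕ) : Ext.{u + 1} (EtCoh.const (St Xs j) ℤ) ((res Xs j).obj E) n →+ Ext.{u + 1} (EtCoh.const c.pt ℤ) ((toLim c).obj E) n :=
  extPull (EtCoh.pull (proj c j)) (EtCore.pullConst (proj c j) ℤ).inv (toLimHom c E j) n

variable (Xs) in
/-- The transition maps of cohomology. -/
noncomputable def bH (E : Ab Xs) {j k : ι} (h : j ≤ k) (n : ℕ) :
    Ext.{u + 1} (EtCoh.const (St Xs j) ℤ) ((res Xs j).obj E) n →+ Ext.{u + 1} (EtCoh.const (St Xs k) ℤ) ((res Xs k).obj E) n :=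
  haveI : PreservesFiniteLimits (EtCoh.pull (tr Xs h)) := hpl _
  extPull (EtCoh.pull (tr Xs h)) (EtCore.pullConst (tr Xs h) ℤ).inv (transHom Xs E h) n

/-- Global sections of a stage, moved to the limit. -/
noncomputable def topTo (j : ι) : EtCoh.top c.pt ⟶ (phi c).obj ⟨j, EtCoh.top (St Xs j)⟩ :=
  (EtCore.bcTopIso (proj c j)).inv

variable (Xs) in
/-- Global sections of a stage, moved to a later stage. -/
noncomputable def topStage {j k : ι} (h : j ≤ k) :
    (⟨k, EtCoh.top (St Xs k)⟩ : Obj Xs) ⟶ ⟨j, EtCoh.top (St Xs j)⟩ :=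
  (incl Xs k).map (EtCore.bcTopIso (tr Xs h)).inv ≫ down h (EtCoh.top (St Xs j))

theorem toH_zero (E : Ab Xs) (j : ι) (g : EtCoh.const (St Xs j) ℤ ⟶ (res Xs j).obj E) :
    ∃ g', toH c E j 0 (Ext.mk₀ g) = Ext.mk₀ g' ∧
      secOf g' = ((toLim c).obj E).obj.map (topTo c j).op (theta c E ⟨j, EtCoh.top (St Xs j)⟩ (secOf g)) := by
  refine ⟨_, extPull_mk₀ _ _ _ g, ?_⟩
  refine (secOf_pull (proj c j) _ (toLimHom c E j) g).trans ?_
  rw [toLimHom, Equiv.apply_symm_apply]
  rfl

theorem bH_zero (E : Ab Xs) {j k : ι} (h : j ≤ k) (g : EtCoh.const (St Xs j) ℤ ⟶ (res Xs j).obj E) :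
    ∃ g', bH Xs E h 0 (Ext.mk₀ g) = Ext.mk₀ g' ∧ secOf g' = E.obj.map (topStage Xs h).op (secOf g) := by
  haveI : PreservesFiniteLimits (EtCoh.pull (tr Xs h)) := hpl _
  refine ⟨_, extPull_mk₀ _ _ _ g, ?_⟩
  refine (secOf_pull (tr Xs h) _ (transHom Xs E h) g).trans ?_
  rw [transHom, Equiv.apply_symm_apply]
  exact (ConcreteCategory.congr_hom (E.obj.map_comp (down h (EtCoh.top (St Xs j))).op
    ((incl Xs k).map (EtCore.bcTopIso (tr Xs h)).inv).op) (secOf g)).symm

end Groth.Agent.EtLimit
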