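import Groth.Agent.EtLimit.Inj

/-!
# Base change from the total site to the limit
-/

set_option autoImplicit false
set_option linter.all false
set_option backward.isDefEq.respectTransparency.types false
set_option backward.isDefEq.respectTransparency false
set_option synthInstance.maxHeartbeats 400000
set_option maxHeartbeats 1000000

universe u

open CategoryTheory Limits AlgebraicGeometry Opposite

namespace Groth.Agent.EtLimit

variable {ι : Type u} [Preorder ι] {Xs : ιᵒᵖ ⥤ Scheme.{u}} (c : Cone Xs)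

/-- The projection from the vertex. -/
abbrev proj (j : ι) : c.pt ⟶ St Xs j := c.π.app (op j)

theorem proj_tr {j k : ι} (h : j ≤ k) : proj c k ≫ tr Xs h = proj c j := c.w (homOfLE h).op

/-- The underlying scheme morphism of the base change of a morphism. -/
noncomputable def phiHom {A B : Obj Xs} (f : A ⟶ B) :
    pullback A.V.hom (proj c A.idx) ⟶ pullback B.V.hom (proj c B.idx) :=
  pullback.lift (pullback.fst A.V.hom (proj c A.idx) ≫ (show Hom A B from f).hom)
    (pullback.snd A.V.hom (proj c A.idx))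
    ((Category.assoc _ _ _).trans ((congrArg (pullback.fst A.V.hom (proj c A.idx) ≫ ·) (show Hom A B from f).w).trans
      ((Category.assoc _ _ _).symm.trans ((congrArg (· ≫ tr Xs _) pullback.condition).trans
        ((Category.assoc _ _ _).trans (congrArg (pullback.snd A.V.hom (proj c A.idx) ≫ ·)
          (proj_tr c (show Hom A B from f).le)))))))

@[reassoc]
theorem phiHom_fst {A B : Obj Xs} (f : A ⟶ B) :
    phiHom c f ≫ pullback.fst B.V.hom (proj c B.idx) =
      pullback.fst A.V.hom (proj c A.idx) ≫ (show Hom A B from f).hom :=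
  pullback.lift_fst _ _ _

@[reassoc]
theorem phiHom_snd {A B : Obj Xs} (f : A ⟶ B) :
    phiHom c f ≫ pullback.snd B.V.hom (proj c B.idx) = pullback.snd A.V.hom (proj c A.idx) :=
  pullback.lift_snd _ _ _

/-- Base change to the limit. -/
noncomputable def phi : Obj Xs ⥤ c.pt.Etale where
  obj A := (EtCoh.bc (proj c A.idx)).obj A.V
  map f := MorphismProperty.Over.homMk (phiHom c f) (phiHom_snd c f) trivial
  map_id A := (Scheme.Etale.forget c.pt ⋙ CategoryTheory.Over.forget c.pt).map_injective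
    (pullback.hom_ext ((phiHom_fst c (𝟙 A)).trans ((Category.comp_id _).trans (Category.id_comp _).symm))
      ((phiHom_snd c (𝟙 A)).trans (Category.id_comp _).symm))
  map_comp {A B C} f g := (Scheme.Etale.forget c.pt ⋙ CategoryTheory.Over.forget c.pt).map_injective (by
    refine pullback.hom_ext ?_ ?_
    · show phiHom c (f ≫ g) ≫ _ = (phiHom c f ≫ phiHom c g) ≫ _
      rw [phiHom_fst, Category.assoc, phiHom_fst, phiHom_fst_assoc]
      rfl
    · show phiHom c (f ≫ g) ≫ _ = (phiHom c f ≫ phiHom c g) ≫ _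
      rw [phiHom_snd, Category.assoc, phiHom_snd, phiHom_snd])

theorem phi_map_incl (j : ι) {V V' : (St Xs j).Etale} (g : V ⟶ V') :
    (phi c).map ((incl Xs j).map g) = (EtCoh.bc (proj c j)).map g :=
  (Scheme.Etale.forget c.pt ⋙ CategoryTheory.Over.forget c.pt).map_injective (by
    refine pullback.hom_ext ((phiHom_fst c _).trans ?_) ((phiHom_snd c _).trans ?_)
    · exact (pullback.lift_fst _ _ _).symm
    · exact (pullback.lift_snd _ _ _).symm)

/-- A morphism into the base change of an object. -/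
noncomputable def liftTo {W : c.pt.Etale} (B : Obj Xs) (m : W.left ⟶ B.V.left)
    (w : m ≫ B.V.hom = W.hom ≫ proj c B.idx) : W ⟶ (phi c).obj B :=
  MorphismProperty.Over.homMk (pullback.lift m W.hom w) (pullback.lift_snd _ _ _) trivial

theorem hom_phi_ext {W : c.pt.Etale} {B : Obj Xs} {f g : W ⟶ (phi c).obj B}
    (h : f.left ≫ pullback.fst B.V.hom (proj c B.idx) = g.left ≫ pullback.fst B.V.hom (proj c B.idx)) : f = g :=
  (Scheme.Etale.forget c.pt ⋙ CategoryTheory.Over.forget c.pt).map_injective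
    (pullback.hom_ext h ((CategoryTheory.Over.w f.hom).trans (CategoryTheory.Over.w g.hom).symm))

theorem w_phi {W : c.pt.Etale} {B : Obj Xs} (f : W ⟶ (phi c).obj B) :
    (f.left ≫ pullback.fst B.V.hom (proj c B.idx)) ≫ B.V.hom = W.hom ≫ proj c B.idx :=
  (Category.assoc _ _ _).trans ((congrArg (f.left ≫ ·) pullback.condition).trans
    ((Category.assoc _ _ _).symm.trans (congrArg (· ≫ proj c B.idx) (CategoryTheory.Over.w f.hom))))

/-- The pushforward of an object of a stage to a later stage. -/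
noncomputable abbrev push' {j k : ι} (h : j ≤ k) (V : (St Xs j).Etale) : Obj Xs :=
  ⟨k, (EtCoh.bc (tr Xs h)).obj V⟩

/-- The projection from a later stage. -/
noncomputable def down {j k : ι} (h : j ≤ k) (V : (St Xs j).Etale) : push' h V ⟶ ⟨j, V⟩ :=
  ⟨h, pullback.fst V.hom (tr Xs h), pullback.condition⟩

variable [IsDirected ι (· ≤ ·)] [Nonempty ι]

omit [Nonempty ι] in
theorem exists_common {W : c.pt.Etale} (A B : Obj Xs) (a : W ⟶ (phi c).obj A) (b : W ⟶ (phi c).obj B) :
    ∃ (C : Obj Xs) (h : W ⟶ (phi c).obj C) (p : C ⟶ A) (q : C ⟶ B),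
      h ≫ (phi c).map p = a ∧ h ≫ (phi c).map q = b := by
  obtain ⟨k, hak, hbk⟩ := exists_ge_ge A.idx B.idx
  obtain ⟨P, p₁, p₂, hP⟩ := exists_prod ((EtCoh.bc (tr Xs hak)).obj A.V) ((EtCoh.bc (tr Xs hbk)).obj B.V)
  let ma : W.left ⟶ pullback A.V.hom (tr Xs hak) :=
    pullback.lift (a.left ≫ pullback.fst A.V.hom (proj c A.idx)) (W.hom ≫ proj c k)
      ((w_phi c a).trans ((congrArg (W.hom ≫ ·) (proj_tr c hak).symm).trans (Category.assoc _ _ _).symm))
  let mb : W.left ⟶ pullback B.V.hom (tr Xs hbk) :=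
    pullback.lift (b.left ≫ pullback.fst B.V.hom (proj c B.idx)) (W.hom ≫ proj c k)
      ((w_phi c b).trans ((congrArg (W.hom ≫ ·) (proj_tr c hbk).symm).trans (Category.assoc _ _ _).symm))
  obtain ⟨n, hn₁, hn₂⟩ := hP ma mb ((pullback.lift_snd _ _ _).trans (pullback.lift_snd _ _ _).symm)
  have w : n ≫ P.hom = W.hom ≫ proj c k :=
    (congrArg (n ≫ ·) (CategoryTheory.Over.w p₁.hom).symm).trans
      ((Category.assoc _ _ _).symm.trans ((congrArg (· ≫ _) hn₁).trans (pullback.lift_snd _ _ _)))
  let q₁ : (⟨k, P⟩ : Obj Xs) ⟶ A := (incl Xs k).map p₁ ≫ down hak A.V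
  let q₂ : (⟨k, P⟩ : Obj Xs) ⟶ B := (incl Xs k).map p₂ ≫ down hbk B.V
  refine ⟨⟨k, P⟩, liftTo c _ n w, q₁, q₂, hom_phi_ext c ?_, hom_phi_ext c ?_⟩
  · refine (Category.assoc _ _ _).trans ((congrArg (pullback.lift n W.hom w ≫ ·) (phiHom_fst c q₁)).trans ?_)
    refine (Category.assoc _ _ _).symm.trans ((congrArg (· ≫ _) (pullback.lift_fst _ _ _)).trans ?_)
    refine (Category.assoc _ _ _).symm.trans ((congrArg (· ≫ _) hn₁).trans ?_)
    exact pullback.lift_fst _ _ _
  · refine (Category.assoc _ _ _).trans ((congrArg (pullback.lift n W.hom w ≫ ·) (phiHom_fst c q₂)).trans ?_)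
    refine (Category.assoc _ _ _).symm.trans ((congrArg (· ≫ _) (pullback.lift_fst _ _ _)).trans ?_)
    refine (Category.assoc _ _ _).symm.trans ((congrArg (· ≫ _) hn₂).trans ?_)
    exact pullback.lift_fst _ _ _

omit [IsDirected ι (· ≤ ·)] [Nonempty ι] in
theorem exists_equalizing {W : c.pt.Etale} {A B : Obj Xs} (a : W ⟶ (phi c).obj A) (f g : A ⟶ B)
    (hfg : a ≫ (phi c).map f = a ≫ (phi c).map g) :
    ∃ (C : Obj Xs) (h : W ⟶ (phi c).obj C) (e : C ⟶ A), h ≫ (phi c).map e = a ∧ e ≫ f = e ≫ g := by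
  let ff : Hom A B := f
  let gg : Hom A B := g
  let f' : A.V ⟶ (EtCoh.bc (tr Xs ff.le)).obj B.V :=
    MorphismProperty.Over.homMk (pullback.lift ff.hom A.V.hom ff.w) (pullback.lift_snd _ _ _) trivial
  let g' : A.V ⟶ (EtCoh.bc (tr Xs ff.le)).obj B.V :=
    MorphismProperty.Over.homMk (pullback.lift gg.hom A.V.hom gg.w) (pullback.lift_snd _ _ _) trivial
  obtain ⟨E, e, he, hE⟩ := exists_equalizer f' g'
  let m := a.left ≫ pullback.fst A.V.hom (proj c A.idx)
  have hm : m ≫ ff.hom = m ≫ gg.hom := by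
    refine (Category.assoc _ _ _).trans (Eq.trans ?_ (Category.assoc _ _ _).symm)
    refine (congrArg (a.left ≫ ·) (phiHom_fst c f).symm).trans (Eq.trans ?_ (congrArg (a.left ≫ ·) (phiHom_fst c g)))
    refine (Category.assoc _ _ _).symm.trans (Eq.trans ?_ (Category.assoc _ _ _))
    exact congrArg (fun t : W ⟶ (phi c).obj B => t.left ≫ pullback.fst B.V.hom (proj c B.idx)) hfg
  obtain ⟨n, hn⟩ := hE m (pullback.hom_ext
    ((Category.assoc _ _ _).trans ((congrArg (m ≫ ·) (pullback.lift_fst _ _ _)).trans (hm.trans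
      ((congrArg (m ≫ ·) (pullback.lift_fst _ _ _).symm).trans (Category.assoc _ _ _).symm))))
    ((Category.assoc _ _ _).trans ((congrArg (m ≫ ·) ((pullback.lift_snd _ _ _).trans
      (pullback.lift_snd _ _ _).symm)).trans (Category.assoc _ _ _).symm)))
  have w : n ≫ E.hom = W.hom ≫ proj c A.idx :=
    (congrArg (n ≫ ·) (CategoryTheory.Over.w e.hom).symm).trans
      ((Category.assoc _ _ _).symm.trans ((congrArg (· ≫ A.V.hom) hn).trans (w_phi c a)))
  let e' : (⟨A.idx, E⟩ : Obj Xs) ⟶ A := (incl Xs A.idx).map e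
  refine ⟨⟨A.idx, E⟩, liftTo c _ n w, e', hom_phi_ext c ?_, hom_ext ?_⟩
  · refine (Category.assoc _ _ _).trans ((congrArg (pullback.lift n W.hom w ≫ ·) (phiHom_fst c e')).trans ?_)
    exact (Category.assoc _ _ _).symm.trans ((congrArg (· ≫ _) (pullback.lift_fst _ _ _)).trans hn)
  · have h₁ := congrArg (fun t : E ⟶ (EtCoh.bc (tr Xs ff.le)).obj B.V => t.left ≫ pullback.fst B.V.hom (tr Xs ff.le)) he
    refine (congrArg (e.left ≫ ·) (pullback.lift_fst ff.hom A.V.hom ff.w).symm).trans ?_
    refine Eq.trans ?_ (congrArg (e.left ≫ ·) (pullback.lift_fst gg.hom A.V.hom gg.w))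
    exact (Category.assoc _ _ _).symm.trans (h₁.trans (Category.assoc _ _ _))

theorem isCofiltered_phi (W : c.pt.Etale) : IsCofiltered (StructuredArrow W (phi c)) := by
  haveI : Nonempty (StructuredArrow W (phi c)) := by
    obtain ⟨j⟩ := ‹Nonempty ι›
    exact ⟨StructuredArrow.mk (liftTo c (⟨j, EtCoh.top _⟩ : Obj Xs) (W.hom ≫ proj c j) (Category.comp_id _))⟩
  haveI : IsCofilteredOrEmpty (StructuredArrow W (phi c)) :=
    { cone_objs := fun a b => by
        obtain ⟨C, h, p, q, hp, hq⟩ := exists_common c a.right b.right a.hom b.hom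
        exact ⟨StructuredArrow.mk h, StructuredArrow.homMk p hp, StructuredArrow.homMk q hq, trivial⟩
      cone_maps := fun a b f g => by
        obtain ⟨C, h, e, he, hfg⟩ := exists_equalizing c a.hom f.right g.right
          ((StructuredArrow.w f).trans (StructuredArrow.w g).symm)
        exact ⟨StructuredArrow.mk h, StructuredArrow.homMk e he, StructuredArrow.ext _ _ hfg⟩ }
  exact { }

instance representablyFlat_phi : RepresentablyFlat (phi c) := ⟨fun W => isCofiltered_phi c W⟩

omit [IsDirected ι (· ≤ ·)] [Nonempty ι] in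
theorem coverPreserving_phi : CoverPreserving (topology Xs) c.pt.smallEtaleTopology (phi c) := by
  constructor
  intro A S hS
  let T : Sieve A.V := S.functorPullback (incl Xs A.idx)
  have hT : T ∈ (St Xs A.idx).smallEtaleTopology A.V :=
    Functor.cover_lift (J := (St Xs A.idx).smallEtaleTopology) (incl Xs A.idx) (topology Xs) hS
  refine GrothendieckTopology.superset_covering _ ?_
    ((EtCoh.coverPreserving_bc (proj c A.idx)).cover_preserve hT)
  rintro W f ⟨V, g, h, hg, rfl⟩
  refine (Sieve.functorPushforward (phi c) S).downward_closed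
    (Sieve.image_mem_functorPushforward _ _ hg : Sieve.functorPushforward (phi c) S _) h |> fun q => ?_
  exact (phi_map_incl c A.idx g) ▸ q

instance isContinuous_phi : (phi c).IsContinuous (topology Xs) c.pt.smallEtaleTopology :=
  Functor.isContinuous_of_coverPreserving (compatiblePreservingOfFlat _ _) (coverPreserving_phi c)

end Groth.Agent.EtLimit
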