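import Groth.Agent.EtLimit.Phi
import Groth.Agent.EtZarCmp.Cohom
import Groth.Agent.H8Lim.BaseChange

/-!
# The sheaf on the limit attached to a sheaf on the total site
-/

set_option autoImplicit false
set_option linter.all false
set_option backward.isDefEq.respectTransparency.types false
set_option backward.isDefEq.respectTransparency false
set_option backward.defeqAttrib.useBackward true
set_option synthInstance.maxHeartbeats 400000
set_option maxHeartbeats 1000000

universe u

open CategoryTheory Limits AlgebraicGeometry Opposite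

namespace Groth.Agent.EtLimit

variable {ι : Type u} [Preorder ι] {Xs : ιᵒᵖ ⥤ Scheme.{u}} (c : Cone Xs)

/-- The presheaf left Kan extension to the limit. -/
noncomputable abbrev pre (E : Ab Xs) : c.pt.Etaleᵒᵖ ⥤ AddCommGrpCat.{u + 1} := (phi c).op.lan.obj E.obj

/-- The pullback to the limit. -/
noncomputable def toLim : Ab Xs ⥤ EtCoh.Ab c.pt :=
  sheafToPresheaf (topology Xs) AddCommGrpCat.{u + 1} ⋙ (phi c).op.lan ⋙
    presheafToSheaf c.pt.smallEtaleTopology AddCommGrpCat.{u + 1}

/-- The unit on presheaves. -/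
noncomputable def preUnit (E : Ab Xs) : E.obj ⟶ (phi c).op ⋙ pre c E := (phi c).op.lanUnit.app E.obj

theorem isPointwise_preUnit (E : Ab Xs) :
    Nonempty (Functor.LeftExtension.mk (pre c E) (preUnit c E)).IsPointwiseLeftKanExtension :=
  ⟨Functor.isPointwiseLeftKanExtensionLeftKanExtensionUnit (phi c).op E.obj⟩

/-- The sheafification map. -/
noncomputable def sheafMap (E : Ab Xs) : pre c E ⟶ ((toLim c).obj E).obj :=
  toSheafify c.pt.smallEtaleTopology (pre c E)

/-- A section of a stage gives a section over the base change. -/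
noncomputable def theta (E : Ab Xs) (A : Obj Xs) :
    E.obj.obj (op A) ⟶ ((toLim c).obj E).obj.obj (op ((phi c).obj A)) :=
  (preUnit c E).app (op A) ≫ (sheafMap c E).app (op ((phi c).obj A))

theorem theta_nat (E : Ab Xs) {A B : Obj Xs} (m : A ⟶ B) (x : E.obj.obj (op B)) :
    theta c E A (E.obj.map m.op x) = ((toLim c).obj E).obj.map ((phi c).map m).op (theta c E B x) :=
  (congrArg ((sheafMap c E).app (op ((phi c).obj A))) (NatTrans.naturality_apply (preUnit c E) m.op x)).trans
    (NatTrans.naturality_apply (sheafMap c E) ((phi c).map m).op _)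

theorem theta_map {E F : Ab Xs} (g : E ⟶ F) (A : Obj Xs) (x : E.obj.obj (op A)) :
    theta c F A (g.hom.app (op A) x) = ((toLim c).map g).hom.app (op ((phi c).obj A)) (theta c E A x) := by
  have h1 : (preUnit c F).app (op A) (g.hom.app (op A) x) =
      ((phi c).op.lan.map g.hom).app (op ((phi c).obj A)) ((preUnit c E).app (op A) x) :=
    ConcreteCategory.congr_hom (congr_app ((phi c).op.lanUnit.naturality g.hom) (op A)) x
  refine (congrArg ((sheafMap c F).app (op ((phi c).obj A))) h1).trans ?_
  exact ConcreteCategory.congr_hom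
    (congr_app ((toSheafify_naturality c.pt.smallEtaleTopology ((phi c).op.lan.map g.hom))) (op ((phi c).obj A))) _

variable [IsDirected ι (· ≤ ·)] [Nonempty ι]

instance preservesFiniteLimits_toLim : PreservesFiniteLimits (toLim c) := by
  haveI : AB5OfSize.{u, u + 1} AddCommGrpCat.{u + 1} := AB5OfSize_of_univLE AddCommGrpCat.{u + 1}
  haveI := EtZarCmp.lan_preservesFiniteLimits AddCommGrpCat.{u + 1} (phi c)
  haveI : PreservesFiniteLimits (sheafToPresheaf (topology Xs) AddCommGrpCat.{u + 1}) := inferInstance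
  exact comp_preservesFiniteLimits _ _

instance preservesFiniteColimits_toLim : PreservesFiniteColimits (toLim c) := by
  haveI : PreservesColimitsOfSize.{0, 0} (toLim c) :=
    (Functor.sheafPullbackConstruction.sheafAdjunctionContinuous (phi c) AddCommGrpCat.{u + 1} (topology Xs)
      c.pt.smallEtaleTopology).leftAdjoint_preservesColimits
  infer_instance

instance additive_toLim : (toLim c).Additive := by
  haveI : PreservesBinaryBiproducts (toLim c) :=
    preservesBinaryBiproducts_of_preservesBinaryCoproducts _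
  exact Functor.additive_of_preservesBinaryBiproducts _

omit [IsDirected ι (· ≤ ·)] [Nonempty ι]

/-- A morphism to a stage factors through later stages. -/
noncomputable def toPush {B : Obj Xs} {j k : ι} {V : (St Xs j).Etale} (g : B ⟶ ⟨j, V⟩) (h : j ≤ k)
    (hk : k ≤ B.idx) : B ⟶ push' h V :=
  ⟨hk, pullback.lift (show Hom B ⟨j, V⟩ from g).hom (B.V.hom ≫ tr Xs hk)
    ((show Hom B ⟨j, V⟩ from g).w.trans ((congrArg (B.V.hom ≫ ·) (tr_comp Xs h hk).symm).trans
      (Category.assoc _ _ _).symm)), pullback.lift_snd _ _ _⟩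

@[reassoc]
theorem toPush_down {B : Obj Xs} {j k : ι} {V : (St Xs j).Etale} (g : B ⟶ ⟨j, V⟩) (h : j ≤ k)
    (hk : k ≤ B.idx) : toPush g h hk ≫ down h V = g :=
  hom_ext (pullback.lift_fst _ _ _)

theorem toPush_unique {B : Obj Xs} {j k : ι} {V : (St Xs j).Etale} {h : j ≤ k} {g g' : B ⟶ push' h V}
    (e : g ≫ down h V = g' ≫ down h V) : g = g' :=
  hom_ext (pullback.hom_ext (congrArg (fun m : B ⟶ (⟨j, V⟩ : Obj Xs) => (show Hom B ⟨j, V⟩ from m).hom) e)
    ((show Hom B (push' h V) from g).w.trans (show Hom B (push' h V) from g').w.symm))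

/-- A morphism to the base change of an object factors through later stages. -/
noncomputable def phiToPush {W : c.pt.Etale} {j k : ι} {V : (St Xs j).Etale}
    (a : W ⟶ (phi c).obj ⟨j, V⟩) (h : j ≤ k) : W ⟶ (phi c).obj (push' h V) :=
  liftTo c (push' h V) (pullback.lift (a.left ≫ pullback.fst V.hom (proj c j)) (W.hom ≫ proj c k)
    ((w_phi c a).trans ((congrArg (W.hom ≫ ·) (proj_tr c h).symm).trans (Category.assoc _ _ _).symm)))
    (pullback.lift_snd _ _ _)

@[reassoc]
theorem phiToPush_down {W : c.pt.Etale} {j k : ι} {V : (St Xs j).Etale}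
    (a : W ⟶ (phi c).obj ⟨j, V⟩) (h : j ≤ k) : phiToPush c a h ≫ (phi c).map (down h V) = a :=
  hom_phi_ext c ((Category.assoc _ _ _).trans ((congrArg (_ ≫ ·) (phiHom_fst c (down h V))).trans
    ((Category.assoc _ _ _).symm.trans ((congrArg (· ≫ _) (pullback.lift_fst _ _ _)).trans (pullback.lift_fst _ _ _)))))

theorem phi_push_ext {W : c.pt.Etale} {j k : ι} {V : (St Xs j).Etale} {h : j ≤ k}
    {a b : W ⟶ (phi c).obj (push' h V)} (e : a ≫ (phi c).map (down h V) = b ≫ (phi c).map (down h V)) :
    a = b := by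
  refine hom_phi_ext c (pullback.hom_ext ?_ ?_)
  · refine (Category.assoc _ _ _).trans ((congrArg (a.left ≫ ·) (phiHom_fst c (down h V)).symm).trans ?_)
    refine Eq.trans ?_ ((Category.assoc _ _ _).trans ((congrArg (b.left ≫ ·) (phiHom_fst c (down h V)).symm))).symm
    exact (Category.assoc _ _ _).symm.trans ((congrArg
      (fun m : W ⟶ (phi c).obj ⟨j, V⟩ => m.left ≫ pullback.fst V.hom (proj c j)) e).trans (Category.assoc _ _ _))
  · exact (w_phi c a).trans (w_phi c b).symm

instance isIso_phi_down {j k : ι} (V : (St Xs j).Etale) (h : j ≤ k) : IsIso ((phi c).map (down h V)) :=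
  ⟨phiToPush c (𝟙 _) h, phi_push_ext c ((Category.assoc _ _ _).trans
    ((congrArg (_ ≫ ·) (phiToPush_down c _ h)).trans ((Category.comp_id _).trans (Category.id_comp _).symm))),
    phiToPush_down c _ h⟩

end Groth.Agent.EtLimit
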