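import Groth.Agent.EtLimit.Bridge

/-!
# The limit theorem for direct images to the stages
-/

set_option autoImplicit false
set_option linter.all false
set_option backward.isDefEq.respectTransparency.types false
set_option backward.isDefEq.respectTransparency false
set_option backward.defeqAttrib.useBackward true
set_option synthInstance.maxHeartbeats 400000
set_option maxHeartbeats 1000000

universe u

open CategoryTheory Limits AlgebraicGeometry Opposite CategoryTheory.Abelian

namespace Groth.Agent.EtLimit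

variable {ι : Type u} [Preorder ι] {Xs : ιᵒᵖ ⥤ Scheme.{u}} (c : Cone Xs)
  [IsDirected ι (· ≤ ·)] [Nonempty ι]

/-- The direct image on the total site. -/
noncomputable def pushTotal (F : EtCoh.Ab c.pt) : Ab Xs :=
  ((phi c).sheafPushforwardContinuous AddCommGrpCat.{u + 1} (topology Xs) c.pt.smallEtaleTopology).obj F

/-- The presheaf form of the counit. -/
noncomputable def preCounit (F : EtCoh.Ab c.pt) : pre c (pushTotal c F) ⟶ F.obj :=
  (((phi c).op.lanAdjunction AddCommGrpCat.{u + 1}).homEquiv (pushTotal c F).obj F.obj).symm (𝟙 _)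

theorem preCounit_unit (F : EtCoh.Ab c.pt) (A : Obj Xs) (x : F.obj.obj (op ((phi c).obj A))) :
    (preCounit c F).app (op ((phi c).obj A)) ((preUnit c (pushTotal c F)).app (op A) x) = x := by
  have h2 : preUnit c (pushTotal c F) ≫ Functor.whiskerLeft (phi c).op (preCounit c F) = 𝟙 _ := by
    refine Eq.trans ?_ (((((phi c).op.lanAdjunction AddCommGrpCat.{u + 1}).homEquiv (pushTotal c F).obj F.obj)).apply_symm_apply (𝟙 _))
    rw [Adjunction.homEquiv_unit, Functor.lanAdjunction_unit]
    rfl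
  exact ConcreteCategory.congr_hom (congr_app h2 (op A)) x

/-- The counit to the sheaf on the limit. -/
noncomputable def limCounit (F : EtCoh.Ab c.pt) : (toLim c).obj (pushTotal c F) ⟶ F :=
  fromLim c (E := pushTotal c F) (M := F) (𝟙 _)

variable {c} (hc : IsLimit c) [haff : ∀ ⦃a b : ιᵒᵖ⦄ (h : a ⟶ b), IsAffineHom (Xs.map h)]

include hc haff in
theorem exists_phi_piece (W : c.pt.Etale) (z : W.left) :
    ∃ (k : ι) (T : (St Xs k).Etale) (σ : (phi c).obj ⟨k, T⟩ ⟶ W),
      IsAffine T.left ∧ z ∈ Set.range σ.left := by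
  obtain ⟨j⟩ := ‹Nonempty ι›
  obtain ⟨k, T, t, σ, hT, -, -, hz⟩ := exists_piece hc (EtCoh.top (St Xs j)) W
    (liftTo c (⟨j, EtCoh.top _⟩ : Obj Xs) (W.hom ≫ proj c j) (Category.comp_id _)) z
  exact ⟨k, T, σ, hT, hz⟩

include hc haff in
theorem isLocallySurjective_preCounit (F : EtCoh.Ab c.pt) :
    Presheaf.IsLocallySurjective c.pt.smallEtaleTopology (preCounit c F) := by
  constructor
  intro W s
  refine HenselLib.Kummer.mem_of_points W _ fun z => ?_
  obtain ⟨k, T, σ, -, y, hy⟩ := exists_phi_piece hc W z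
  exact ⟨_, σ, y, ⟨(preUnit c (pushTotal c F)).app (op (⟨k, T⟩ : Obj Xs)) (F.obj.map σ.op s),
    preCounit_unit c F _ _⟩, hy⟩

include hc haff in
theorem isLocallyInjective_preCounit (F : EtCoh.Ab c.pt) :
    Presheaf.IsLocallyInjective c.pt.smallEtaleTopology (preCounit c F) := by
  refine ⟨fun {X} x₁ x₂ h => ?_⟩
  obtain ⟨W⟩ := X
  obtain ⟨hL⟩ := isPointwise_preUnit c (pushTotal c F)
  haveI := isCofiltered_phi c W
  obtain ⟨A, f, y, hy⟩ := LanAb.el_surjective (phi c) (preUnit c (pushTotal c F)) hL (x₁ - x₂)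
  have h0 : F.obj.map f.op y = 0 := by
    have e := congrArg ((preCounit c F).app (op W)) hy
    rw [map_sub, h, sub_self] at e
    refine Eq.trans ?_ e
    exact (congrArg (F.obj.map f.op) (preCounit_unit c F A y)).symm.trans
      (NatTrans.naturality_apply (preCounit c F) f.op _).symm
  refine HenselLib.Kummer.mem_of_points W _ fun z => ?_
  obtain ⟨k, T, σ, hT, w, hw⟩ := exists_phi_piece hc W z
  haveI := hT
  obtain ⟨m, hkm, g, hg⟩ := exists_descend_hom hc T A (σ ≫ f)
  let q : (phi c).obj (push' hkm T) ⟶ W := (phi c).map (down hkm T) ≫ σ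
  refine ⟨_, q, (phiToPush c (𝟙 _) hkm).left w, ?_, ?_⟩
  · show (pre c (pushTotal c F)).map q.op x₁ = (pre c (pushTotal c F)).map q.op x₂
    rw [← sub_eq_zero, ← map_sub, ← hy]
    refine (ConcreteCategory.congr_hom ((pre c (pushTotal c F)).map_comp f.op q.op) _).symm.trans ?_
    have e : q ≫ f = (phi c).map g := (Category.assoc _ _ _).trans hg.symm
    refine (congrArg (fun r => (pre c (pushTotal c F)).map (Quiver.Hom.op r)
      ((preUnit c (pushTotal c F)).app (op A) y)) e).trans ?_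
    refine (NatTrans.naturality_apply (preUnit c (pushTotal c F)) g.op y).symm.trans ?_
    refine (congrArg ((preUnit c (pushTotal c F)).app _) (?_ : F.obj.map ((phi c).map g).op y = 0)).trans (map_zero _)
    rw [← e, op_comp, F.obj.map_comp]
    exact (congrArg (F.obj.map q.op) h0).trans (map_zero _)
  · refine Eq.trans ?_ hw
    exact congrArg (fun r : (phi c).obj ⟨k, T⟩ ⟶ W => r.left w) (phiToPush_down_assoc c (𝟙 _) hkm σ |>.trans
      (Category.id_comp _))

include hc haff in
theorem isIso_limCounit (F : EtCoh.Ab c.pt) : IsIso (limCounit c F) := by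
  have fac : sheafMap c (pushTotal c F) ≫ (limCounit c F).hom = preCounit c F :=
    toSheafify_sheafifyLift _ _ F.property
  haveI := isLocallyInjective_preCounit hc F
  haveI := isLocallySurjective_preCounit hc F
  haveI : Presheaf.IsLocallySurjective c.pt.smallEtaleTopology (sheafMap c (pushTotal c F)) :=
    inferInstanceAs (Presheaf.IsLocallySurjective _ (toSheafify c.pt.smallEtaleTopology (pre c (pushTotal c F))))
  refine (Sheaf.isLocallyBijective_iff_isIso (A := AddCommGrpCat.{u + 1}) (limCounit c F)).1 ⟨Presheaf.isLocallyInjective_of_isLocallyInjective_of_isLocallySurjective_fac _ (preCounit c F) fac,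
    Presheaf.isLocallySurjective_of_isLocallySurjective_fac _ fac⟩

omit haff

variable (c)

/-- Direct images to a stage, as restrictions of the direct image to the total site. -/
noncomputable def toRes (F : EtCoh.Ab c.pt) (j : ι) :
    (EtCoh.push (proj c j)).obj F ⟶ (res Xs j).obj (pushTotal c F) :=
  ObjectProperty.homMk
    { app := fun V => 𝟙 _
      naturality := fun V W g => (Category.comp_id _).trans (Eq.trans
        (congrArg (fun m => F.obj.map (Quiver.Hom.op m)) (phi_map_incl c j g.unop).symm) (Category.id_comp _).symm) }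

/-- Restrictions of the direct image to the total site, as direct images. -/
noncomputable def ofRes (F : EtCoh.Ab c.pt) (j : ι) :
    (res Xs j).obj (pushTotal c F) ⟶ (EtCoh.push (proj c j)).obj F :=
  ObjectProperty.homMk
    { app := fun V => 𝟙 _
      naturality := fun V W g => (Category.comp_id _).trans (Eq.trans
        (congrArg (fun m => F.obj.map (Quiver.Hom.op m)) (phi_map_incl c j g.unop)) (Category.id_comp _).symm) }

theorem adjSect_counit {X Y : Scheme.{u}} (f : X ⟶ Y) (F : EtCoh.Ab X) (V : Y.Etale)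
    (x : ((EtCoh.push f).obj F).obj.obj (op V)) :
    adjSect f ((EtCoh.pullPushAdj f).counit.app F) V x = x := by
  show ((EtCoh.pullPushAdj f).homEquiv _ _ _).hom.app (op V) x = x
  rw [Adjunction.homEquiv_unit, Adjunction.right_triangle_components]
  rfl

theorem counit_ofRes (F : EtCoh.Ab c.pt) (j : ι) :
    (EtCoh.pull (proj c j)).map (toRes c F j) ≫ toLimHom c (pushTotal c F) j ≫ limCounit c F =
      (EtCoh.pullPushAdj (proj c j)).counit.app F := by
  refine hom_ext_adjSect (proj c j) fun V x => ?_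
  refine (adjSect_pull_map _ _ _ V x).trans ((adjSect_comp _ _ _ V _).trans ?_)
  refine (congrArg ((limCounit c F).hom.app _) (adjSect_toLimHom c _ j V _)).trans ?_
  exact (fromLim_theta c _ ⟨j, V⟩ _).trans (adjSect_counit _ F V x).symm

theorem pullbackCongr_inv_fst {X Y : Scheme.{u}} {f g : X ⟶ Y} (e : f = g) (V : Y.Etale) :
    ((MorphismProperty.Over.pullbackCongr (P := EtCoh.etaleMP) (Q := ⊤) e).inv.app V).left ≫ pullback.fst V.hom f =
      pullback.fst V.hom g := by
  subst e
  simp [MorphismProperty.Over.pullbackCongr]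

theorem pullbackComp_inv_fst {X Y Z : Scheme.{u}} (f : X ⟶ Y) (g : Y ⟶ Z) (V : Z.Etale) :
    ((MorphismProperty.Over.pullbackComp (P := EtCoh.etaleMP) (Q := ⊤) f g).inv.app V).left ≫
        pullback.fst V.hom (f ≫ g) =
      pullback.fst ((EtCoh.bc g).obj V).hom f ≫ pullback.fst V.hom g := by
  let e := (MorphismProperty.Over.pullbackComp (P := EtCoh.etaleMP) (Q := ⊤) f g)
  have h := MorphismProperty.Over.pullbackComp_left_fst_fst (P := EtCoh.etaleMP) (Q := ⊤) f g V
  rw [← h]
  refine (Category.assoc _ _ _).symm.trans ?_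
  refine Eq.trans ?_ (Category.id_comp _)
  exact congrArg (· ≫ _) (congrArg (fun m => m.left) (e.inv_hom_id_app V))

/-- The comparison of direct images to two stages. -/
noncomputable def pushKappa (F : EtCoh.Ab c.pt) {j k : ι} (h : j ≤ k) :
    (EtCoh.push (c.π.app (op j))).obj F ⟶ (EtCoh.push (tr Xs h)).obj ((EtCoh.push (c.π.app (op k))).obj F) :=
  ((EtCoh.pushCongr (c.w (homOfLE h).op).symm).app F).hom ≫ (EtCoh.pushComp (tr Xs h) (c.π.app (op k))).inv.app F

theorem pushKappa_app (F : EtCoh.Ab c.pt) {j k : ι} (h : j ≤ k) (V : (St Xs j).Etale)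
    (x : F.obj.obj (op ((phi c).obj (⟨j, V⟩ : Obj Xs)))) :
    (pushKappa c F h).hom.app (op V) x = F.obj.map ((phi c).map (down h V)).op x := by
  dsimp [pushKappa, EtCoh.pushCongr, EtCoh.pushComp, Functor.sheafPushforwardContinuousComp']
  refine (ConcreteCategory.congr_hom (F.obj.map_comp _ _) x).symm.trans ?_
  refine congrArg (fun m => F.obj.map (Quiver.Hom.op m) x) (hom_phi_ext c (B := (⟨j, V⟩ : Obj Xs)) ?_)
  refine Eq.trans ?_ (phiHom_fst c (down h V)).symm
  refine (Category.assoc _ _ _).trans ((congrArg (_ ≫ ·) (pullbackCongr_inv_fst (c.w (homOfLE h).op).symm V)).trans ?_)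
  exact pullbackComp_inv_fst (c.π.app (op k)) (tr Xs h) V

variable [∀ a, PreservesFiniteLimits (EtCoh.pull (c.π.app a))]
  [hpl : ∀ ⦃a b : ιᵒᵖ⦄ (h : a ⟶ b), PreservesFiniteLimits (EtCoh.pull (Xs.map h))]
  (hc : IsLimit c) [haff : ∀ ⦃a b : ιᵒᵖ⦄ (h : a ⟶ b), IsAffineHom (Xs.map h)]
  [∀ a, CompactSpace ↥(Xs.obj a)] [∀ a, QuasiSeparatedSpace ↥(Xs.obj a)]

omit [∀ a, PreservesFiniteLimits (EtCoh.pull (c.π.app a))] hpl haff
  [∀ a, CompactSpace ↥(Xs.obj a)] [∀ a, QuasiSeparatedSpace ↥(Xs.obj a)] in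
theorem pull_kappa (F : EtCoh.Ab c.pt) {j k : ι} (h : j ≤ k) :
    (EtCoh.pull (tr Xs h)).map (toRes c F j) ≫ transHom Xs (pushTotal c F) h ≫ ofRes c F k =
      (EtCoh.pull (tr Xs h)).map (pushKappa c F h) ≫
        (EtCoh.pullPushAdj (tr Xs h)).counit.app ((EtCoh.push (c.π.app (op k))).obj F) := by
  refine hom_ext_adjSect (tr Xs h) fun V x => ?_
  refine (adjSect_pull_map _ _ _ V x).trans ((adjSect_comp _ _ _ V _).trans ?_)
  refine (congrArg ((ofRes c F k).hom.app _) (adjSect_transHom _ h V _)).trans ?_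
  refine Eq.trans ?_ ((adjSect_pull_map (tr Xs h) (pushKappa c F h) _ V x).trans (adjSect_counit (tr Xs h) _ V _)).symm
  exact (pushKappa_app c F h V x).symm

omit [∀ a, PreservesFiniteLimits (EtCoh.pull (c.π.app a))] hpl haff
  [∀ a, CompactSpace ↥(Xs.obj a)] [∀ a, QuasiSeparatedSpace ↥(Xs.obj a)] in
theorem ofRes_toRes (F : EtCoh.Ab c.pt) (j : ι) : ofRes c F j ≫ toRes c F j = 𝟙 _ :=
  ObjectProperty.hom_ext _ (NatTrans.ext (funext fun V => Category.id_comp _))

include hc in
/-- The limit theorem for direct images to the stages. -/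
theorem push_limit (F : EtCoh.Ab c.pt) (n : ℕ) :
    (∀ ξ : Ext.{u + 1} (EtCoh.const c.pt ℤ) F n,
      ∃ (j : ι) (x : Ext.{u + 1} (EtCoh.const (St Xs j) ℤ) ((EtCoh.push (proj c j)).obj F) n),
        hPull (proj c j) ((EtCoh.pullPushAdj (proj c j)).counit.app F) n x = ξ) ∧
    (∀ (j : ι) (x : Ext.{u + 1} (EtCoh.const (St Xs j) ℤ) ((EtCoh.push (proj c j)).obj F) n),
      hPull (proj c j) ((EtCoh.pullPushAdj (proj c j)).counit.app F) n x = 0 →
        ∃ (k : ι) (hk : j ≤ k),
          haveI : PreservesFiniteLimits (EtCoh.pull (tr Xs hk)) := hpl _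
          hPull (tr Xs hk) ((EtCoh.pull (tr Xs hk)).map (pushKappa c F hk) ≫
            (EtCoh.pullPushAdj (tr Xs hk)).counit.app ((EtCoh.push (c.π.app (op k))).obj F)) n x = 0) := by
  haveI := isIso_limCounit hc F
  refine ⟨fun ξ => ?_, fun j x hx => ?_⟩
  · obtain ⟨j, y, hy⟩ := (limit_theorem c hc n (pushTotal c F)).1
      (ξ.comp (Ext.mk₀ (inv (limCounit c F))) (add_zero n))
    refine ⟨j, y.comp (Ext.mk₀ (ofRes c F j)) (add_zero n), ?_⟩
    have hm : (EtCoh.pull (proj c j)).map (ofRes c F j) ≫ (EtCoh.pullPushAdj (proj c j)).counit.app F =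
        toLimHom c (pushTotal c F) j ≫ limCounit c F := by
      rw [← counit_ofRes, ← Category.assoc, ← Functor.map_comp, ofRes_toRes, CategoryTheory.Functor.map_id, Category.id_comp]
    refine (extPull_comp _ _ _ _ _ _ hm n y).trans ?_
    refine (congrArg (fun z => Ext.comp z (Ext.mk₀ (limCounit c F)) (add_zero n)) hy).trans ?_
    rw [Ext.comp_assoc_of_third_deg_zero, Ext.mk₀_comp_mk₀, IsIso.inv_hom_id, Ext.comp_mk₀_id]
  · have hy : toH c (pushTotal c F) j n (x.comp (Ext.mk₀ (toRes c F j)) (add_zero n)) = 0 := by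
      refine (extPull_comp _ _ _ _ _ _ (?_ : (EtCoh.pull (proj c j)).map (toRes c F j) ≫ toLimHom c (pushTotal c F) j =
        (EtCoh.pullPushAdj (proj c j)).counit.app F ≫ inv (limCounit c F)) n x).trans ?_
      · rw [IsIso.eq_comp_inv, Category.assoc]
        exact counit_ofRes c F j
      · exact (congrArg (fun z => Ext.comp z (Ext.mk₀ (inv (limCounit c F))) (add_zero n)) hx).trans
          (by rw [Ext.zero_comp])
    obtain ⟨k, hk, h0⟩ := (limit_theorem c hc n (pushTotal c F)).2 j _ hy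
    refine ⟨k, hk, ?_⟩
    haveI : PreservesFiniteLimits (EtCoh.pull (tr Xs hk)) := hpl _
    have hm : (EtCoh.pull (tr Xs hk)).map (toRes c F j) ≫ transHom Xs (pushTotal c F) hk ≫ ofRes c F k =
        ((EtCoh.pull (tr Xs hk)).map (pushKappa c F hk) ≫
          (EtCoh.pullPushAdj (tr Xs hk)).counit.app ((EtCoh.push (c.π.app (op k))).obj F)) ≫ 𝟙 _ :=
      (pull_kappa c F hk).trans (Category.comp_id _).symm
    have e2 := extPull_comp (EtCoh.pull (tr Xs hk)) (EtCore.pullConst (tr Xs hk) ℤ).inv _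
      (transHom Xs (pushTotal c F) hk ≫ ofRes c F k) (toRes c F j) (𝟙 _) hm n x
    rw [Ext.comp_mk₀_id] at e2
    refine e2.symm.trans ?_
    refine (extPull_apply _ _ _ n _).trans ?_
    rw [← Ext.mk₀_comp_mk₀, ← Ext.comp_assoc_of_third_deg_zero]
    exact (congrArg (fun z => Ext.comp z (Ext.mk₀ (ofRes c F k)) (add_zero n)) h0).trans (by rw [Ext.zero_comp])

theorem hofPush_eq {X Y : Scheme.{u}} (f : X ⟶ Y) [PreservesFiniteLimits (EtCoh.pull f)] (F : EtCoh.Ab X) (n : ℕ)
    (x : Ext.{u + 1} (EtCoh.const Y ℤ) ((EtCoh.push f).obj F) n) :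
    (EtLim.HofPush f F n x : Ext.{u + 1} (EtCoh.const X ℤ) F n) =
      hPull f ((EtCoh.pullPushAdj f).counit.app F) n x :=
  rfl

theorem hpushTrans_eq {X Xi Xj : Scheme.{u}} (uij : Xj ⟶ Xi) (uj : X ⟶ Xj) (ui : X ⟶ Xi)
    (w : uj ≫ uij = ui) [PreservesFiniteLimits (EtCoh.pull uij)] (F : EtCoh.Ab X) (n : ℕ)
    (x : Ext.{u + 1} (EtCoh.const Xi ℤ) ((EtCoh.push ui).obj F) n) :
    (EtLim.HpushTrans uij uj ui w F n x : Ext.{u + 1} (EtCoh.const Xj ℤ) ((EtCoh.push uj).obj F) n) =
      hPull uij ((EtCoh.pull uij).map (((EtCoh.pushCongr w.symm).app F).hom ≫ (EtCoh.pushComp uij uj).inv.app F) ≫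
        (EtCoh.pullPushAdj uij).counit.app ((EtCoh.push uj).obj F)) n x := by
  refine Eq.trans ?_ ((extPull_comp (EtCoh.pull uij) (EtCore.pullConst uij ℤ).inv _
    ((EtCoh.pullPushAdj uij).counit.app ((EtCoh.push uj).obj F))
    (((EtCoh.pushCongr w.symm).app F).hom ≫ (EtCoh.pushComp uij uj).inv.app F) (𝟙 _) (Category.comp_id _).symm n x).trans
    (Ext.comp_mk₀_id _))
  rfl

end Groth.Agent.EtLimit
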