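import Groth.Agent.EtLimit.Glue
import Groth.Agent.EtCechLib.Qcqs

/-!
# Coverings of the limit refined by coverings of stages
-/

set_option autoImplicit false
set_option linter.all false
set_option backward.isDefEq.respectTransparency.types false
set_option backward.isDefEq.respectTransparency false
set_option backward.defeqAttrib.useBackward true
set_option synthInstance.maxHeartbeats 400000
set_option maxHeartbeats 1000000

universe u

open CategoryTheory Limits AlgebraicGeometry Opposite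

namespace Groth.Agent.EtLimit

variable {ι : Type u} [Preorder ι] {Xs : ιᵒᵖ ⥤ Scheme.{u}} [IsDirected ι (· ≤ ·)] [Nonempty ι]
  {c : Cone Xs} (hc : IsLimit c) [haff : ∀ ⦃a b : ιᵒᵖ⦄ (h : a ⟶ b), IsAffineHom (Xs.map h)]

include hc in
/-- An étale neighbourhood on the limit is refined by an affine one coming from a stage. -/
theorem exists_piece {j : ι} (V : (St Xs j).Etale) (Z₁ : c.pt.Etale) (f₁ : Z₁ ⟶ (phi c).obj ⟨j, V⟩)
    (z₁ : Z₁.left) :
    ∃ (k : ι) (T : (St Xs k).Etale) (t : (⟨k, T⟩ : Obj Xs) ⟶ ⟨j, V⟩) (σ : (phi c).obj ⟨k, T⟩ ⟶ Z₁),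
      IsAffine T.left ∧ σ ≫ f₁ = (phi c).map t ∧ f₁.left z₁ ∈ Set.range (phiHom c t) ∧ z₁ ∈ Set.range σ.left := by
  obtain ⟨V₀, hV₀, hv₀, -⟩ := exists_isAffineOpen_mem_and_subset (X := V.left)
    (x := pullback.fst V.hom (proj c j) (f₁.left z₁)) (U := ⊤) trivial
  haveI : IsAffine (V₀ : Scheme.{u}) := hV₀
  haveI : Etale V.hom := V.prop
  let V₀e : (St Xs j).Etale := Scheme.Etale.mk (V₀.ι ≫ V.hom)
  let i₀ : (⟨j, V₀e⟩ : Obj Xs) ⟶ ⟨j, V⟩ := (incl Xs j).map (MorphismProperty.Over.homMk V₀.ι rfl trivial)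
  let q₁ : Z₁.left ⟶ V.left := f₁.left ≫ pullback.fst V.hom (proj c j)
  have hzq : q₁ z₁ ∈ V₀ := hv₀
  obtain ⟨O, hO, hzO, hOsub⟩ := exists_isAffineOpen_mem_and_subset (X := Z₁.left) (x := z₁) (U := q₁ ⁻¹ᵁ V₀) hzq
  haveI : IsAffine (O : Scheme.{u}) := hO
  haveI : Etale Z₁.hom := Z₁.prop
  let Z : c.pt.Etale := Scheme.Etale.mk (O.ι ≫ Z₁.hom)
  haveI : IsAffine Z.left := hO
  let iz : Z ⟶ Z₁ := MorphismProperty.Over.homMk O.ι rfl trivial
  have hrange : Set.range (O.ι ≫ q₁) ⊆ Set.range V₀.ι := by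
    rw [Scheme.Opens.range_ι]
    rintro _ ⟨z, rfl⟩
    exact hOsub z.2
  let l₀ : (O : Scheme.{u}) ⟶ V₀ := IsOpenImmersion.lift V₀.ι (O.ι ≫ q₁) hrange
  have hl₀ : l₀ ≫ V₀.ι = O.ι ≫ q₁ := IsOpenImmersion.lift_fac _ _ hrange
  have hw : l₀ ≫ V₀e.hom = Z.hom ≫ proj c j := by
    refine (Category.assoc _ _ _).symm.trans ((congrArg (· ≫ V.hom) hl₀).trans ?_)
    exact (Category.assoc _ _ _).trans ((congrArg (O.ι ≫ ·) (w_phi c f₁)).trans (Category.assoc _ _ _).symm)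
  let f₀ : Z ⟶ (phi c).obj ⟨j, V₀e⟩ := liftTo c ⟨j, V₀e⟩ l₀ hw
  have hf₀ : f₀ ≫ (phi c).map i₀ = iz ≫ f₁ := by
    refine hom_phi_ext c ((Category.assoc _ _ _).trans ((congrArg (_ ≫ ·) (phiHom_fst c i₀)).trans ?_))
    refine (Category.assoc _ _ _).symm.trans ((congrArg (· ≫ _) (pullback.lift_fst _ _ _)).trans ?_)
    exact hl₀.trans (Category.assoc _ _ _).symm
  haveI : IsAffine V₀e.left := hV₀
  obtain ⟨k, T, t, σ, ρ, hT, hσ, hρ, hρσ⟩ := exists_descend_etale hc V₀e Z f₀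
  refine ⟨k, T, t ≫ i₀, σ ≫ iz, hT, ?_, ⟨ρ.left ⟨z₁, hzO⟩, ?_⟩,
    ⟨ρ.left ⟨z₁, hzO⟩, congrArg (fun q : Z ⟶ Z₁ => q.left ⟨z₁, hzO⟩) (show ρ ≫ σ ≫ iz = iz by
      rw [reassoc_of% hρσ])⟩⟩
  · rw [Category.assoc, ← hf₀, reassoc_of% hσ, Functor.map_comp]
  · have e : ρ ≫ (phi c).map (t ≫ i₀) = iz ≫ f₁ := by
      rw [Functor.map_comp, reassoc_of% hρ, hf₀]
    exact congrArg (fun q : Z ⟶ (phi c).obj ⟨j, V⟩ => q.left ⟨z₁, hzO⟩) e

include hc in
/-- Neighbourhoods of all points are moved to one stage. -/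
theorem exists_common_cover {j : ι} (V : (St Xs j).Etale) [CompactSpace V.left] [QuasiSeparatedSpace V.left]
    {α : Type u} (k : α → ι) (T : ∀ a, (St Xs (k a)).Etale) (t : ∀ a, (⟨k a, T a⟩ : Obj Xs) ⟶ ⟨j, V⟩)
    (hT : ∀ a, IsAffine (T a).left) (hcov : ∀ p : ↥(pullback V.hom (proj c j)), ∃ a, p ∈ Set.range (phiHom c (t a))) :
    ∃ (l : ι) (hjl : j ≤ l) (sf : Finset α) (Tl : sf → (St Xs l).Etale)
      (tt : ∀ a, (⟨l, Tl a⟩ : Obj Xs) ⟶ push' hjl V) (gg : ∀ a : sf, (⟨l, Tl a⟩ : Obj Xs) ⟶ ⟨k a.1, T a.1⟩),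
      (∀ a, tt a ≫ down hjl V = gg a ≫ t a.1) ∧ (∀ a, EtCechLib.IsQcqs (Tl a)) ∧
      ∀ q : (push' hjl V).V.left, ∃ a, q ∈ Set.range (show Hom ⟨l, Tl a⟩ (push' hjl V) from tt a).hom := by
  classical
  have hjk : ∀ a, j ≤ k a := fun a => (show Hom (⟨k a, T a⟩ : Obj Xs) ⟨j, V⟩ from t a).le
  let tb : ∀ a, (⟨k a, T a⟩ : Obj Xs) ⟶ push' (hjk a) V := fun a => toPush (t a) (hjk a) le_rfl
  have hopen : ∀ a, IsOpen (Set.range (show Hom ⟨k a, T a⟩ (push' (hjk a) V) from tb a).hom) := fun a => by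
    haveI := etale_of_hom (A := push' (hjk a) V) (W := T a) (tb a)
    exact (show Hom ⟨k a, T a⟩ (push' (hjk a) V) from tb a).hom.isOpenMap.isOpen_range
  have hp' : ∀ p, ∃ a, toSt c (hjk a) V p ∈ Set.range (show Hom ⟨k a, T a⟩ (push' (hjk a) V) from tb a).hom := fun p => by
    obtain ⟨a, w, hw⟩ := hcov p
    have e : pullback.fst (T a).hom (proj c (k a)) ≫ (show Hom ⟨k a, T a⟩ (push' (hjk a) V) from tb a).hom =
        phiHom c (t a) ≫ toSt c (hjk a) V := by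
      refine pullback.hom_ext ?_ ?_
      · refine (Category.assoc _ _ _).trans ((congrArg (_ ≫ ·) (pullback.lift_fst _ _ _)).trans ?_)
        refine Eq.trans ?_ ((congrArg (_ ≫ ·) (pullback.lift_fst _ _ _)).symm.trans (Category.assoc _ _ _).symm)
        exact (phiHom_fst c (t a)).symm
      · refine (Category.assoc _ _ _).trans ((congrArg (_ ≫ ·) (pullback.lift_snd _ _ _)).trans ?_)
        refine Eq.trans ?_ ((congrArg (_ ≫ ·) (pullback.lift_snd _ _ _)).symm.trans (Category.assoc _ _ _).symm)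
        refine ((congrArg (_ ≫ ·) (comp_tr_refl Xs (T a).hom le_rfl)).trans (pullback.condition)).trans ?_
        exact ((congrArg (· ≫ proj c (k a)) (phiHom_snd c (t a))).symm).trans (Category.assoc _ _ _)
    refine ⟨a, pullback.fst (T a).hom (proj c (k a)) w, ?_⟩
    exact (congrArg (fun m => m w) e).trans (congrArg (toSt c (hjk a) V) hw)
  haveI := compactSpace_limitPullback hc V
  obtain ⟨sf, hsf⟩ := isCompact_univ.elim_finite_subcover
    (fun a => toSt c (hjk a) V ⁻¹' Set.range (show Hom ⟨k a, T a⟩ (push' (hjk a) V) from tb a).hom)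
    (fun a => (hopen a).preimage (toSt c (hjk a) V).continuous) (fun p _ => Set.mem_iUnion.2 (hp' p))
  obtain ⟨k₁, hk₁⟩ := (insert j (sf.image k)).exists_le
  have hj₁ : j ≤ k₁ := hk₁ j (Finset.mem_insert_self _ _)
  have hs₁ : ∀ a : sf, k a.1 ≤ k₁ := fun a => hk₁ _ (Finset.mem_insert_of_mem (Finset.mem_image_of_mem k a.2))
  let st : ∀ a : sf, Hom (push' hj₁ V) (push' (hjk a.1) V) := fun a => stMap (hjk a.1) hj₁ (hs₁ a) V
  let U : (pullback V.hom (tr Xs hj₁)).Opens :=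
    ⟨⋃ a : sf, (st a).hom ⁻¹' Set.range (show Hom ⟨k a.1, T a.1⟩ (push' (hjk a.1) V) from tb a.1).hom,
      isOpen_iUnion fun a => (hopen a.1).preimage (st a).hom.continuous⟩
  obtain ⟨l, hl, hlU⟩ := exists_stage_subset hc hj₁ V U fun q => by
    obtain ⟨a, has, hq⟩ := Set.mem_iUnion₂.1 (hsf (Set.mem_univ q))
    refine Set.mem_iUnion.2 ⟨⟨a, has⟩, ?_⟩
    have e := congrArg (fun t => t q) (toSt_stMap (c := c) (hjk a) hj₁ (hs₁ ⟨a, has⟩) V)
    exact Set.mem_preimage.2 (e ▸ hq)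
  have hjl : j ≤ l := hj₁.trans hl
  haveI : CompactSpace ↥(push' hjl V).V.left := compactSpace_push hjl V
  haveI : QuasiSeparatedSpace ↥(push' hjl V).V.left := quasiSeparatedSpace_push hjl V
  let al : ∀ a : sf, push' hjl V ⟶ push' (hjk a.1) V := fun a => stMap hj₁ hjl hl V ≫ st a
  have hal : ∀ a : sf, al a ≫ down (hjk a.1) V = down hjl V := fun a => by
    simp only [al, st, stMap, Category.assoc, toPush_down]
  have hpieces : ∀ a : sf, ∃ (W : (St Xs l).Etale) (f : (⟨l, W⟩ : Obj Xs) ⟶ push' hjl V)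
      (g : (⟨l, W⟩ : Obj Xs) ⟶ ⟨k a.1, T a.1⟩), f ≫ down hjl V = g ≫ t a.1 ∧ EtCechLib.IsQcqs W ∧
      ∀ (q : (push' hjl V).V.left) (w : (T a.1).left), (show Hom _ (push' (hjk a.1) V) from al a).hom q =
        (show Hom ⟨k a.1, T a.1⟩ (push' (hjk a.1) V) from tb a.1).hom w →
        q ∈ Set.range (show Hom ⟨l, W⟩ (push' hjl V) from f).hom := by
    intro a
    let ah : Hom (push' hjl V) (push' (hjk a.1) V) := al a
    let mh : Hom (⟨k a.1, T a.1⟩ : Obj Xs) (push' (hjk a.1) V) := tb a.1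
    haveI := hT a.1
    haveI : QuasiSeparatedSpace ↥(push' (hjk a.1) V).V.left := quasiSeparatedSpace_push (hjk a.1) V
    haveI : Etale mh.hom := etale_of_hom (A := push' (hjk a.1) V) (W := T a.1) (tb a.1)
    haveI : IsAffine (⟨k a.1, T a.1⟩ : Obj Xs).V.left := hT a.1
    haveI : CompactSpace ↥(⟨k a.1, T a.1⟩ : Obj Xs).V.left := inferInstance
    haveI : QuasiSeparatedSpace ↥(⟨k a.1, T a.1⟩ : Obj Xs).V.left := inferInstance
    haveI : Etale (push' hjl V).V.hom := (push' hjl V).V.prop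
    let W : (St Xs l).Etale := Scheme.Etale.mk (pullback.fst ah.hom mh.hom ≫ (push' hjl V).V.hom)
    let f : (⟨l, W⟩ : Obj Xs) ⟶ push' hjl V := ⟨le_rfl, pullback.fst ah.hom mh.hom, (comp_tr_refl Xs _ _).symm⟩
    let g : (⟨l, W⟩ : Obj Xs) ⟶ ⟨k a.1, T a.1⟩ := ⟨ah.le, pullback.snd ah.hom mh.hom, by
      refine (congrArg (_ ≫ ·) (etale_hom (A := push' (hjk a.1) V) (W := T a.1) (tb a.1)).symm).trans
        ((Category.assoc _ _ _).symm.trans ?_)
      refine (congrArg (· ≫ _) pullback.condition.symm).trans ((Category.assoc _ _ _).trans ?_)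
      exact (congrArg (_ ≫ ·) ah.w).trans (Category.assoc _ _ _).symm⟩
    have e : f ≫ al a = g ≫ tb a.1 :=
      hom_ext (f := f ≫ al a) (g := g ≫ tb a.1) (pullback.condition (f := ah.hom) (g := mh.hom))
    haveI : QuasiCompact mh.hom := inferInstance
    haveI : QuasiSeparated mh.hom := inferInstance
    haveI : QuasiCompact (pullback.fst ah.hom mh.hom) := inferInstance
    haveI : QuasiSeparated (pullback.fst ah.hom mh.hom) := inferInstance
    refine ⟨W, f, g, ?_, ⟨QuasiCompact.compactSpace_of_compactSpace (pullback.fst ah.hom mh.hom),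
      quasiSeparatedSpace_of_quasiSeparated (pullback.fst ah.hom mh.hom)⟩, fun q w hw => ?_⟩
    · rw [← hal a, reassoc_of% e]
      exact congrArg (g ≫ ·) (toPush_down (t a.1) (hjk a.1) le_rfl)
    · obtain ⟨x, hx, -⟩ := Scheme.Pullback.exists_preimage_pullback (f := ah.hom) (g := mh.hom) q w hw
      exact ⟨x, hx⟩
  choose Tl tt gg hsq hqc hrange using hpieces
  refine ⟨l, hjl, sf, Tl, tt, gg, hsq, hqc, fun q => ?_⟩
  obtain ⟨a, w, hw⟩ := Set.mem_iUnion.1 (hlU q)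
  exact ⟨a, hrange a q w hw.symm⟩

end Groth.Agent.EtLimit
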