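import Groth.Agent.EtLimit.Functions

/-!
# The limit theorem for groups of functions
-/

set_option autoImplicit false
set_option linter.all false
set_option backward.isDefEq.respectTransparency.types false
set_option backward.isDefEq.respectTransparency false
set_option backward.defeqAttrib.useBackward true
set_option synthInstance.maxHeartbeats 400000
set_option maxHeartbeats 1000000

universe u

open CategoryTheory Limits AlgebraicGeometry Opposite CategoryTheory.Abelian

namespace Groth.Agent.EtLimit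

variable {ι : Type u} [Preorder ι] {Xs : ιᵒᵖ ⥤ Scheme.{u}}

/-- The underlying scheme of an object of the total site. -/
noncomputable def fstFun (Xs : ιᵒᵖ ⥤ Scheme.{u}) : Obj Xs ⥤ Scheme.{u} where
  obj A := A.V.left
  map f := f.hom

variable (P : Scheme.{u}ᵒᵖ ⥤ AddCommGrpCat.{u + 1})

theorem isSheaf_fstFun
    (hP : ∀ X : Scheme.{u}, Presheaf.IsSheaf X.smallEtaleTopology
      ((Scheme.Etale.forget X ⋙ CategoryTheory.Over.forget X).op ⋙ P)) :
    Presheaf.IsSheaf (topology Xs) ((fstFun Xs).op ⋙ P) := by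
  refine (Presheaf.isSheaf_iff_isSheaf_forget _ _ (CategoryTheory.forget AddCommGrpCat.{u + 1})).2
    ((isSheaf_iff_isSheaf_of_type _ _).2 fun A S hS => ?_)
  obtain ⟨i, V⟩ := A
  let Q := ((fstFun Xs).op ⋙ P) ⋙ CategoryTheory.forget AddCommGrpCat.{u + 1}
  have hsh : ∀ (j : ι) (W : (St Xs j).Etale) (R : Sieve W), R ∈ (St Xs j).smallEtaleTopology W →
      Presieve.IsSheafFor (((Scheme.Etale.forget (St Xs j) ⋙ CategoryTheory.Over.forget (St Xs j)).op ⋙ P) ⋙
        CategoryTheory.forget AddCommGrpCat.{u + 1}) R.arrows := fun j W R hR =>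
    ((isSheaf_iff_isSheaf_of_type _ _).1 ((Presheaf.isSheaf_iff_isSheaf_forget _ _
      (CategoryTheory.forget AddCommGrpCat.{u + 1})).1 (hP (St Xs j)))) R hR
  let T : Sieve V := S.functorPullback (incl Xs i)
  have hT : T ∈ (St Xs i).smallEtaleTopology V :=
    Functor.cover_lift (J := (St Xs i).smallEtaleTopology) (incl Xs i) (topology Xs) hS
  intro x hx
  let x' : Presieve.FamilyOfElements (((Scheme.Etale.forget (St Xs i) ⋙ CategoryTheory.Over.forget (St Xs i)).op ⋙ P) ⋙
        CategoryTheory.forget AddCommGrpCat.{u + 1}) T.arrows :=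
    fun W g hg => x ((incl Xs i).map g) hg
  have hx' : x'.Compatible := fun W₁ W₂ Z g₁ g₂ f₁ f₂ h₁ h₂ e =>
    hx ((incl Xs i).map g₁) ((incl Xs i).map g₂) h₁ h₂ (by rw [← (incl Xs i).map_comp, ← (incl Xs i).map_comp, e])
  let y : Q.obj (op (⟨i, V⟩ : Obj Xs)) := (hsh i V T hT).amalgamate x' hx'
  have hy : ∀ {W : (St Xs i).Etale} (g : W ⟶ V) (hg : T g), Q.map ((incl Xs i).map g).op y = x ((incl Xs i).map g) hg :=
    fun g hg => (hsh i V T hT).valid_glue hx' g hg
  refine ⟨y, fun B f hf => ?_, fun z hz => (hsh i V T hT).isSeparatedFor.ext fun W g hg => ?_⟩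
  · obtain ⟨k, W⟩ := B
    refine (hsh k W _ (Functor.cover_lift (J := (St Xs k).smallEtaleTopology) (incl Xs k) (topology Xs)
      (U := W) ((topology Xs).pullback_stable f (show Sieve.functorPushforward (incl Xs i) T ∈ topology Xs ⟨i, V⟩ from
        (coverPreserving_incl Xs i).cover_preserve hT)))).isSeparatedFor.ext fun W' p hp => ?_
    obtain ⟨V', g, q, hg, e⟩ := hp
    show Q.map ((incl Xs k).map p).op (Q.map f.op y) = Q.map ((incl Xs k).map p).op (x f hf)
    refine (ConcreteCategory.congr_hom (Q.map_comp f.op ((incl Xs k).map p).op) y).symm.trans ?_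
    refine (congrArg (fun r => Q.map (Quiver.Hom.op r) y) e).trans ?_
    refine (ConcreteCategory.congr_hom (Q.map_comp ((incl Xs i).map g).op q.op) y).trans ?_
    exact (congrArg (Q.map q.op) (hy g hg)).trans (hx q ((incl Xs k).map p) hg hf e.symm)
  · exact (hz ((incl Xs i).map g) hg).trans (hy g hg).symm

variable {P}
  (hP : ∀ X : Scheme.{u}, Presheaf.IsSheaf X.smallEtaleTopology
    ((Scheme.Etale.forget X ⋙ CategoryTheory.Over.forget X).op ⋙ P))

/-- A group of functions on the small étale site. -/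
noncomputable abbrev funSheaf (X : Scheme.{u}) : EtCoh.Ab X := ⟨_, hP X⟩

/-- A group of functions on the total site. -/
noncomputable abbrev funTotal (Xs : ιᵒᵖ ⥤ Scheme.{u}) : Ab Xs := ⟨_, isSheaf_fstFun (Xs := Xs) P hP⟩

variable (c : Cone Xs)

/-- Pullback of functions to the limit. -/
noncomputable def funEta : (funTotal hP Xs).obj ⟶ (phi c).op ⋙ (funSheaf hP c.pt).obj where
  app A := P.map (pullback.fst A.unop.V.hom (proj c A.unop.idx)).op
  naturality A B f := by
    show P.map _ ≫ P.map _ = P.map _ ≫ P.map _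
    rw [← P.map_comp, ← P.map_comp]
    exact congrArg (fun m => P.map (Quiver.Hom.op m)) (phiHom_fst c f.unop).symm

/-- Functorial pullback of functions. -/
noncomputable def funPush {X Y : Scheme.{u}} (f : X ⟶ Y) : funSheaf hP Y ⟶ (EtCoh.push f).obj (funSheaf hP X) :=
  ObjectProperty.homMk (Functor.whiskerRight (NatTrans.op (EtLim.bcProj f)) P)

/-- Pullback of functions, as a morphism out of the inverse image. -/
noncomputable def funPull {X Y : Scheme.{u}} (f : X ⟶ Y) :
    (EtCoh.pull f).obj (funSheaf hP Y) ⟶ funSheaf hP X :=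
  (EtCoh.pull f).map (funPush hP f) ≫ (EtCoh.pullPushAdj f).counit.app (funSheaf hP X)

theorem adjSect_funPull {X Y : Scheme.{u}} (f : X ⟶ Y) (V : Y.Etale) (x : (funSheaf hP Y).obj.obj (op V)) :
    adjSect f (funPull hP f) V x = P.map (pullback.fst V.hom f).op x :=
  (adjSect_pull_map f (funPush hP f) _ V x).trans (adjSect_counit f _ V _)

/-- Groups of functions on a stage, as restrictions from the total site. -/
noncomputable def funRes (j : ι) : funSheaf hP (St Xs j) ⟶ (res Xs j).obj (funTotal hP Xs) :=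
  ObjectProperty.homMk
    { app := fun V => 𝟙 _
      naturality := fun V W g => (Category.comp_id _).trans (Category.id_comp _).symm }

/-- Restrictions from the total site, as groups of functions on a stage. -/
noncomputable def resFun (j : ι) : (res Xs j).obj (funTotal hP Xs) ⟶ funSheaf hP (St Xs j) :=
  ObjectProperty.homMk
    { app := fun V => 𝟙 _
      naturality := fun V W g => (Category.comp_id _).trans (Category.id_comp _).symm }

theorem resFun_funRes (j : ι) : resFun hP (Xs := Xs) j ≫ funRes hP j = 𝟙 _ :=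
  ObjectProperty.hom_ext _ (NatTrans.ext (funext fun V => Category.id_comp _))

/-- Groups of functions on the limit, from the total site. -/
noncomputable def funLim : (toLim c).obj (funTotal hP Xs) ⟶ funSheaf hP c.pt :=
  fromLim c (funEta hP c)

theorem funRes_funLim (j : ι) :
    (EtCoh.pull (proj c j)).map (funRes hP j) ≫ toLimHom c (funTotal hP Xs) j ≫ funLim hP c =
      funPull hP (proj c j) := by
  refine hom_ext_adjSect (proj c j) fun V x => ?_
  refine (adjSect_pull_map _ _ _ V x).trans ((adjSect_comp _ _ _ V _).trans ?_)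
  refine (congrArg ((funLim hP c).hom.app _) (adjSect_toLimHom c _ j V _)).trans ?_
  exact (fromLim_theta c (funEta hP c) ⟨j, V⟩ _).trans (adjSect_funPull hP _ V x).symm

theorem funRes_transHom {j k : ι} (h : j ≤ k) :
    (EtCoh.pull (tr Xs h)).map (funRes hP j) ≫ transHom Xs (funTotal hP Xs) h ≫ resFun hP k =
      funPull hP (tr Xs h) := by
  refine hom_ext_adjSect (tr Xs h) fun V x => ?_
  refine (adjSect_pull_map _ _ _ V x).trans ((adjSect_comp _ _ _ V _).trans ?_)
  refine (congrArg ((resFun hP k).hom.app _) (adjSect_transHom _ h V _)).trans ?_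
  exact (adjSect_funPull hP _ V x).symm

variable {c} [IsDirected ι (· ≤ ·)] [Nonempty ι] (hc : IsLimit c)
  [haff : ∀ ⦃a b : ιᵒᵖ⦄ (h : a ⟶ b), IsAffineHom (Xs.map h)]

variable
  (hS : ∀ (k : ι) (T : (St Xs k).Etale) [IsAffine T.left] (x : (funSheaf hP c.pt).obj.obj (op ((phi c).obj ⟨k, T⟩))),
    ∃ (B : Obj Xs) (g : B ⟶ ⟨k, T⟩) (y : (funTotal hP Xs).obj.obj (op B)),
      IsIso ((phi c).map g) ∧ (funEta hP c).app (op B) y = (funSheaf hP c.pt).obj.map ((phi c).map g).op x)
  (hI : ∀ (k : ι) (T : (St Xs k).Etale) [IsAffine T.left] (y : (funTotal hP Xs).obj.obj (op (⟨k, T⟩ : Obj Xs))),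
    (funEta hP c).app (op (⟨k, T⟩ : Obj Xs)) y = 0 →
      ∃ (B : Obj Xs) (g : B ⟶ ⟨k, T⟩), IsIso ((phi c).map g) ∧ (funTotal hP Xs).obj.map g.op y = 0)

include hc haff hS hI in
theorem isIso_funLim : IsIso (funLim hP c) := by
  let M := funSheaf hP c.pt
  let E := funTotal hP Xs
  let d : pre c E ⟶ M.obj := (((phi c).op.lanAdjunction AddCommGrpCat.{u + 1}).homEquiv E.obj M.obj).symm (funEta hP c)
  have fac : sheafMap c E ≫ (funLim hP c).hom = d := toSheafify_sheafifyLift _ _ M.property
  have hd : ∀ (A : Obj Xs) (x : E.obj.obj (op A)),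
      d.app (op ((phi c).obj A)) ((preUnit c E).app (op A) x) = (funEta hP c).app (op A) x := fun A x => by
    rw [← fac]
    exact fromLim_theta c (funEta hP c) A x
  haveI : Presheaf.IsLocallySurjective c.pt.smallEtaleTopology d := by
    constructor
    intro W s
    refine HenselLib.Kummer.mem_of_points W _ fun z => ?_
    obtain ⟨k, T, σ, hT, w, hw⟩ := exists_phi_piece hc W z
    haveI := hT
    obtain ⟨B, g, y, hg, hy⟩ := hS k T (M.obj.map σ.op s)
    refine ⟨_, (phi c).map g ≫ σ, (inv ((phi c).map g)).left w, ⟨(preUnit c E).app (op B) y, ?_⟩, ?_⟩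
    · refine (hd B y).trans (hy.trans ?_)
      exact (ConcreteCategory.congr_hom (M.obj.map_comp σ.op ((phi c).map g).op) s).symm
    · refine Eq.trans ?_ hw
      exact congrArg (fun r : (phi c).obj ⟨k, T⟩ ⟶ W => r.left w)
        (IsIso.inv_hom_id_assoc ((phi c).map g) σ)
  haveI : Presheaf.IsLocallyInjective c.pt.smallEtaleTopology d := by
    refine ⟨fun {X} x₁ x₂ h => ?_⟩
    obtain ⟨W⟩ := X
    obtain ⟨hL⟩ := isPointwise_preUnit c E
    haveI := isCofiltered_phi c W
    obtain ⟨A, f, y, hy⟩ := LanAb.el_surjective (phi c) (preUnit c E) hL (x₁ - x₂)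
    have h0 : M.obj.map f.op ((funEta hP c).app (op A) y) = 0 := by
      have e := congrArg (d.app (op W)) hy
      rw [map_sub, h, sub_self] at e
      refine Eq.trans ?_ e
      exact (congrArg (M.obj.map f.op) (hd A y)).symm.trans (NatTrans.naturality_apply d f.op _).symm
    refine HenselLib.Kummer.mem_of_points W _ fun z => ?_
    obtain ⟨k, T, σ, hT, w, hw⟩ := exists_phi_piece hc W z
    haveI := hT
    obtain ⟨m, hkm, g, hg⟩ := exists_descend_hom hc T A (σ ≫ f)
    haveI : IsAffine (push' hkm T).V.left := by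
      haveI : IsAffine ((𝟭 Scheme.{u}).obj T.left) := hT
      haveI : IsAffineHom (pullback.fst T.hom (tr Xs hkm)) := MorphismProperty.pullback_fst _ _ (haff _)
      exact isAffine_of_isAffineHom (pullback.fst T.hom (tr Xs hkm))
    have e : ((phi c).map (down hkm T) ≫ σ) ≫ f = (phi c).map g := (Category.assoc _ _ _).trans hg.symm
    have h1 : (funEta hP c).app (op (push' hkm T)) (E.obj.map g.op y) = 0 := by
      refine (NatTrans.naturality_apply (funEta hP c) g.op y).trans ?_
      show M.obj.map ((phi c).map g).op _ = 0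
      rw [← e, op_comp, M.obj.map_comp]
      exact (congrArg (M.obj.map _) h0).trans (map_zero _)
    obtain ⟨B, g', hg', hy'⟩ := hI m (push' hkm T).V (E.obj.map g.op y) h1
    let q : (phi c).obj B ⟶ W := (phi c).map g' ≫ (phi c).map (down hkm T) ≫ σ
    refine ⟨_, q, (inv ((phi c).map g')).left ((phiToPush c (𝟙 _) hkm).left w), ?_, ?_⟩
    · show (pre c E).map q.op x₁ = (pre c E).map q.op x₂
      rw [← sub_eq_zero, ← map_sub, ← hy]
      refine (ConcreteCategory.congr_hom ((pre c E).map_comp f.op q.op) _).symm.trans ?_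
      have e' : q ≫ f = (phi c).map (g' ≫ g) := by
        rw [(phi c).map_comp, ← e]
        simp only [q, Category.assoc]
      refine (congrArg (fun r => (pre c E).map (Quiver.Hom.op r) ((preUnit c E).app (op A) y)) e').trans ?_
      refine (NatTrans.naturality_apply (preUnit c E) (g' ≫ g).op y).symm.trans ?_
      refine (congrArg ((preUnit c E).app _) (?_ : E.obj.map (g' ≫ g).op y = 0)).trans (map_zero _)
      rw [op_comp, E.obj.map_comp]
      exact hy'
    · refine Eq.trans ?_ hw
      have e1 : inv ((phi c).map g') ≫ q = (phi c).map (down hkm T) ≫ σ := IsIso.inv_hom_id_assoc ((phi c).map g') _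
      refine (congrArg (fun r : (phi c).obj (push' hkm T) ⟶ W => r.left ((phiToPush c (𝟙 _) hkm).left w)) e1).trans ?_
      exact congrArg (fun r : (phi c).obj ⟨k, T⟩ ⟶ W => r.left w)
        ((phiToPush_down_assoc c (𝟙 _) hkm σ).trans (Category.id_comp _))
  haveI : Presheaf.IsLocallySurjective c.pt.smallEtaleTopology (sheafMap c E) :=
    inferInstanceAs (Presheaf.IsLocallySurjective _ (toSheafify c.pt.smallEtaleTopology (pre c E)))
  refine (Sheaf.isLocallyBijective_iff_isIso (A := AddCommGrpCat.{u + 1}) (funLim hP c)).1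
    ⟨Presheaf.isLocallyInjective_of_isLocallyInjective_of_isLocallySurjective_fac _ d fac,
      Presheaf.isLocallySurjective_of_isLocallySurjective_fac _ fac⟩

variable [∀ a, PreservesFiniteLimits (EtCoh.pull (c.π.app a))]
  [hpl : ∀ ⦃a b : ιᵒᵖ⦄ (h : a ⟶ b), PreservesFiniteLimits (EtCoh.pull (Xs.map h))]
  [∀ a, CompactSpace ↥(Xs.obj a)] [∀ a, QuasiSeparatedSpace ↥(Xs.obj a)]

include hc hS hI in
/-- The limit theorem for a group of functions. -/
theorem fun_limit (n : ℕ) :
    (∀ ξ : Ext.{u + 1} (EtCoh.const c.pt ℤ) (funSheaf hP c.pt) n,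
      ∃ (j : ι) (x : Ext.{u + 1} (EtCoh.const (St Xs j) ℤ) (funSheaf hP (St Xs j)) n),
        hPull (proj c j) (funPull hP (proj c j)) n x = ξ) ∧
    (∀ (j : ι) (x : Ext.{u + 1} (EtCoh.const (St Xs j) ℤ) (funSheaf hP (St Xs j)) n),
      hPull (proj c j) (funPull hP (proj c j)) n x = 0 →
        ∃ (k : ι) (hk : j ≤ k),
          haveI : PreservesFiniteLimits (EtCoh.pull (tr Xs hk)) := hpl _
          hPull (tr Xs hk) (funPull hP (tr Xs hk)) n x = 0) := by
  haveI := isIso_funLim hP hc hS hI
  refine ⟨fun ξ => ?_, fun j x hx => ?_⟩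
  · obtain ⟨j, y, hy⟩ := (limit_theorem c hc n (funTotal hP Xs)).1
      (ξ.comp (Ext.mk₀ (inv (funLim hP c))) (add_zero n))
    refine ⟨j, y.comp (Ext.mk₀ (resFun hP j)) (add_zero n), ?_⟩
    have hm : (EtCoh.pull (proj c j)).map (resFun hP j) ≫ funPull hP (proj c j) =
        toLimHom c (funTotal hP Xs) j ≫ funLim hP c := by
      rw [← funRes_funLim hP c j, ← Category.assoc, ← Functor.map_comp, resFun_funRes, CategoryTheory.Functor.map_id,
        Category.id_comp]
    refine (extPull_comp _ _ _ _ _ _ hm n y).trans ?_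
    refine (congrArg (fun z => Ext.comp z (Ext.mk₀ (funLim hP c)) (add_zero n)) hy).trans ?_
    rw [Ext.comp_assoc_of_third_deg_zero, Ext.mk₀_comp_mk₀, IsIso.inv_hom_id, Ext.comp_mk₀_id]
  · have hy : toH c (funTotal hP Xs) j n (x.comp (Ext.mk₀ (funRes hP j)) (add_zero n)) = 0 := by
      refine (extPull_comp _ _ _ _ _ _ (?_ : (EtCoh.pull (proj c j)).map (funRes hP j) ≫ toLimHom c (funTotal hP Xs) j =
        funPull hP (proj c j) ≫ inv (funLim hP c)) n x).trans ?_
      · rw [IsIso.eq_comp_inv, Category.assoc]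
        exact funRes_funLim hP c j
      · exact (congrArg (fun z => Ext.comp z (Ext.mk₀ (inv (funLim hP c))) (add_zero n)) hx).trans
          (by rw [Ext.zero_comp])
    obtain ⟨k, hk, h0⟩ := (limit_theorem c hc n (funTotal hP Xs)).2 j _ hy
    refine ⟨k, hk, ?_⟩
    haveI : PreservesFiniteLimits (EtCoh.pull (tr Xs hk)) := hpl _
    have hm : (EtCoh.pull (tr Xs hk)).map (funRes hP j) ≫ transHom Xs (funTotal hP Xs) hk ≫ resFun hP k =
        funPull hP (tr Xs hk) ≫ 𝟙 _ :=
      (funRes_transHom hP hk).trans (Category.comp_id _).symm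
    have e2 := extPull_comp (EtCoh.pull (tr Xs hk)) (EtCore.pullConst (tr Xs hk) ℤ).inv _
      (transHom Xs (funTotal hP Xs) hk ≫ resFun hP k) (funRes hP j) (𝟙 _) hm n x
    rw [Ext.comp_mk₀_id] at e2
    refine e2.symm.trans ?_
    refine (extPull_apply _ _ _ n _).trans ?_
    rw [← Ext.mk₀_comp_mk₀, ← Ext.comp_assoc_of_third_deg_zero]
    exact (congrArg (fun z => Ext.comp z (Ext.mk₀ (resFun hP k)) (add_zero n)) h0).trans (by rw [Ext.zero_comp])

end Groth.Agent.EtLimit
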