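import Groth.Prelude.Def_EtBase
import Groth.Agent.EtCechLib.Etale
import Mathlib.CategoryTheory.Sites.CoverLifting
import Mathlib.CategoryTheory.Sites.Pullback
import Mathlib.Algebra.Category.Grp.AB

/-!
# The total étale site of an inverse system of schemes
-/

set_option autoImplicit false
set_option linter.all false
set_option backward.isDefEq.respectTransparency.types false
set_option backward.isDefEq.respectTransparency false
set_option synthInstance.maxHeartbeats 400000

universe u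

open CategoryTheory Limits AlgebraicGeometry Opposite

namespace Groth.Agent.EtLimit

variable {ι : Type u} [Preorder ι] (Xs : ιᵒᵖ ⥤ Scheme.{u})

/-- The stage of index `j`. -/
abbrev St (j : ι) : Scheme.{u} := Xs.obj (op j)

/-- The transition morphism. -/
abbrev tr {j k : ι} (h : j ≤ k) : St Xs k ⟶ St Xs j := Xs.map (homOfLE h).op

theorem tr_refl (j : ι) (h : j ≤ j) : tr Xs h = 𝟙 _ := by
  rw [tr, show (homOfLE h).op = 𝟙 (op j) from rfl, Xs.map_id]

theorem comp_tr_refl {Z : Scheme.{u}} {j : ι} (m : Z ⟶ St Xs j) (h : j ≤ j) : m ≫ tr Xs h = m := by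
  rw [tr_refl, Category.comp_id]

theorem tr_comp {i j k : ι} (hij : i ≤ j) (hjk : j ≤ k) : tr Xs hjk ≫ tr Xs hij = tr Xs (hij.trans hjk) := by
  rw [tr, tr, tr, ← Xs.map_comp]
  rfl

/-- An étale scheme over one of the stages. -/
structure Obj where
  idx : ι
  V : (St Xs idx).Etale

variable {Xs}

/-- A morphism over a transition map. -/
@[ext]
structure Hom (A B : Obj Xs) where
  le : B.idx ≤ A.idx
  hom : A.V.left ⟶ B.V.left
  w : hom ≫ B.V.hom = A.V.hom ≫ tr Xs le

instance : Category.{u} (Obj Xs) where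
  Hom := Hom
  id A := ⟨le_rfl, 𝟙 _, (Category.id_comp _).trans (comp_tr_refl Xs _ _).symm⟩
  comp {A B C} f g := ⟨g.le.trans f.le, f.hom ≫ g.hom, by
    exact (Category.assoc _ _ _).trans ((congrArg (f.hom ≫ ·) g.w).trans
      ((Category.assoc _ _ _).symm.trans ((congrArg (· ≫ tr Xs g.le) f.w).trans
        ((Category.assoc _ _ _).trans (congrArg (A.V.hom ≫ ·) (tr_comp Xs g.le f.le))))))⟩
  id_comp f := Hom.ext (Category.id_comp _)
  comp_id f := Hom.ext (Category.comp_id _)
  assoc f g h := Hom.ext (Category.assoc _ _ _)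

@[ext]
theorem hom_ext {A B : Obj Xs} {f g : A ⟶ B} (h : f.hom = g.hom) : f = g := Hom.ext h

@[simp] theorem comp_hom {A B C : Obj Xs} (f : A ⟶ B) (g : B ⟶ C) : (f ≫ g).hom = f.hom ≫ g.hom := rfl
@[simp] theorem id_hom (A : Obj Xs) : (𝟙 A : A ⟶ A).hom = 𝟙 _ := rfl

/-- Covering by points in the same fibre. -/
def CoversAt {A : Obj Xs} (S : Sieve A) : Prop :=
  ∀ x : A.V.left, ∃ (W : (St Xs A.idx).Etale) (f : (⟨A.idx, W⟩ : Obj Xs) ⟶ A), S f ∧ x ∈ Set.range f.hom

theorem etale_hom {A : Obj Xs} {W : (St Xs A.idx).Etale} (f : (⟨A.idx, W⟩ : Obj Xs) ⟶ A) :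
    f.hom ≫ A.V.hom = W.hom :=
  f.w.trans (comp_tr_refl Xs _ _)

theorem etale_of_hom {A : Obj Xs} {W : (St Xs A.idx).Etale} (f : (⟨A.idx, W⟩ : Obj Xs) ⟶ A) : Etale f.hom := by
  haveI : Etale W.hom := W.prop
  haveI : Etale A.V.hom := A.V.prop
  haveI : Etale (f.hom ≫ A.V.hom) := by rw [etale_hom f]; exact W.prop
  exact Etale.of_comp f.hom A.V.hom

/-- The topology of the total site. -/
def topology (Xs : ιᵒᵖ ⥤ Scheme.{u}) : GrothendieckTopology (Obj Xs) where
  sieves A := {S | CoversAt S}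
  top_mem' A x := ⟨A.V, 𝟙 A, trivial, x, rfl⟩
  pullback_stable' A B S g hS x := by
    obtain ⟨V', f, hf, v, hv⟩ := hS (g.hom x)
    haveI : Etale f.hom := etale_of_hom f
    haveI : Etale B.V.hom := B.V.prop
    haveI : Etale (pullback.fst g.hom f.hom) := inferInstance
    let W' : (St Xs B.idx).Etale := Scheme.Etale.mk (pullback.fst g.hom f.hom ≫ B.V.hom)
    let p : (⟨B.idx, W'⟩ : Obj Xs) ⟶ B := ⟨le_rfl, pullback.fst g.hom f.hom,
      (comp_tr_refl Xs _ _).symm⟩
    let q : (⟨B.idx, W'⟩ : Obj Xs) ⟶ ⟨A.idx, V'⟩ := ⟨(show Hom B A from g).le, pullback.snd g.hom f.hom, by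
      rw [← etale_hom f, ← Category.assoc, ← pullback.condition, Category.assoc, g.w]
      exact (Category.assoc _ _ _).symm⟩
    have e : p ≫ g = q ≫ f := hom_ext pullback.condition
    obtain ⟨z, hz, -⟩ := Scheme.Pullback.exists_preimage_pullback (f := g.hom) (g := f.hom) x v hv.symm
    exact ⟨W', p, show S (p ≫ g) from e ▸ S.downward_closed hf q, z, hz⟩
  transitive' A S hS R hR x := by
    obtain ⟨W, f, hf, w, rfl⟩ := hS x
    obtain ⟨V, g, hg, v, hv⟩ := hR hf w
    exact ⟨V, g ≫ f, hg, v, by rw [comp_hom, Scheme.Hom.comp_apply, hv]⟩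

theorem mem_topology {A : Obj Xs} (S : Sieve A) : S ∈ topology Xs A ↔ CoversAt S := Iff.rfl

variable (Xs)

/-- The inclusion of a fibre. -/
def incl (j : ι) : (St Xs j).Etale ⥤ Obj Xs where
  obj V := ⟨j, V⟩
  map f := ⟨le_rfl, f.left, (CategoryTheory.Over.w f.hom).trans (comp_tr_refl Xs _ _).symm⟩
  map_id _ := rfl
  map_comp _ _ := rfl

theorem coverPreserving_incl (j : ι) : CoverPreserving (St Xs j).smallEtaleTopology (topology Xs) (incl Xs j) :=
  ⟨fun {V S} hS x => by
    obtain ⟨Z, f, hf, z, hz⟩ := EtCechLib.exists_mem_of_mem hS x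
    exact ⟨Z, (incl Xs j).map f, Sieve.image_mem_functorPushforward _ _ hf, z, hz⟩⟩

theorem compatiblePreserving_incl (j : ι) : CompatiblePreserving (topology Xs) (incl Xs j) := by
  constructor
  intro ℱ Z T x hx Y₁ Y₂ A f₁ f₂ g₁ g₂ hg₁ hg₂ eq
  have e₁ : g₁.left ≫ Z.hom = Y₁.hom := CategoryTheory.Over.w g₁.hom
  have e₂ : g₂.left ≫ Z.hom = Y₂.hom := CategoryTheory.Over.w g₂.hom
  haveI : Etale Y₁.hom := Y₁.prop
  haveI : Etale Y₂.hom := Y₂.prop
  haveI : Etale Z.hom := Z.prop
  haveI : Etale (g₂.left ≫ Z.hom) := by rw [e₂]; infer_instance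
  haveI : Etale g₂.left := Etale.of_comp g₂.left Z.hom
  let P : (St Xs j).Etale := Scheme.Etale.mk (pullback.fst g₁.left g₂.left ≫ Y₁.hom)
  let p₁ : P ⟶ Y₁ := MorphismProperty.Over.homMk (pullback.fst g₁.left g₂.left) rfl trivial
  let p₂ : P ⟶ Y₂ := MorphismProperty.Over.homMk (pullback.snd g₁.left g₂.left) (by
    rw [← e₂, ← Category.assoc, ← pullback.condition, Category.assoc, e₁]; rfl) trivial
  let h : A ⟶ (incl Xs j).obj P := ⟨(show Hom A ((incl Xs j).obj Y₁) from f₁).le, pullback.lift f₁.hom f₂.hom (congrArg Hom.hom eq), by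
    show _ ≫ pullback.fst g₁.left g₂.left ≫ Y₁.hom = _
    rw [pullback.lift_fst_assoc]
    exact f₁.w⟩
  have h₁ : h ≫ (incl Xs j).map p₁ = f₁ := hom_ext (pullback.lift_fst _ _ _)
  have h₂ : h ≫ (incl Xs j).map p₂ = f₂ := hom_ext (pullback.lift_snd _ _ _)
  have hp : p₁ ≫ g₁ = p₂ ≫ g₂ :=
    (Scheme.Etale.forget (St Xs j) ⋙ CategoryTheory.Over.forget _).map_injective pullback.condition
  rw [← h₁, ← h₂, op_comp, op_comp, Functor.map_comp_apply, Functor.map_comp_apply]
  exact congrArg _ (hx p₁ p₂ hg₁ hg₂ hp)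

instance isContinuous_incl (j : ι) : (incl Xs j).IsContinuous (St Xs j).smallEtaleTopology (topology Xs) :=
  Functor.isContinuous_of_coverPreserving (compatiblePreserving_incl Xs j) (coverPreserving_incl Xs j)

instance isCocontinuous_incl (j : ι) : (incl Xs j).IsCocontinuous (St Xs j).smallEtaleTopology (topology Xs) :=
  ⟨fun {V S} hS => HenselLib.Kummer.mem_of_points V _ fun x => by
    obtain ⟨W, f, hf, w, hw⟩ := hS x
    let g : W ⟶ V := MorphismProperty.Over.homMk f.hom (etale_hom f) trivial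
    exact ⟨W, g, w, hf, hw⟩⟩

/-- Abelian sheaves on the total site. -/
abbrev Ab := Sheaf (topology Xs) AddCommGrpCat.{u + 1}

instance : IsGrothendieckAbelian.{u + 1} (Ab Xs) := by
  have : EssentiallySmall.{u + 1} (Obj Xs) := inferInstance
  exact Sheaf.isGrothendieckAbelian_of_essentiallySmall _ _

/-- Restriction to a stage. -/
noncomputable abbrev res (j : ι) : Ab Xs ⥤ EtCoh.Ab (St Xs j) :=
  (incl Xs j).sheafPushforwardContinuous AddCommGrpCat.{u + 1} (St Xs j).smallEtaleTopology (topology Xs)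

instance additive_res (j : ι) : (res Xs j).Additive where

instance preservesFiniteColimits_res (j : ι) : PreservesFiniteColimits (res Xs j) := by
  haveI := ((incl Xs j).sheafAdjunctionCocontinuous AddCommGrpCat.{u + 1} (St Xs j).smallEtaleTopology
    (topology Xs)).leftAdjoint_preservesColimits
  infer_instance

instance preservesFiniteLimits_res (j : ι) : PreservesFiniteLimits (res Xs j) := by
  haveI : PreservesLimitsOfSize.{0, 0} (res Xs j) := ((incl Xs j).sheafAdjunctionContinuous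
    AddCommGrpCat.{u + 1} (St Xs j).smallEtaleTopology (topology Xs)).rightAdjoint_preservesLimits
  exact PreservesLimitsOfSize.preservesFiniteLimits (res Xs j)

end Groth.Agent.EtLimit
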