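import Groth.Agent.EtLimit.PullSect

/-!
# Coherence of composite inverse images
-/

set_option autoImplicit false
set_option linter.all false
set_option backward.isDefEq.respectTransparency.types false
set_option backward.isDefEq.respectTransparency false
set_option backward.defeqAttrib.useBackward true
set_option synthInstance.maxHeartbeats 400000
set_option maxHeartbeats 1000000

universe u

open CategoryTheory Limits AlgebraicGeometry Opposite

namespace Groth.Agent.EtLimit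

variable {X Y Z S : Scheme.{u}}

/-- The canonical identification of an iterated inverse image. -/
noncomputable def via (f : X ⟶ Y) (t : Y ⟶ S) (f₀ : X ⟶ S) (w : f ≫ t = f₀) (G : EtCoh.Ab S) :
    (EtCoh.pull f).obj ((EtCoh.pull t).obj G) ⟶ (EtCoh.pull f₀).obj G :=
  (((EtCore.pullComp f t).symm ≪≫ EtCore.pullCongr w).app G).hom

/-- The splitting of a composite inverse image. -/
noncomputable def split (f : X ⟶ Y) (t : Y ⟶ S) (f₀ : X ⟶ S) (w : f ≫ t = f₀) (G : EtCoh.Ab S) :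
    (EtCoh.pull f₀).obj G ⟶ (EtCoh.pull f).obj ((EtCoh.pull t).obj G) :=
  (EtCore.pullCongr w.symm ≪≫ EtCore.pullComp f t).hom.app G

theorem split_via (f : X ⟶ Y) (t : Y ⟶ S) (f₀ : X ⟶ S) (w : f ≫ t = f₀) (G : EtCoh.Ab S) :
    split f t f₀ w G ≫ via f t f₀ w G = 𝟙 _ := by
  subst w
  simp [via, split, EtCore.pullCongr]

theorem via_split (f : X ⟶ Y) (t : Y ⟶ S) (f₀ : X ⟶ S) (w : f ≫ t = f₀) (G : EtCoh.Ab S) :
    via f t f₀ w G ≫ split f t f₀ w G = 𝟙 _ := by
  subst w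
  simp [via, split, EtCore.pullCongr]

/-- The unit on sections. -/
noncomputable abbrev unitSect (t : Y ⟶ S) (G : EtCoh.Ab S) (V : S.Etale) :
    G.obj.obj (op V) ⟶ ((EtCoh.pull t).obj G).obj.obj (op ((EtCoh.bc t).obj V)) :=
  adjSect t (𝟙 ((EtCoh.pull t).obj G)) V

theorem adjSect_split (f : X ⟶ Y) (t : Y ⟶ S) (f₀ : X ⟶ S) (w : f ≫ t = f₀) {G : EtCoh.Ab S} {M : EtCoh.Ab X}
    (b : (EtCoh.pull f).obj ((EtCoh.pull t).obj G) ⟶ M) (V : S.Etale) (x : G.obj.obj (op V)) :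
    adjSect f₀ (split f t f₀ w G ≫ b) V x =
      M.obj.map (bcSplit w.symm V).op (adjSect f b ((EtCoh.bc t).obj V) (unitSect t G V x)) := by
  exact (congrArg (fun m => adjSect f₀ m V x) (congrArg (fun q => split f t f₀ w G ≫ q)
    ((congrArg (· ≫ b) ((EtCoh.pull f).map_id ((EtCoh.pull t).obj G))).trans (Category.id_comp b))).symm).trans
    (adjSect_pullComp w.symm (𝟙 ((EtCoh.pull t).obj G)) b V x)

theorem bcSplit_fst_fst {f : X ⟶ Y} {g : Y ⟶ Z} {h : X ⟶ Z} (e : h = f ≫ g) (V : Z.Etale) :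
    (bcSplit e V).left ≫ pullback.fst ((EtCoh.bc g).obj V).hom f ≫ pullback.fst V.hom g = pullback.fst V.hom h :=
  ((Category.assoc _ _ _).symm.trans (congrArg (· ≫ _) (pullback.lift_fst _ _ _))).trans (pullback.lift_fst _ _ _)

theorem bcSplit_fst_snd {f : X ⟶ Y} {g : Y ⟶ Z} {h : X ⟶ Z} (e : h = f ≫ g) (V : Z.Etale) :
    (bcSplit e V).left ≫ pullback.fst ((EtCoh.bc g).obj V).hom f ≫ pullback.snd V.hom g =
      pullback.snd V.hom h ≫ f :=
  ((Category.assoc _ _ _).symm.trans (congrArg (· ≫ _) (pullback.lift_fst _ _ _))).trans (pullback.lift_snd _ _ _)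

theorem bcSplit_snd {f : X ⟶ Y} {g : Y ⟶ Z} {h : X ⟶ Z} (e : h = f ≫ g) (V : Z.Etale) :
    (bcSplit e V).left ≫ pullback.snd ((EtCoh.bc g).obj V).hom f = pullback.snd V.hom h :=
  pullback.lift_snd _ _ _

theorem bcMap_fst (f : X ⟶ Y) {V W : Y.Etale} (q : V ⟶ W) :
    ((EtCoh.bc f).map q).left ≫ pullback.fst W.hom f = pullback.fst V.hom f ≫ q.left :=
  pullback.lift_fst _ _ _

theorem bcMap_snd (f : X ⟶ Y) {V W : Y.Etale} (q : V ⟶ W) :
    ((EtCoh.bc f).map q).left ≫ pullback.snd W.hom f = pullback.snd V.hom f :=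
  pullback.lift_snd _ _ _

theorem bcSplit_assoc {f : X ⟶ Y} {g : Y ⟶ Z} {t : Z ⟶ S} {h : X ⟶ Z} {t₁ : Y ⟶ S} {h₀ : X ⟶ S}
    (eh : h = f ≫ g) (et : t₁ = g ≫ t) (e₁ : h₀ = h ≫ t) (e₂ : h₀ = f ≫ t₁) (V : S.Etale) :
    bcSplit e₁ V ≫ bcSplit eh ((EtCoh.bc t).obj V) = bcSplit e₂ V ≫ (EtCoh.bc f).map (bcSplit et V) := by
  refine (Scheme.Etale.forget X ⋙ CategoryTheory.Over.forget X).map_injective ?_
  show (bcSplit e₁ V).left ≫ (bcSplit eh _).left = (bcSplit e₂ V).left ≫ ((EtCoh.bc f).map (bcSplit et V)).left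
  have a1 := bcSplit_fst_fst eh ((EtCoh.bc t).obj V)
  have a2 := bcSplit_fst_snd eh ((EtCoh.bc t).obj V)
  have a3 := bcSplit_snd eh ((EtCoh.bc t).obj V)
  have a4 := bcSplit_fst_fst e₁ V
  have a5 := bcSplit_fst_snd e₁ V
  have a6 := bcSplit_snd e₁ V
  have b1 := bcSplit_fst_fst et V
  have b2 := bcSplit_fst_snd et V
  have b3 := bcSplit_snd et V
  have b4 := bcSplit_fst_fst e₂ V
  have b5 := bcSplit_fst_snd e₂ V
  have b6 := bcSplit_snd e₂ V
  have b7 := bcMap_fst f (bcSplit et V)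
  have b8 := bcMap_snd f (bcSplit et V)
  generalize (bcSplit e₁ V).left = u₁ at *
  generalize (bcSplit eh ((EtCoh.bc t).obj V)).left = u₂ at *
  generalize (bcSplit e₂ V).left = v₁ at *
  generalize ((EtCoh.bc f).map (bcSplit et V)).left = v₂ at *
  generalize (bcSplit et V).left = w at *
  apply pullback.hom_ext
  · apply pullback.hom_ext
    · apply pullback.hom_ext
      · simp only [Category.assoc]
        rw [reassoc_of% b7, b1, b4, reassoc_of% a1, a4]
      · simp only [Category.assoc]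
        rw [reassoc_of% b7, b2, reassoc_of% b5, reassoc_of% a1, a5, eh]
    · simp only [Category.assoc]
      rw [reassoc_of% b7, b3, b5, a2, reassoc_of% a6]
  · simp only [Category.assoc]
    rw [b8, b6, a3, a6]

/-- Associativity of the identifications. -/
theorem via_comp {f : X ⟶ Y} {g : Y ⟶ Z} {t : Z ⟶ S} {h : X ⟶ Z} {t₁ : Y ⟶ S} {h₀ : X ⟶ S}
    (eh : h = f ≫ g) (wg : g ≫ t = t₁) (wh : h ≫ t = h₀) (wf : f ≫ t₁ = h₀) (G : EtCoh.Ab S) :
    (EtCore.pullCongr eh ≪≫ EtCore.pullComp f g).hom.app ((EtCoh.pull t).obj G) ≫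
      (EtCoh.pull f).map (via g t t₁ wg G) ≫ via f t₁ h₀ wf G = via h t h₀ wh G := by
  haveI : Epi (split h t h₀ wh G) :=
    (IsSplitEpi.mk' ⟨via h t h₀ wh G, via_split h t h₀ wh G⟩).epi
  rw [← cancel_epi (split h t h₀ wh G), split_via]
  refine ((EtCoh.pullPushAdj h₀).homEquiv G _).injective (ObjectProperty.hom_ext _ (NatTrans.ext
    (funext fun V => ConcreteCategory.hom_ext _ _ fun x => ?_)))
  obtain ⟨V⟩ := V
  show adjSect h₀ _ V x = adjSect h₀ (𝟙 _) V x
  let M := ((EtCoh.pull h₀).obj G).obj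
  let y₁ := adjSect g (via g t t₁ wg G) ((EtCoh.bc t).obj V) (unitSect t G V x)
  let z := adjSect f (via f t₁ h₀ wf G) ((EtCoh.bc g).obj ((EtCoh.bc t).obj V)) y₁
  have h1 : ((EtCoh.pull t₁).obj G).obj.map (bcSplit wg.symm V).op y₁ = unitSect t₁ G V x :=
    (adjSect_split g t t₁ wg (via g t t₁ wg G) V x).symm.trans
      (congrArg (fun m => adjSect t₁ m V x) (split_via g t t₁ wg G))
  have h2 : M.map ((EtCoh.bc f).map (bcSplit wg.symm V)).op z =
      adjSect f (via f t₁ h₀ wf G) ((EtCoh.bc t₁).obj V) (unitSect t₁ G V x) :=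
    (NatTrans.naturality_apply ((EtCoh.pullPushAdj f).homEquiv _ _ (via f t₁ h₀ wf G)).hom
      (bcSplit wg.symm V).op y₁).symm.trans (congrArg (adjSect f (via f t₁ h₀ wf G) ((EtCoh.bc t₁).obj V)) h1)
  have h3 : M.map (bcSplit wf.symm V).op (M.map ((EtCoh.bc f).map (bcSplit wg.symm V)).op z) =
      adjSect h₀ (𝟙 _) V x :=
    (congrArg (M.map (bcSplit wf.symm V).op) h2).trans ((adjSect_split f t₁ h₀ wf (via f t₁ h₀ wf G) V x).symm.trans
      (congrArg (fun m => adjSect h₀ m V x) (split_via f t₁ h₀ wf G)))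
  refine (adjSect_split h t h₀ wh _ V x).trans ?_
  refine (congrArg (M.map (bcSplit wh.symm V).op)
    (adjSect_pullComp eh (via g t t₁ wg G) (via f t₁ h₀ wf G) ((EtCoh.bc t).obj V) (unitSect t G V x))).trans ?_
  refine Eq.trans ?_ h3
  refine (ConcreteCategory.congr_hom (M.map_comp (bcSplit eh ((EtCoh.bc t).obj V)).op (bcSplit wh.symm V).op) z).symm.trans ?_
  refine Eq.trans ?_ (ConcreteCategory.congr_hom
    (M.map_comp ((EtCoh.bc f).map (bcSplit wg.symm V)).op (bcSplit wf.symm V).op) z)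
  exact congrArg (fun m => M.map (Quiver.Hom.op m) z) (bcSplit_assoc eh wg.symm wh.symm wf.symm V)

end Groth.Agent.EtLimit
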