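import Groth.Agent.EtLimit.Bridge
import Groth.Agent.EtLimit.Via
import Mathlib.CategoryTheory.Filtered.Final

/-!
# Systems pulled back from one stage
-/

set_option autoImplicit false
set_option linter.all false
set_option backward.isDefEq.respectTransparency.types false
set_option backward.isDefEq.respectTransparency false
set_option backward.defeqAttrib.useBackward true
set_option synthInstance.maxHeartbeats 400000
set_option maxHeartbeats 1000000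

universe u

open CategoryTheory Limits AlgebraicGeometry Opposite CategoryTheory.Abelian

namespace Groth.Agent.EtLimit

section Abstract

universe v₁ u₁ v₂ u₂ w₁ w₂

variable {A : Type u₁} [Category.{v₁} A] [Abelian A] [HasExt.{w₁} A]
  {B : Type u₂} [Category.{v₂} B] [Abelian B] [HasExt.{w₂} B]
  (L : A ⥤ B) [L.Additive] [PreservesFiniteLimits L] [PreservesFiniteColimits L]
  {Z : A} {Z' : B} (e : Z' ⟶ L.obj Z)

theorem extPull_postcompose {F : A} {M M' : B} (α : L.obj F ⟶ M) (g : M ⟶ M') (n : ℕ) (x : Ext.{w₁} Z F n) :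
    extPull.{_, _, _, _, w₁, w₂} L e (α ≫ g) n x = (extPull L e α n x).comp (Ext.mk₀ g) (add_zero n) := by
  rw [extPull_apply, extPull_apply, ← Ext.mk₀_comp_mk₀, ← Ext.comp_assoc_of_third_deg_zero]

theorem extPull_id {F : A} (n : ℕ) (x : Ext.{w₁} Z F n) :
    (AddMonoidHom.comp (AddMonoidHom.mk' (fun z : Ext.{w₂} (L.obj Z) (L.obj F) n =>
      (Ext.mk₀ e).comp z (zero_add n)) (fun _ _ => Ext.comp_add _ _ _ _)) (L.mapExtAddHom Z F n)) x =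
      extPull.{_, _, _, _, w₁, w₂} L e (𝟙 (L.obj F)) n x := by
  rw [extPull_apply, Ext.comp_mk₀_id]
  rfl

theorem postcomp_eq_zero {F : A} {M M' : B} (α : L.obj F ⟶ M) (g : M ⟶ M') (β : L.obj F ⟶ M') (h : α ≫ g = β) (n : ℕ)
    (x : Ext.{w₁} Z F n) (hx : extPull.{_, _, _, _, w₁, w₂} L e α n x = 0) : extPull.{_, _, _, _, w₁, w₂} L e β n x = 0 := by
  rw [← h, extPull_postcompose, hx, Ext.zero_comp]

omit [L.Additive] [PreservesFiniteLimits L] [PreservesFiniteColimits L] in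
theorem cast_cancel {P P' : A} (h : P = P') {M : B} (α : L.obj P' ⟶ M) :
    L.map (eqToHom h.symm) ≫ L.map (eqToHom h) ≫ α = α := by
  subst h
  simp

omit [L.Additive] [PreservesFiniteLimits L] [PreservesFiniteColimits L] in
theorem cast_cancel_split {P P' : A} (h : P = P') {M M' N : B} (hM : M = M') (α : L.obj P' ⟶ M') (β : M' ⟶ N)
    (γ : L.obj P' ⟶ N) (hγ : α ≫ β = γ) :
    (L.map (eqToHom h.symm) ≫ L.map (eqToHom h) ≫ α ≫ eqToHom hM.symm) ≫ eqToHom hM ≫ β = γ := by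
  subst h hM
  simp [hγ]

theorem postcomp_eq {F : A} {M C : B} (α : L.obj F ⟶ M) (a : M ⟶ C) (d : C ⟶ M) (h : a ≫ d = 𝟙 M) (a' : M ⟶ C)
    (h' : a' ≫ d = 𝟙 M) (n : ℕ) (x : Ext.{w₁} Z F n) (ξ : Ext.{w₂} Z' M n)
    (hx : extPull.{_, _, _, _, w₁, w₂} L e (α ≫ a) n x = ξ.comp (Ext.mk₀ a') (add_zero n)) :
    extPull.{_, _, _, _, w₁, w₂} L e α n x = ξ := by
  have := extPull_postcompose.{_, _, _, _, w₁, w₂} L e (α ≫ a) d n x
  rw [hx, Category.assoc, h, Category.comp_id, Ext.comp_assoc_of_third_deg_zero, Ext.mk₀_comp_mk₀, h',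
    Ext.comp_mk₀_id] at this
  exact this

end Abstract

section General

variable {κ : Type u} [Preorder κ] {Ys : κᵒᵖ ⥤ Scheme.{u}} (c : Cone Ys) {S : Scheme.{u}}
  (q : ∀ i : κ, Ys.obj (op i) ⟶ S) (hq : ∀ ⦃i j : κ⦄ (h : i ≤ j), Ys.map (homOfLE h).op ≫ q i = q j)
  (q₀ : c.pt ⟶ S) (hq₀ : ∀ i, c.π.app (op i) ≫ q i = q₀) (F₀ : EtCoh.Ab S)

theorem map_trans {i j k : κ} (hij : i ≤ j) (hjk : j ≤ k) :
    Ys.map (homOfLE hjk).op ≫ Ys.map (homOfLE hij).op = Ys.map (homOfLE (hij.trans hjk)).op := by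
  rw [← Functor.map_comp]; rfl

theorem pullTrans_eq ⦃i j k : κ⦄ (hij : i ≤ j) (hjk : j ≤ k) :
    EtLim.pullTrans Ys hij hjk = EtCore.pullCongr (map_trans hij hjk).symm ≪≫
      EtCore.pullComp (Ys.map (homOfLE hjk).op) (Ys.map (homOfLE hij).op) :=
  rfl

theorem pullTransCone_eq ⦃i j : κ⦄ (hij : i ≤ j) :
    EtLim.pullTransCone Ys c hij = EtCore.pullCongr (c.w (homOfLE hij).op).symm ≪≫
      EtCore.pullComp (c.π.app (op j)) (Ys.map (homOfLE hij).op) :=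
  rfl

theorem via_comp' {X Y Z : Scheme.{u}} {f : X ⟶ Y} {g : Y ⟶ Z} {t : Z ⟶ S} {h : X ⟶ Z} {t₁ : Y ⟶ S} {h₀ : X ⟶ S}
    (eh : h = f ≫ g) (E : EtCoh.pull h ≅ EtCoh.pull g ⋙ EtCoh.pull f)
    (hE : E = EtCore.pullCongr eh ≪≫ EtCore.pullComp f g)
    (wg : g ≫ t = t₁) (wh : h ≫ t = h₀) (wf : f ≫ t₁ = h₀) (G : EtCoh.Ab S) :
    via h t h₀ wh G = E.hom.app ((EtCoh.pull t).obj G) ≫ (EtCoh.pull f).map (via g t t₁ wg G) ≫ via f t₁ h₀ wf G := by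
  subst hE
  exact (via_comp eh wg wh wf G).symm

theorem via_comp_cast {X Y Z : Scheme.{u}} {f : X ⟶ Y} {g : Y ⟶ Z} {t : Z ⟶ S} {h : X ⟶ Z} {t₁ : Y ⟶ S} {h₀ : X ⟶ S}
    (eh : h = f ≫ g) (E : EtCoh.pull h ≅ EtCoh.pull g ⋙ EtCoh.pull f)
    (hE : E = EtCore.pullCongr eh ≪≫ EtCore.pullComp f g)
    (wg : g ≫ t = t₁) (wh : h ≫ t = h₀) (wf : f ≫ t₁ = h₀) (G : EtCoh.Ab S)
    {P : EtCoh.Ab Z} {Q : EtCoh.Ab Y} {R : EtCoh.Ab X} (hP : P = (EtCoh.pull t).obj G)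
    (hQ : Q = (EtCoh.pull t₁).obj G) (hR : (EtCoh.pull h₀).obj G = R) :
    (EtCoh.pull h).map (eqToHom hP) ≫ via h t h₀ wh G ≫ eqToHom hR =
      E.hom.app P ≫ (EtCoh.pull f).map ((EtCoh.pull g).map (eqToHom hP) ≫ via g t t₁ wg G ≫ eqToHom hQ.symm) ≫
        (EtCoh.pull f).map (eqToHom hQ) ≫ via f t₁ h₀ wf G ≫ eqToHom hR := by
  subst hP hQ hR
  simp only [eqToHom_refl, CategoryTheory.Functor.map_id, Category.id_comp, Category.comp_id]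
  exact via_comp' eh E hE wg wh wf G

/-- The sheaf at a stage. -/
noncomputable def stageObj (i : κ) : EtCoh.Ab (Ys.obj (op i)) := (EtCoh.pull (q i)).obj F₀

theorem stageObj_def (i : κ) : stageObj q F₀ i = (EtCoh.pull (q i)).obj F₀ := rfl

variable {F : ∀ i : κ, EtCoh.Ab (Ys.obj (op i))} (hF : ∀ i, F i = (EtCoh.pull (q i)).obj F₀)

/-- The transition maps. -/
noncomputable def stagePhi ⦃i j : κ⦄ (h : i ≤ j) :
    (EtCoh.pull (Ys.map (homOfLE h).op)).obj (F i) ⟶ F j :=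
  (EtCoh.pull (Ys.map (homOfLE h).op)).map (eqToHom (hF i)) ≫
    via (Ys.map (homOfLE h).op) (q i) (q j) (hq h) F₀ ≫ eqToHom (hF j).symm

theorem stagePhi_comp ⦃i j k : κ⦄ (hij : i ≤ j) (hjk : j ≤ k) :
    stagePhi q hq F₀ hF (hij.trans hjk) = (EtLim.pullTrans Ys hij hjk).hom.app (F i) ≫
      (EtCoh.pull (Ys.map (homOfLE hjk).op)).map (stagePhi q hq F₀ hF hij) ≫ stagePhi q hq F₀ hF hjk :=
  via_comp_cast (map_trans hij hjk).symm (EtLim.pullTrans Ys hij hjk) (pullTrans_eq hij hjk) (hq hij)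
    (hq (hij.trans hjk)) (hq hjk) F₀ (hF i) (hF j) (hF k).symm

/-- The comparison with the sheaf on the limit. -/
noncomputable def stagePsi (i : κ) :
    (EtCoh.pull (c.π.app (op i))).obj (F i) ≅ (EtCoh.pull q₀).obj F₀ :=
  (EtCoh.pull (c.π.app (op i))).mapIso (eqToIso (hF i)) ≪≫
    ⟨via (c.π.app (op i)) (q i) q₀ (hq₀ i) F₀, split (c.π.app (op i)) (q i) q₀ (hq₀ i) F₀,
      via_split _ _ _ _ F₀, split_via _ _ _ _ F₀⟩

theorem stagePsi_hom (i : κ) :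
    (stagePsi c q q₀ hq₀ F₀ hF i).hom = (EtCoh.pull (c.π.app (op i))).map (eqToHom (hF i)) ≫
      via (c.π.app (op i)) (q i) q₀ (hq₀ i) F₀ :=
  rfl

theorem stagePsi_comp ⦃i j : κ⦄ (hij : i ≤ j) :
    (stagePsi c q q₀ hq₀ F₀ hF i).hom = (EtLim.pullTransCone Ys c hij).hom.app (F i) ≫
      (EtCoh.pull (c.π.app (op j))).map (stagePhi q hq F₀ hF hij) ≫ (stagePsi c q q₀ hq₀ F₀ hF j).hom := by
  rw [stagePsi_hom, stagePsi_hom]
  have h := via_comp_cast (c.w (homOfLE hij).op).symm (EtLim.pullTransCone Ys c hij) (pullTransCone_eq c hij) (hq hij)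
    (hq₀ i) (hq₀ j) F₀ (hF i) (hF j) rfl
  rw [eqToHom_refl, Category.comp_id, Category.comp_id] at h
  exact h

theorem hPull_cast {X Y : Scheme.{u}} (f : X ⟶ Y) [PreservesFiniteLimits (EtCoh.pull f)] {P P' : EtCoh.Ab Y}
    (g : P ⟶ P') {M : EtCoh.Ab X} (α : (EtCoh.pull f).obj P' ⟶ M) (n : ℕ)
    (x : Ext.{u + 1} (EtCoh.const Y ℤ) P n) :
    hPull f α n (x.comp (Ext.mk₀ g) (add_zero n)) = hPull f ((EtCoh.pull f).map g ≫ α) n x :=
  (extPull_comp (EtCoh.pull f) (EtCore.pullConst f ℤ).inv ((EtCoh.pull f).map g ≫ α) α g (𝟙 M)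
    (Category.comp_id _).symm n x).trans (Ext.comp_mk₀_id _)

theorem hpull_eq {X Y : Scheme.{u}} (f : X ⟶ Y) [PreservesFiniteLimits (EtCoh.pull f)] (F : EtCoh.Ab Y) (n : ℕ)
    (x : Ext.{u + 1} (EtCoh.const Y ℤ) F n) :
    (EtCore.Hpull f F n x : Ext.{u + 1} (EtCoh.const X ℤ) ((EtCoh.pull f).obj F) n) =
      hPull f (𝟙 ((EtCoh.pull f).obj F)) n x :=
  extPull_id (EtCoh.pull f) (EtCore.pullConst f ℤ).inv n x

variable [∀ a, PreservesFiniteLimits (EtCoh.pull (c.π.app a))]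
  [hpl : ∀ ⦃a b : κᵒᵖ⦄ (h : a ⟶ b), PreservesFiniteLimits (EtCoh.pull (Ys.map h))]
  [IsDirected κ (· ≤ ·)] [Nonempty κ] (hc : IsLimit c)
  [haff : ∀ ⦃a b : κᵒᵖ⦄ (h : a ⟶ b), IsAffineHom (Ys.map h)]
  [hqc : ∀ a, CompactSpace ↥(Ys.obj a)] [hqs : ∀ a, QuasiSeparatedSpace ↥(Ys.obj a)]

include hc in
/-- The limit theorem for a system with constant colimit. -/
theorem system_const (F : ∀ i : κ, EtCoh.Ab (Ys.obj (op i)))
    (φ : ∀ ⦃i j : κ⦄ (h : i ≤ j), (EtCoh.pull (Ys.map (homOfLE h).op)).obj (F i) ⟶ F j)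
    (hφ : ∀ ⦃i j k : κ⦄ (hij : i ≤ j) (hjk : j ≤ k),
      φ (hij.trans hjk) = (EtLim.pullTrans Ys hij hjk).hom.app (F i) ≫
        (EtCoh.pull (Ys.map (homOfLE hjk).op)).map (φ hij) ≫ φ hjk)
    (M : EtCoh.Ab c.pt) (ψ : ∀ i : κ, (EtCoh.pull (c.π.app (op i))).obj (F i) ≅ M)
    (hψ : ∀ ⦃i j : κ⦄ (hij : i ≤ j), (ψ i).hom =
      (EtLim.pullTransCone Ys c hij).hom.app (F i) ≫ (EtCoh.pull (c.π.app (op j))).map (φ hij) ≫ (ψ j).hom)
    (n : ℕ) :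
    (∀ ξ : Ext.{u + 1} (EtCoh.const c.pt ℤ) M n,
      ∃ (j : κ) (ξj : Ext.{u + 1} (EtCoh.const (Ys.obj (op j)) ℤ) (F j) n),
        extPull (EtCoh.pull (proj c j)) (EtCore.pullConst (proj c j) ℤ).inv (ψ j).hom n ξj = ξ) ∧
    (∀ (j : κ) (ξj : Ext.{u + 1} (EtCoh.const (Ys.obj (op j)) ℤ) (F j) n),
      extPull (EtCoh.pull (proj c j)) (EtCore.pullConst (proj c j) ℤ).inv (ψ j).hom n ξj = 0 →
        ∃ (k : κ) (hk : j ≤ k),
          haveI : PreservesFiniteLimits (EtCoh.pull (tr Ys hk)) := hpl _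
          extPull (EtCoh.pull (tr Ys hk)) (EtCore.pullConst (tr Ys hk) ℤ).inv (φ hk) n ξj = 0) := by
  let G : κ ⥤ EtCoh.Ab c.pt := (Functor.const _).obj M
  have key := system_limit c F φ hφ G ψ (fun i j hij => (Category.comp_id _).trans (hψ hij)) hc n
  let d : colimit G ⟶ M := colimit.desc G { pt := M, ι := 𝟙 G }
  have hd : ∀ i, colimit.ι G i ≫ d = 𝟙 M := fun i => colimit.ι_desc _ i
  refine ⟨fun ξ => ?_, fun j ξj hξ => ?_⟩
  · let i' : κ := Classical.arbitrary κ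
    obtain ⟨j, ξj, h⟩ := key.1 (ξ.comp (Ext.mk₀ (colimit.ι G i')) (add_zero n))
    exact ⟨j, ξj, postcomp_eq _ _ _ _ d (hd j) _ (hd i') n ξj ξ h⟩
  · exact key.2 j ξj (postcomp_eq_zero _ _ _ (colimit.ι G j) _ rfl n ξj hξ)

include hq hc in
/-- The limit theorem for a sheaf pulled back from a common base. -/
theorem base_limit (n : ℕ) :
    (∀ ξ : Ext.{u + 1} (EtCoh.const c.pt ℤ) ((EtCoh.pull q₀).obj F₀) n,
      ∃ (j : κ) (ξj : Ext.{u + 1} (EtCoh.const (Ys.obj (op j)) ℤ) ((EtCoh.pull (q j)).obj F₀) n),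
        hPull (c.π.app (op j)) (via (c.π.app (op j)) (q j) q₀ (hq₀ j) F₀) n ξj = ξ) ∧
    (∀ (j : κ) (ξj : Ext.{u + 1} (EtCoh.const (Ys.obj (op j)) ℤ) ((EtCoh.pull (q j)).obj F₀) n),
      hPull (c.π.app (op j)) (via (c.π.app (op j)) (q j) q₀ (hq₀ j) F₀) n ξj = 0 →
        ∃ (k : κ) (hk : j ≤ k),
          haveI : PreservesFiniteLimits (EtCoh.pull (Ys.map (homOfLE hk).op)) := hpl _
          hPull (Ys.map (homOfLE hk).op) (𝟙 ((EtCoh.pull (Ys.map (homOfLE hk).op)).obj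
            ((EtCoh.pull (q j)).obj F₀))) n ξj = 0) := by
  have key := system_const c hc (stageObj q F₀) (stagePhi q hq F₀ (stageObj_def q F₀))
    (stagePhi_comp q hq F₀ (stageObj_def q F₀))
    ((EtCoh.pull q₀).obj F₀) (stagePsi c q q₀ hq₀ F₀ (stageObj_def q F₀))
    (stagePsi_comp c q hq q₀ hq₀ F₀ (stageObj_def q F₀)) n
  refine ⟨fun ξ => ?_, fun j ξj hξ => ?_⟩
  · obtain ⟨j, x, h⟩ := key.1 ξ
    rw [stagePsi_hom] at h
    exact ⟨j, x.comp (Ext.mk₀ (eqToHom (stageObj_def q F₀ j))) (add_zero n), (hPull_cast _ _ _ n x).trans h⟩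
  · obtain ⟨k, hk, h0⟩ := key.2 j (ξj.comp (Ext.mk₀ (eqToHom (stageObj_def q F₀ j).symm)) (add_zero n)) (by
      rw [stagePsi_hom]
      refine (hPull_cast _ _ _ n ξj).trans ?_
      exact (congrArg (fun m => hPull (c.π.app (op j)) m n ξj)
        (cast_cancel (EtCoh.pull (c.π.app (op j))) (stageObj_def q F₀ j) _)).trans hξ)
    refine ⟨k, hk, ?_⟩
    haveI : PreservesFiniteLimits (EtCoh.pull (Ys.map (homOfLE hk).op)) := hpl _
    refine postcomp_eq_zero _ _ _ (eqToHom (stageObj_def q F₀ k) ≫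
      split (Ys.map (homOfLE hk).op) (q j) (q k) (hq hk) F₀) _ ?_ n ξj ((hPull_cast _ _ _ n ξj).symm.trans h0)
    exact cast_cancel_split (EtCoh.pull (Ys.map (homOfLE hk).op)) (stageObj_def q F₀ j) (stageObj_def q F₀ k) _ _ _
      (via_split _ _ _ (hq hk) F₀)

end General

theorem hpullVia_eq {X Y Z : Scheme.{u}} (f : X ⟶ Y) (t : Y ⟶ Z) (f₀ : X ⟶ Z) (w : f ≫ t = f₀)
    [PreservesFiniteLimits (EtCoh.pull f)] (G : EtCoh.Ab Z) (n : ℕ)
    (x : Ext.{u + 1} (EtCoh.const Y ℤ) ((EtCoh.pull t).obj G) n) :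
    (EtCore.HpullVia f t f₀ w G n x : Ext.{u + 1} (EtCoh.const X ℤ) ((EtCoh.pull f₀).obj G) n) =
      hPull f (via f t f₀ w G) n x :=
  rfl

variable {ι : Type u} [Preorder ι]

/-- The indices above a given one. -/
abbrev Above (i₀ : ι) : Type u := {i : ι // i₀ ≤ i}

instance (i₀ : ι) : Nonempty (Above i₀) := ⟨⟨i₀, le_rfl⟩⟩

instance directed_above [IsDirected ι (· ≤ ·)] (i₀ : ι) : IsDirected (Above i₀) (· ≤ ·) :=
  ⟨fun a b => by
    obtain ⟨k, ha, hb⟩ := exists_ge_ge a.1 b.1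
    exact ⟨⟨k, a.2.trans ha⟩, ha, hb⟩⟩

/-- The inclusion of the indices above a given one. -/
def aboveIncl (i₀ : ι) : Above i₀ ⥤ ι := Monotone.functor (f := Subtype.val) (fun _ _ h => h)

theorem final_aboveIncl [IsDirected ι (· ≤ ·)] (i₀ : ι) : (aboveIncl i₀).Final := by
  refine Functor.final_of_exists_of_isFiltered _ (fun d => ?_) (fun {d} c s s' => ⟨c, 𝟙 _, ?_⟩)
  · obtain ⟨k, hd, hk⟩ := exists_ge_ge d i₀
    exact ⟨⟨k, hk⟩, ⟨homOfLE hd⟩⟩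
  · exact Subsingleton.elim _ _

variable {Xs : ιᵒᵖ ⥤ Scheme.{u}} (c : Cone Xs) (i₀ : ι) (F₀ : EtCoh.Ab (Xs.obj (op i₀)))
  [∀ a, PreservesFiniteLimits (EtCoh.pull (c.π.app a))]
  [hpl : ∀ ⦃a b : ιᵒᵖ⦄ (h : a ⟶ b), PreservesFiniteLimits (EtCoh.pull (Xs.map h))]
  [IsDirected ι (· ≤ ·)] (hc : IsLimit c)
  [haff : ∀ ⦃a b : ιᵒᵖ⦄ (h : a ⟶ b), IsAffineHom (Xs.map h)]
  [hqc : ∀ a, CompactSpace ↥(Xs.obj a)] [hqs : ∀ a, QuasiSeparatedSpace ↥(Xs.obj a)]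

include hc in
/-- The limit theorem for a sheaf pulled back from one stage. -/
theorem stage_limit (n : ℕ) :
    (∀ ξ : Ext.{u + 1} (EtCoh.const c.pt ℤ) ((EtCoh.pull (c.π.app (op i₀))).obj F₀) n,
      ∃ (j : ι) (hj : i₀ ≤ j)
        (ξj : Ext.{u + 1} (EtCoh.const (Xs.obj (op j)) ℤ) ((EtCoh.pull (Xs.map (homOfLE hj).op)).obj F₀) n),
        hPull (c.π.app (op j)) (via (c.π.app (op j)) (Xs.map (homOfLE hj).op) (c.π.app (op i₀))
          (c.w (homOfLE hj).op) F₀) n ξj = ξ) ∧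
    (∀ (j : ι) (hj : i₀ ≤ j)
      (ξj : Ext.{u + 1} (EtCoh.const (Xs.obj (op j)) ℤ) ((EtCoh.pull (Xs.map (homOfLE hj).op)).obj F₀) n),
      hPull (c.π.app (op j)) (via (c.π.app (op j)) (Xs.map (homOfLE hj).op) (c.π.app (op i₀))
          (c.w (homOfLE hj).op) F₀) n ξj = 0 →
        ∃ (k : ι) (hk : j ≤ k),
          haveI : PreservesFiniteLimits (EtCoh.pull (Xs.map (homOfLE hk).op)) := hpl _
          hPull (Xs.map (homOfLE hk).op) (𝟙 ((EtCoh.pull (Xs.map (homOfLE hk).op)).obj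
            ((EtCoh.pull (Xs.map (homOfLE hj).op)).obj F₀))) n ξj = 0) := by
  haveI := final_aboveIncl i₀
  let c' : Cone ((aboveIncl i₀).op ⋙ Xs) := c.whisker (aboveIncl i₀).op
  haveI : ∀ a, PreservesFiniteLimits (EtCoh.pull (c'.π.app a)) := fun a => inferInstanceAs
    (PreservesFiniteLimits (EtCoh.pull (c.π.app (op a.unop.1))))
  haveI : ∀ ⦃a b : (Above i₀)ᵒᵖ⦄ (h : a ⟶ b), PreservesFiniteLimits (EtCoh.pull (((aboveIncl i₀).op ⋙ Xs).map h)) :=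
    fun a b h => hpl _
  haveI : ∀ ⦃a b : (Above i₀)ᵒᵖ⦄ (h : a ⟶ b), IsAffineHom (((aboveIncl i₀).op ⋙ Xs).map h) := fun a b h => haff _
  haveI : ∀ a, CompactSpace ↥(((aboveIncl i₀).op ⋙ Xs).obj a) := fun a => hqc _
  haveI : ∀ a, QuasiSeparatedSpace ↥(((aboveIncl i₀).op ⋙ Xs).obj a) := fun a => hqs _
  have hc' : IsLimit c' := (Functor.Initial.isLimitWhiskerEquiv (aboveIncl i₀).op c).symm hc
  have key := base_limit (Ys := (aboveIncl i₀).op ⋙ Xs) c' (fun i : Above i₀ => Xs.map (homOfLE i.2).op)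
    (fun (i j : Above i₀) h => map_trans (Ys := Xs) i.2 h) (c.π.app (op i₀)) (fun i : Above i₀ => c.w (homOfLE i.2).op) F₀ hc' n
  refine ⟨fun ξ => ?_, fun j hj ξj hξ => ?_⟩
  · obtain ⟨j, ξj, h⟩ := key.1 ξ
    exact ⟨j.1, j.2, ξj, h⟩
  · obtain ⟨k, hk, h⟩ := key.2 ⟨j, hj⟩ ξj hξ
    exact ⟨k.1, hk, h⟩

end Groth.Agent.EtLimit
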