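import Groth.Agent.EtLimit.Pull
import Groth.Agent.EtCechLib.Cartan

/-!
# Sections vanishing on the limit vanish at a stage
-/

set_option autoImplicit false
set_option linter.all false
set_option backward.isDefEq.respectTransparency.types false
set_option backward.isDefEq.respectTransparency false
set_option backward.defeqAttrib.useBackward true
set_option synthInstance.maxHeartbeats 400000
set_option maxHeartbeats 1000000

universe u

open CategoryTheory Limits AlgebraicGeometry Opposite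

namespace Groth.Agent.EtLimit

variable {ι : Type u} [Preorder ι] {Xs : ιᵒᵖ ⥤ Scheme.{u}} {c : Cone Xs}

/-- A section is zero when it is zero locally in the same fibre. -/
theorem eq_zero_of_local (E : Ab Xs) {A : Obj Xs} (x : E.obj.obj (op A))
    (h : ∀ p : A.V.left, ∃ (W : (St Xs A.idx).Etale) (f : (⟨A.idx, W⟩ : Obj Xs) ⟶ A),
      E.obj.map f.op x = 0 ∧ p ∈ Set.range (show Hom ⟨A.idx, W⟩ A from f).hom) : x = 0 := by
  let R : Sieve A :=
    { arrows := fun B f => E.obj.map f.op x = 0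
      downward_closed := fun {B B'} f hf m => by
        rw [op_comp, Functor.map_comp]
        show E.obj.map m.op (E.obj.map f.op x) = 0
        rw [hf, map_zero] }
  have hR : R ∈ topology Xs A := fun p => by
    obtain ⟨W, f, h0, hp⟩ := h p
    exact ⟨W, f, h0, hp⟩
  refine ((Presheaf.isSheaf_iff_isSheaf_forget (topology Xs) E.obj
    (CategoryTheory.forget AddCommGrpCat.{u + 1})).1 E.property |>
    (isSheaf_iff_isSheaf_of_type _ _).1) R hR |>.isSeparatedFor.ext fun B g hg => ?_
  show E.obj.map g.op x = E.obj.map g.op 0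
  rw [map_zero]
  exact hg

/-- The point of the base change over a point of the limit. -/
noncomputable def toSt (c : Cone Xs) {j k : ι} (h : j ≤ k) (V : (St Xs j).Etale) :
    pullback V.hom (proj c j) ⟶ pullback V.hom (tr Xs h) :=
  pullback.lift (pullback.fst V.hom (proj c j)) (pullback.snd V.hom (proj c j) ≫ proj c k)
    (pullback.condition.trans ((congrArg (_ ≫ ·) (proj_tr c h).symm).trans (Category.assoc _ _ _).symm))

/-- The transition maps between base changes. -/
noncomputable def stMap {j k l : ι} (h : j ≤ k) (h' : j ≤ l) (hkl : k ≤ l) (V : (St Xs j).Etale) :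
    push' h' V ⟶ push' h V :=
  toPush (down h' V) h hkl

theorem toSt_stMap {j k l : ι} (h : j ≤ k) (h' : j ≤ l) (hkl : k ≤ l) (V : (St Xs j).Etale) :
    toSt c h' V ≫ (show Hom (push' h' V) (push' h V) from stMap h h' hkl V).hom = toSt c h V := by
  refine pullback.hom_ext ?_ ?_
  · refine (Category.assoc _ _ _).trans ((congrArg (_ ≫ ·) (pullback.lift_fst _ _ _)).trans ?_)
    exact (pullback.lift_fst _ _ _).trans (pullback.lift_fst _ _ _).symm
  · refine (Category.assoc _ _ _).trans ((congrArg (_ ≫ ·) (pullback.lift_snd _ _ _)).trans ?_)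
    refine (Category.assoc _ _ _).symm.trans ((congrArg (· ≫ _) (pullback.lift_snd _ _ _)).trans ?_)
    exact (Category.assoc _ _ _).trans ((congrArg (_ ≫ ·) (proj_tr c hkl)).trans (pullback.lift_snd _ _ _).symm)

variable [IsDirected ι (· ≤ ·)] [Nonempty ι] (hc : IsLimit c)
  [haff : ∀ ⦃a b : ιᵒᵖ⦄ (h : a ⟶ b), IsAffineHom (Xs.map h)]

include hc in
theorem compactSpace_limitPullback {j : ι} (V : (St Xs j).Etale) [CompactSpace V.left] :
    CompactSpace ↥(pullback V.hom (proj c j)) := by
  haveI : ∀ {a b : ιᵒᵖ} (f : a ⟶ b), IsAffineHom (Xs.map f) := fun f => haff f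
  haveI := isAffineHom_π_app Xs c hc (op j)
  haveI : IsAffineHom (pullback.fst V.hom (proj c j)) := MorphismProperty.pullback_fst _ _ inferInstance
  haveI : CompactSpace ↥((𝟭 Scheme.{u}).obj V.left) := ‹CompactSpace V.left›
  exact QuasiCompact.compactSpace_of_compactSpace (pullback.fst V.hom (proj c j))

include hc in
/-- An open of a stage containing the limit contains a later stage. -/
theorem exists_stage_subset {j k : ι} (h : j ≤ k) (V : (St Xs j).Etale) [CompactSpace V.left]
    (U : (pullback V.hom (tr Xs h)).Opens) (hU : ∀ p, toSt c h V p ∈ U) :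
    ∃ (l : ι) (hkl : k ≤ l), ∀ q : ↥(pullback V.hom (tr Xs (h.trans hkl))),
      (show Hom (push' (h.trans hkl) V) (push' h V) from stMap h (h.trans hkl) hkl V).hom q ∈ U := by
  haveI : ∀ {a b : ιᵒᵖ} (f : a ⟶ b), IsAffineHom (Xs.map f) := fun f => haff f
  let i : Over (op j) := Over.mk (homOfLE h).op
  haveI : CompactSpace ↥((𝟭 Scheme.{u}).obj V.left) := ‹CompactSpace V.left›
  haveI : ∀ o, CompactSpace ↥((H8Lim.stage Xs V.hom).obj o) := fun o => inferInstance
  have sq := IsPullback.of_hasPullback V.hom (proj c j)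
  let cc := H8Lim.stageCone V.hom c _ _ sq
  have key : cc.π.app i = toSt c h V := by
    refine pullback.hom_ext ?_ ?_
    · exact (H8Lim.stageProj_fst V.hom c _ _ sq i).trans (pullback.lift_fst _ _ _).symm
    · exact (H8Lim.stageProj_snd V.hom c _ _ sq i).trans (pullback.lift_snd _ _ _).symm
  obtain ⟨o, φ, ho⟩ := exists_map_eq_top (H8Lim.stage Xs V.hom) cc
    (H8Lim.isLimitStageCone V.hom _ _ sq hc) (i := i) U (by
      rw [← top_le_iff]
      intro p _
      show cc.π.app i p ∈ U
      rw [key]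
      exact hU p)
  have hkl : k ≤ o.left.unop := leOfHom φ.left.unop
  refine ⟨o.left.unop, hkl, fun q => ?_⟩
  have e : (H8Lim.stage Xs V.hom).map φ =
      (show Hom (push' (h.trans hkl) V) (push' h V) from stMap h (h.trans hkl) hkl V).hom := by
    refine pullback.hom_ext ?_ ?_
    · exact (H8Lim.stageMap_fst Xs V.hom φ).trans (pullback.lift_fst _ _ _).symm
    · exact (H8Lim.stageMap_snd Xs V.hom φ).trans (pullback.lift_snd _ _ _).symm
  rw [← e]
  exact ho.ge (TopologicalSpace.Opens.mem_top q)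

include hc in
/-- A section of a quasi-compact object which dies on the limit dies at a later stage. -/
theorem exists_map_down_eq_zero (E : Ab Xs) {j : ι} (V : (St Xs j).Etale) [CompactSpace V.left]
    (x : E.obj.obj (op (⟨j, V⟩ : Obj Xs))) (h : theta c E ⟨j, V⟩ x = 0) :
    ∃ (k : ι) (hk : j ≤ k), E.obj.map (down hk V).op x = 0 := by
  classical
  haveI : Presheaf.IsLocallyInjective c.pt.smallEtaleTopology (sheafMap c E) :=
    inferInstanceAs (Presheaf.IsLocallyInjective _ (toSheafify c.pt.smallEtaleTopology (pre c E)))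
  have hmem := Presheaf.equalizerSieve_mem c.pt.smallEtaleTopology (sheafMap c E)
    ((preUnit c E).app (op (⟨j, V⟩ : Obj Xs)) x) 0 (h.trans (map_zero _).symm)
  obtain ⟨hL⟩ := isPointwise_preUnit c E
  have hloc : ∀ p : ↥(pullback V.hom (proj c j)), ∃ (k : ι) (hk : j ≤ k)
      (W : (St Xs k).Etale) (m : (⟨k, W⟩ : Obj Xs) ⟶ push' hk V),
      E.obj.map (m ≫ down hk V).op x = 0 ∧ toSt c hk V p ∈ Set.range (show Hom ⟨k, W⟩ (push' hk V) from m).hom := by
    intro p
    obtain ⟨Z, f, hf, z, hz⟩ := EtCechLib.exists_mem_of_mem hmem p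
    have h0 : LanAb.el (phi c) (preUnit c E) (⟨j, V⟩ : Obj Xs) f x = 0 := hf.trans (map_zero _)
    haveI := isCofiltered_phi c Z
    obtain ⟨⟨k, W⟩, m, h', hh', hm⟩ := LanAb.el_eq_zero (phi c) (preUnit c E) hL f x h0
    let mm : Hom (⟨k, W⟩ : Obj Xs) ⟨j, V⟩ := m
    refine ⟨k, mm.le, W, toPush m mm.le le_rfl, by rw [toPush_down]; exact hm,
      (h'.left ≫ pullback.fst W.hom (proj c k)) z, ?_⟩
    have e : (h'.left ≫ pullback.fst W.hom (proj c k)) ≫
        (show Hom ⟨k, W⟩ (push' mm.le V) from toPush m mm.le le_rfl).hom = f.left ≫ toSt c mm.le V := by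
      refine pullback.hom_ext ?_ ?_
      · refine (Category.assoc _ _ _).trans ((congrArg (_ ≫ ·) (pullback.lift_fst _ _ _)).trans ?_)
        refine Eq.trans ?_ ((congrArg (f.left ≫ ·) (pullback.lift_fst _ _ _)).symm.trans (Category.assoc _ _ _).symm)
        refine (Category.assoc _ _ _).trans ((congrArg (h'.left ≫ ·) (phiHom_fst c m).symm).trans ?_)
        exact (Category.assoc _ _ _).symm.trans
          (congrArg (fun t : Z ⟶ (phi c).obj ⟨j, V⟩ => t.left ≫ pullback.fst V.hom (proj c j)) hh')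
      · refine (Category.assoc _ _ _).trans ((congrArg (_ ≫ ·) (pullback.lift_snd _ _ _)).trans ?_)
        refine Eq.trans ?_ ((congrArg (f.left ≫ ·) (pullback.lift_snd _ _ _)).symm.trans (Category.assoc _ _ _).symm)
        refine ((congrArg (_ ≫ ·) (comp_tr_refl Xs W.hom le_rfl)).trans (w_phi c h')).trans ?_
        exact (congrArg (· ≫ proj c k) (CategoryTheory.Over.w f.hom).symm).trans (Category.assoc _ _ _)
    rw [← hz]
    exact congrArg (fun t => t z) e
  choose k hk W m hm hp using hloc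
  have hopen : ∀ p, IsOpen (Set.range (show Hom ⟨k p, W p⟩ (push' (hk p) V) from m p).hom) := fun p => by
    haveI := etale_of_hom (A := push' (hk p) V) (W := W p) (m p)
    exact (show Hom ⟨k p, W p⟩ (push' (hk p) V) from m p).hom.isOpenMap.isOpen_range
  haveI := compactSpace_limitPullback hc V
  obtain ⟨s, hs⟩ := isCompact_univ.elim_finite_subcover
    (fun p => toSt c (hk p) V ⁻¹' Set.range (show Hom ⟨k p, W p⟩ (push' (hk p) V) from m p).hom)
    (fun p => (hopen p).preimage (toSt c (hk p) V).continuous) (fun p _ => Set.mem_iUnion.2 ⟨p, hp p⟩)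
  obtain ⟨k₁, hk₁⟩ := (insert j (s.image k)).exists_le
  have hj₁ : j ≤ k₁ := hk₁ j (Finset.mem_insert_self _ _)
  have hs₁ : ∀ p : s, k p.1 ≤ k₁ := fun p => hk₁ _ (Finset.mem_insert_of_mem (Finset.mem_image_of_mem k p.2))
  let st : ∀ p : s, Hom (push' hj₁ V) (push' (hk p.1) V) := fun p => stMap (hk p.1) hj₁ (hs₁ p) V
  let U : (pullback V.hom (tr Xs hj₁)).Opens :=
    ⟨⋃ p : s, (st p).hom ⁻¹' Set.range (show Hom ⟨k p.1, W p.1⟩ (push' (hk p.1) V) from m p.1).hom,
      isOpen_iUnion fun p => (hopen p.1).preimage (st p).hom.continuous⟩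
  obtain ⟨l, hl, hlU⟩ := exists_stage_subset hc hj₁ V U fun q => by
    obtain ⟨p, hps, hq⟩ := Set.mem_iUnion₂.1 (hs (Set.mem_univ q))
    refine Set.mem_iUnion.2 ⟨⟨p, hps⟩, ?_⟩
    have e := congrArg (fun t => t q) (toSt_stMap (c := c) (hk p) hj₁ (hs₁ ⟨p, hps⟩) V)
    exact Set.mem_preimage.2 (e ▸ hq)
  refine ⟨l, hj₁.trans hl, eq_zero_of_local E _ fun q => ?_⟩
  obtain ⟨p, w, hw⟩ := Set.mem_iUnion.1 (hlU q)
  let a : push' (hj₁.trans hl) V ⟶ push' (hk p.1) V := stMap hj₁ (hj₁.trans hl) hl V ≫ st p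
  let ah : Hom (push' (hj₁.trans hl) V) (push' (hk p.1) V) := a
  let mh : Hom (⟨k p.1, W p.1⟩ : Obj Xs) (push' (hk p.1) V) := m p.1
  haveI : Etale mh.hom := etale_of_hom (A := push' (hk p.1) V) (W := W p.1) (m p.1)
  haveI : Etale ((EtCoh.bc (tr Xs (hj₁.trans hl))).obj V).hom := ((EtCoh.bc (tr Xs (hj₁.trans hl))).obj V).prop
  let T : (St Xs l).Etale :=
    Scheme.Etale.mk (pullback.fst ah.hom mh.hom ≫ ((EtCoh.bc (tr Xs (hj₁.trans hl))).obj V).hom)
  let f : (⟨l, T⟩ : Obj Xs) ⟶ push' (hj₁.trans hl) V :=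
    ⟨le_rfl, pullback.fst ah.hom mh.hom, (comp_tr_refl Xs _ _).symm⟩
  let g : (⟨l, T⟩ : Obj Xs) ⟶ ⟨k p.1, W p.1⟩ := ⟨ah.le, pullback.snd ah.hom mh.hom, by
    refine (congrArg (_ ≫ ·) (etale_hom (A := push' (hk p.1) V) (W := W p.1) (m p.1)).symm).trans ((Category.assoc _ _ _).symm.trans ?_)
    refine (congrArg (· ≫ _) pullback.condition.symm).trans ((Category.assoc _ _ _).trans ?_)
    exact (congrArg (_ ≫ ·) ah.w).trans (Category.assoc _ _ _).symm⟩
  have e : f ≫ down (hj₁.trans hl) V = g ≫ m p.1 ≫ down (hk p.1) V := by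
    have h1 : a ≫ down (hk p.1) V = down (hj₁.trans hl) V := by
      simp only [a, st, stMap, Category.assoc, toPush_down]
    rw [← h1, ← Category.assoc, ← Category.assoc]
    exact congrArg (· ≫ down (hk p.1) V) (hom_ext (f := f ≫ a) (g := g ≫ m p.1) (pullback.condition (f := ah.hom) (g := mh.hom)))
  obtain ⟨t, ht, -⟩ := Scheme.Pullback.exists_preimage_pullback (f := ah.hom) (g := mh.hom) q w hw.symm
  refine ⟨T, f, ?_, t, ht⟩
  rw [← Functor.map_comp_apply, ← op_comp, e, op_comp, Functor.map_comp_apply, hm, map_zero]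

end Groth.Agent.EtLimit
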